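import Mathlib
import Cfsg.Agent.Lib.Block.AbelianTwo.SLTwo
import Cfsg.Agent.Lib.Classical.SLTwoSylow
import Cfsg.Agent.Lib.Lie.Sz.Partition
import Cfsg.Agent.Lib.Lie.Sz.Sylow
import Cfsg.Agent.Lib.Lie.Sz.Out
import Cfsg.Agent.Lib.Lie.Sz.LieEquiv
import Cfsg.Agent.Lib.Fus.CTSimpleLinear

/-!
# Line groups of odd transpositions: the facts used about `SL₂(q)` and `Sz(q)`
-/

set_option autoImplicit false
set_option linter.unusedSectionVars false
set_option linter.style.haveILetI false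

open scoped commutatorElement

namespace Cfsg.Agent.Fus.OTLine

universe u v

/-- The elements squaring to `1` of a subgroup. -/
def omegaOne {B : Type u} [Group B] (S : Subgroup B) : Set B := {w | w ∈ S ∧ w * w = 1}

theorem omegaOne_map {B : Type u} {C : Type v} [Group B] [Group C] (φ : B ≃* C) (S : Subgroup B) :
    omegaOne (S.map φ.toMonoidHom) = φ '' omegaOne S := by
  ext c
  constructor
  · rintro ⟨⟨b, hb, rfl⟩, h2⟩
    refine ⟨b, ⟨hb, φ.injective ?_⟩, rfl⟩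
    rw [map_mul, map_one]; exact h2
  · rintro ⟨b, ⟨hb, h2⟩, rfl⟩
    exact ⟨⟨b, hb, rfl⟩, by rw [← map_mul, h2, map_one]⟩

theorem ncard_omegaOne_map {B : Type u} {C : Type v} [Group B] [Group C] (φ : B ≃* C) (S : Subgroup B) :
    (omegaOne (S.map φ.toMonoidHom)).ncard = (omegaOne S).ncard := by
  rw [omegaOne_map]
  exact Set.ncard_image_of_injective _ φ.injective

theorem ncard_omegaOne_sylow {B : Type u} [Group B] [Finite B] (S T : Sylow 2 B) :
    (omegaOne (T : Subgroup B)).ncard = (omegaOne (S : Subgroup B)).ncard := by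
  haveI : Fact (Nat.Prime 2) := ⟨Nat.prime_two⟩
  obtain ⟨g, rfl⟩ := MulAction.exists_smul_eq B S T
  rw [Sylow.coe_subgroup_smul, Subgroup.pointwise_smul_def]
  exact ncard_omegaOne_map (MulAut.conj g) S.toSubgroup

/-- What is used about `SL₂(q)`, `q` even. -/
structure L2Facts (B : Type u) [Group B] (q : ℕ) : Prop where
  comm : ∀ S : Sylow 2 B, ∀ x ∈ (S : Subgroup B), ∀ y ∈ (S : Subgroup B), x * y = y * x
  sq : ∀ S : Sylow 2 B, ∀ x ∈ (S : Subgroup B), x * x = 1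
  cyc : ∀ p : ℕ, p.Prime → p ≠ 2 → ∀ P : Sylow p B, IsCyclic (P : Subgroup B)
  card : ∀ S : Sylow 2 B, (omegaOne (S : Subgroup B)).ncard = q
  three : 3 ∣ Nat.card B
  pos : 4 ≤ q

/-- What is used about the Suzuki groups. -/
structure SzFacts (B : Type u) [Group B] (q : ℕ) : Prop where
  cyc : ∀ p : ℕ, p.Prime → p ≠ 2 → ∀ P : Sylow p B, IsCyclic (P : Subgroup B)
  card : ∀ S : Sylow 2 B, (omegaOne (S : Subgroup B)).ncard = q
  three : ¬ 3 ∣ Nat.card B
  sq_dvd : q ^ 2 + 1 ∣ Nat.card B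
  pos : 4 ≤ q
  comm_ne : ∀ S : Sylow 2 B, ∃ g₁ ∈ (S : Subgroup B), ∃ g₂ ∈ (S : Subgroup B),
    ⁅g₁, g₂⁆ ∈ omegaOne (S : Subgroup B) ∧ ⁅g₁, g₂⁆ ≠ 1
  tor : ∀ S : Sylow 2 B, ∃ t : B, Odd (orderOf t) ∧ (∀ x ∈ (S : Subgroup B), t * x * t⁻¹ ∈ (S : Subgroup B)) ∧
    ∀ a ∈ omegaOne (S : Subgroup B), ∀ b ∈ omegaOne (S : Subgroup B), a ≠ 1 → b ≠ 1 →
      ∃ i : ℕ, t ^ i * a * (t ^ i)⁻¹ = b
  inner : ∀ φ : MulAut B, (∃ k : ℕ, φ ^ (2 ^ k) = 1) → ∃ b : B, φ = MulAut.conj b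
  cent : ∀ w : B, w * w = 1 → w ≠ 1 → ∀ a₁ a₂ b₁ b₂ : B, a₁ * w = w * a₁ → a₂ * w = w * a₂ →
    b₁ * w = w * b₁ → b₂ * w = w * b₂ → a₁ * b₁ = b₁ * a₁ → a₁ * b₂ = b₂ * a₁ → a₂ * b₁ = b₁ * a₂ →
    a₂ * b₂ = b₂ * a₂ → a₁ * a₂ = a₂ * a₁ ∨ b₁ * b₂ = b₂ * b₁

section SL

variable {F : Type u} [Field F] [Fintype F] [CharP F 2]

local notation "SS" => Matrix.SpecialLinearGroup (Fin 2) F

theorem l2Facts_sl (h4 : 4 ≤ Fintype.card F) : L2Facts SS (Fintype.card F) := by
  classical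
  haveI : Fact (Nat.Prime 2) := ⟨Nat.prime_two⟩
  refine ⟨fun S x hx y hy => ?_, fun S => Block.AbTwo.SLTwo.sylow_sq S, fun p hp hp2 P => ?_, fun S => ?_, ?_, h4⟩
  · have hsq := Block.AbTwo.SLTwo.sylow_sq S
    have h := hsq _ (mul_mem hx hy)
    have hxi : x⁻¹ = x := inv_eq_of_mul_eq_one_right (hsq x hx)
    have hyi : y⁻¹ = y := inv_eq_of_mul_eq_one_right (hsq y hy)
    rw [← eq_inv_iff_mul_eq_one, mul_inv_rev, hxi, hyi] at h
    exact h
  · haveI := Fact.mk hp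
    obtain ⟨n, -, hn⟩ := FiniteField.card F 2
    exact Classical.SLTwoSylow.isCyclic_sylow_SL hp2 (fun hd => hp2 ((Nat.prime_dvd_prime_iff_eq hp Nat.prime_two).1
      (hp.dvd_of_dvd_pow (hn ▸ hd)))) P
  · have h : omegaOne (S : Subgroup SS) = ((S : Subgroup SS) : Set SS) :=
      Set.ext fun x => ⟨fun h => h.1, fun h => ⟨h, Block.AbTwo.SLTwo.sylow_sq S x h⟩⟩
    rw [h, ← Nat.card_coe_set_eq]
    exact Block.AbTwo.SLTwo.card_sylow S
  · obtain ⟨n, -, hn⟩ := FiniteField.card F 2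
    rw [Block.SL2Char.card_SS_nat, hn]
    have h3 : ¬ 3 ∣ 2 ^ (n : ℕ) := fun h => by
      have := Nat.prime_three.dvd_of_dvd_pow h
      omega
    have h1 : (2 ^ (n : ℕ)) ^ 2 % 3 = 1 := by
      have : 2 ^ (n : ℕ) % 3 = 1 ∨ 2 ^ (n : ℕ) % 3 = 2 := by omega
      rcases this with h | h <;> rw [Nat.pow_mod, h]
    exact Dvd.dvd.mul_left (by omega) _

end SL

section Suzuki

open Cfsg.Agent.Suz

variable {F : Type u} [Field F] [Fintype F] {m : ℕ} (hS : SzField F m)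

include hS

theorem omegaOne_unip : omegaOne (unip hS) = Set.range fun b => uS hS 0 b := by
  haveI := Suz.charP hS
  ext g
  constructor
  · rintro ⟨hg, h2⟩
    obtain ⟨a, b, rfl⟩ := (mem_unip hS).1 hg
    rw [← pow_two, uS_sq, ← uS_zero hS] at h2
    have h := (uS_injective hS h2).2
    have ha : a = 0 := (mul_eq_zero.1 h).elim (fun h' => th_eq_zero.1 h') id
    exact ⟨b, by rw [ha]⟩
  · rintro ⟨b, rfl⟩
    exact ⟨uS_mem hS 0 b, by rw [← pow_two, uS_sq, th_zero, zero_mul, uS_zero]⟩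

theorem szFacts_model : SzFacts ↥(Cfsg.Sz F m) (Fintype.card F) := by
  classical
  haveI := Suz.charP hS
  haveI : Fact (Nat.Prime 2) := ⟨Nat.prime_two⟩
  have hcard : ∀ S : Sylow 2 ↥(Cfsg.Sz F m), (omegaOne (S : Subgroup ↥(Cfsg.Sz F m))).ncard = Fintype.card F := by
    intro S
    rw [ncard_omegaOne_sylow (sylowU hS) S, coe_sylowU, omegaOne_unip hS,
      Set.ncard_range_of_injective fun b b' h => (uS_injective hS h).2, Nat.card_eq_fintype_card]
  refine ⟨fun p hp hp2 P => ?_, hcard, ?_, ?_, (by have := eight_le hS; omega), fun S => ?_, fun S => ?_, ?_, ?_⟩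
  · haveI := Fact.mk hp
    exact sylow_odd_cyclic hS hp2 P
  · have h1 : 2 ^ (2 * m + 1) % 3 = 2 := by rw [pow_succ, pow_mul, Nat.mul_mod, Nat.pow_mod]; norm_num
    have h2 : 1 ≤ 2 ^ (2 * m + 1) := Nat.one_le_two_pow
    have h3 : (2 ^ (2 * m + 1)) ^ 2 % 3 = 1 := by rw [Nat.pow_mod, h1]
    rw [card_Sz hS, Nat.prime_three.dvd_mul, Nat.prime_three.dvd_mul]
    omega
  · rw [card_Sz hS, hS.card]
    exact Dvd.dvd.mul_right (Dvd.dvd.mul_left dvd_rfl _) _
  · obtain ⟨c, hc⟩ := exists_th_add_ne hS (m := m)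
    obtain ⟨g, hg⟩ := MulAction.exists_smul_eq ↥(Cfsg.Sz F m) (sylowU hS) S
    have hmem : ∀ x, x ∈ (S : Subgroup ↥(Cfsg.Sz F m)) ↔ g⁻¹ * x * g ∈ unip hS := by
      intro x
      rw [← hg, Sylow.coe_subgroup_smul, coe_sylowU, Subgroup.pointwise_smul_def]
      constructor
      · rintro ⟨w, hw, rfl⟩
        simpa [mul_assoc] using hw
      · intro h
        exact ⟨_, h, by simp [mul_assoc]⟩
    have hcm : ⁅g * uS hS 1 0 * g⁻¹, g * uS hS c 0 * g⁻¹⁆ = g * uS hS 0 (th m c + c) * g⁻¹ := by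
      have e := comm_uS hS 1 c 0 0
      rw [th_one, one_mul, mul_one, add_comm c] at e
      rw [← e, commutatorElement_def]
      group
    refine ⟨g * uS hS 1 0 * g⁻¹, (hmem _).2 (by simpa [mul_assoc] using uS_mem hS 1 0), g * uS hS c 0 * g⁻¹,
      (hmem _).2 (by simpa [mul_assoc] using uS_mem hS c 0), ⟨?_, ?_⟩, ?_⟩
    · rw [hcm]
      exact (hmem _).2 (by simpa [mul_assoc] using uS_mem hS 0 (th m c + c))
    · rw [hcm, show g * uS hS 0 (th m c + c) * g⁻¹ * (g * uS hS 0 (th m c + c) * g⁻¹) =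
        g * (uS hS 0 (th m c + c) ^ 2) * g⁻¹ by rw [pow_two]; group, uS_sq, th_zero, zero_mul, uS_zero, mul_one,
        mul_inv_cancel]
    · rw [hcm, Ne, conj_eq_one_iff]
      exact uS_ne_one hS (by simp [hc])
  · obtain ⟨ζ, hζ⟩ := IsCyclic.exists_generator (α := Fˣ)
    obtain ⟨g, hg⟩ := MulAction.exists_smul_eq ↥(Cfsg.Sz F m) (sylowU hS) S
    have hmem : ∀ x, x ∈ (S : Subgroup ↥(Cfsg.Sz F m)) ↔ g⁻¹ * x * g ∈ unip hS := by
      intro x
      rw [← hg, Sylow.coe_subgroup_smul, coe_sylowU, Subgroup.pointwise_smul_def]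
      constructor
      · rintro ⟨w, hw, rfl⟩
        simpa [mul_assoc] using hw
      · intro h
        exact ⟨_, h, by simp [mul_assoc]⟩
    have hpow : ∀ i : ℕ, hTor hS (ζ ^ i) = hTor hS ζ ^ i := fun i => map_pow (torHom hS) ζ i
    have hodd : Odd (orderOf (hTor hS ζ)) := by
      have h1 : orderOf (hTor hS ζ) ∣ Fintype.card Fˣ :=
        orderOf_dvd_of_pow_eq_one (by rw [← hpow, pow_card_eq_one]; exact hTor_one hS)
      rw [Fintype.card_units, hS.card] at h1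
      exact (Nat.Even.sub_odd Nat.one_le_two_pow (Nat.even_pow.2 ⟨even_two, by omega⟩) odd_one).of_dvd_nat h1
    refine ⟨g * hTor hS ζ * g⁻¹, ?_, fun x hx => ?_, fun a ha b hb ha1 hb1 => ?_⟩
    · rw [← MulAut.conj_apply, MulEquiv.orderOf_eq]
      exact hodd
    · obtain ⟨a, b, hab⟩ := (mem_unip hS).1 ((hmem x).1 hx)
      refine (hmem _).2 ?_
      rw [show g⁻¹ * (g * hTor hS ζ * g⁻¹ * x * (g * hTor hS ζ * g⁻¹)⁻¹) * g =
        hTor hS ζ * (g⁻¹ * x * g) * (hTor hS ζ)⁻¹ by group, hab, hTor_conj]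
      exact uS_mem hS _ _
    · have hco : ∀ x, x ∈ omegaOne (S : Subgroup ↥(Cfsg.Sz F m)) → x ≠ 1 →
          ∃ b : F, b ≠ 0 ∧ x = g * uS hS 0 b * g⁻¹ := fun x hx hx1 => by
        have : g⁻¹ * x * g ∈ omegaOne (unip hS) := ⟨(hmem x).1 hx.1, by
          rw [show g⁻¹ * x * g * (g⁻¹ * x * g) = g⁻¹ * (x * x) * g by group, hx.2, mul_one, inv_mul_cancel]⟩
        rw [omegaOne_unip hS] at this
        obtain ⟨b, hb⟩ := this
        refine ⟨b, fun e => hx1 ?_, ?_⟩
        · rw [show x = g * (g⁻¹ * x * g) * g⁻¹ by group, ← hb]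
          show g * uS hS 0 b * g⁻¹ = 1
          rw [e, uS_zero, mul_one, mul_inv_cancel]
        · simp only at hb
          rw [hb]; group
      obtain ⟨a', ha', rfl⟩ := hco a ha ha1
      obtain ⟨b', hb', rfl⟩ := hco b hb hb1
      obtain ⟨z, hz⟩ := exists_th_unit hS (b' / a') (div_ne_zero hb' ha')
      obtain ⟨i, rfl⟩ := (mem_powers_iff_mem_zpowers.2 (hζ z) : z ∈ Submonoid.powers ζ)
      refine ⟨i, ?_⟩
      rw [conj_pow, ← hpow, show g * hTor hS (ζ ^ i) * g⁻¹ * (g * uS hS 0 a' * g⁻¹) *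
        (g * hTor hS (ζ ^ i) * g⁻¹)⁻¹ = g * (hTor hS (ζ ^ i) * uS hS 0 a' * (hTor hS (ζ ^ i))⁻¹) * g⁻¹ by group,
        hTor_conj, hz, mul_zero, div_mul_cancel₀ _ ha']
  · rintro φ ⟨k, hk⟩
    have hne : Nat.card (Cfsg.Out ↥(Cfsg.Sz F m)) = 2 * m + 1 := card_Out hS
    have h1 : orderOf ((QuotientGroup.mk φ : Cfsg.Out ↥(Cfsg.Sz F m))) ∣ 2 ^ k :=
      orderOf_dvd_of_pow_eq_one (by rw [← QuotientGroup.mk_pow, hk]; rfl)
    have h2 : orderOf ((QuotientGroup.mk φ : Cfsg.Out ↥(Cfsg.Sz F m))) ∣ 2 * m + 1 :=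
      hne ▸ orderOf_dvd_natCard _
    have h3 : (QuotientGroup.mk φ : Cfsg.Out ↥(Cfsg.Sz F m)) = 1 :=
      orderOf_eq_one_iff.1 (Nat.eq_one_of_dvd_coprimes
        (Nat.Coprime.pow_left k (Nat.coprime_two_left.2 ⟨m, rfl⟩)) h1 h2)
    obtain ⟨b, hb⟩ := (QuotientGroup.eq_one_iff φ).1 h3
    exact ⟨b, hb.symm⟩
  · intro w hw hw1 a₁ a₂ b₁ b₂ ha₁ ha₂ hb₁ hb₂ h11 h12 h21 h22
    obtain ⟨T, hT⟩ := (IsPGroup.of_card (n := 1) (by
      rw [Nat.card_zpowers, pow_one]; exact orderOf_eq_prime (by rw [pow_two]; exact hw) hw1) :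
      IsPGroup 2 (Subgroup.zpowers w)).exists_le_sylow
    obtain ⟨c, hc⟩ := exists_conj_unip hS T
    obtain ⟨v, hv, hvw⟩ : ∃ v ∈ unip hS, MulAut.conj c v = w := by
      have := hT (Subgroup.mem_zpowers w)
      rw [hc] at this
      exact this
    have hv1 : v ≠ 1 := fun h => hw1 (by rw [← hvw, h, map_one])
    have hin : ∀ a, a * w = w * a → ∃ x y, a = MulAut.conj c (uS hS x y) := by
      intro a ha
      have h : (MulAut.conj c).symm a ∈ unip hS := centralizer_unip_le hS hv hv1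
        (Subgroup.mem_centralizer_singleton_iff.2 ((MulAut.conj c).injective (by
          rw [map_mul, map_mul, MulEquiv.apply_symm_apply, hvw, ha])))
      obtain ⟨x, y, hxy⟩ := (mem_unip hS).1 h
      exact ⟨x, y, by rw [← hxy, MulEquiv.apply_symm_apply]⟩
    have hiff : ∀ x y x' y' : F, uS hS x y * uS hS x' y' = uS hS x' y' * uS hS x y ↔
        th m x * x' = th m x' * x := by
      intro x y x' y'
      rw [uS_mul, uS_mul, add_comm x' x]
      constructor
      · intro h; linear_combination (uS_injective hS h).2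
      · intro h; congr 1; linear_combination h
    have hzero : ∀ x x' : F, x ≠ 0 → th m x * x' = th m x' * x → x' = 0 ∨ x' = x := by
      intro x x' hx h
      have hf : th m (x' / x) = x' / x := by
        rw [th_div, div_eq_div_iff (th_ne_zero hx) hx, ← h, mul_comm]
      rcases th_fixed hS hf with e | e
      · exact Or.inl ((div_eq_zero_iff.1 e).resolve_right hx)
      · exact Or.inr ((div_eq_one_iff_eq hx).1 e)
    obtain ⟨x₁, y₁, rfl⟩ := hin a₁ ha₁
    obtain ⟨x₂, y₂, rfl⟩ := hin a₂ ha₂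
    obtain ⟨u₁, v₁, rfl⟩ := hin b₁ hb₁
    obtain ⟨u₂, v₂, rfl⟩ := hin b₂ hb₂
    simp only [← map_mul, EmbeddingLike.apply_eq_iff_eq, hiff] at h11 h12 h21 h22 ⊢
    refine or_iff_not_imp_left.2 fun hne => ?_
    have hx1 : x₁ ≠ 0 := fun e => hne (by rw [e, th_zero, zero_mul, mul_zero])
    have hx2 : x₂ ≠ 0 := fun e => hne (by rw [e, th_zero, zero_mul, mul_zero])
    have hxx : x₁ ≠ x₂ := fun e => hne (by rw [e])
    have key : ∀ u, th m x₁ * u = th m u * x₁ → th m x₂ * u = th m u * x₂ → u = 0 := by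
      intro u h h'
      rcases hzero x₁ u hx1 h with e | e
      · exact e
      rcases hzero x₂ u hx2 h' with e' | e'
      · exact e'
      · exact absurd (e.symm.trans e') hxx
    rw [key u₁ h11 h21, key u₂ h12 h22]

end Suzuki

section Congr

variable {B : Type u} {C : Type v} [Group B] [Group C] [Finite B] [Finite C] (e : B ≃* C)

include e

theorem omegaOne_back (S : Sylow 2 C) :
    (omegaOne (S : Subgroup C)).ncard =
      (omegaOne ((S.mapSurjective (f := e.symm.toMonoidHom) (show Function.Surjective e.symm.toMonoidHom from e.symm.surjective) : Sylow 2 B) : Subgroup B)).ncard := by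
  rw [Sylow.coe_mapSurjective, ncard_omegaOne_map]

theorem cyc_congr (h : ∀ p : ℕ, p.Prime → p ≠ 2 → ∀ P : Sylow p B, IsCyclic (P : Subgroup B))
    (p : ℕ) (hp : p.Prime) (hp2 : p ≠ 2) (P : Sylow p C) : IsCyclic (P : Subgroup C) := by
  haveI := Fact.mk hp
  have := h p hp hp2 (P.mapSurjective (f := e.symm.toMonoidHom) (show Function.Surjective e.symm.toMonoidHom from e.symm.surjective))
  rw [Sylow.coe_mapSurjective] at this
  exact (MulEquiv.isCyclic ((P : Subgroup C).equivMapOfInjective _ e.symm.injective)).2 this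

theorem mem_back (S : Sylow 2 C) (x : B) :
    x ∈ ((S.mapSurjective (f := e.symm.toMonoidHom) (show Function.Surjective e.symm.toMonoidHom from e.symm.surjective) :
      Sylow 2 B) : Subgroup B) ↔ e x ∈ (S : Subgroup C) := by
  rw [Sylow.coe_mapSurjective]
  exact Subgroup.mem_map_equiv

theorem L2Facts.congr {q : ℕ} (h : L2Facts B q) : L2Facts C q := by
  haveI : Fact (Nat.Prime 2) := ⟨Nat.prime_two⟩
  refine ⟨fun S x hx y hy => ?_, fun S x hx => ?_, cyc_congr e h.cyc, fun S => ?_,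
    Nat.card_congr e.toEquiv ▸ h.three, h.pos⟩
  · refine e.symm.injective ?_
    rw [map_mul, map_mul]
    exact h.comm (S.mapSurjective (f := e.symm.toMonoidHom) (show Function.Surjective e.symm.toMonoidHom from e.symm.surjective)) _ ⟨x, hx, rfl⟩ _ ⟨y, hy, rfl⟩
  · refine e.symm.injective ?_
    rw [map_mul, map_one]
    exact h.sq (S.mapSurjective (f := e.symm.toMonoidHom) (show Function.Surjective e.symm.toMonoidHom from e.symm.surjective)) _ ⟨x, hx, rfl⟩
  · rw [omegaOne_back e]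
    exact h.card _

theorem SzFacts.congr {q : ℕ} (h : SzFacts B q) : SzFacts C q := by
  haveI : Fact (Nat.Prime 2) := ⟨Nat.prime_two⟩
  refine ⟨cyc_congr e h.cyc, fun S => ?_, Nat.card_congr e.toEquiv ▸ h.three,
    Nat.card_congr e.toEquiv ▸ h.sq_dvd, h.pos, fun S => ?_, fun S => ?_, ?_, ?_⟩
  · rw [omegaOne_back e]
    exact h.card _
  · obtain ⟨g₁, hg₁, g₂, hg₂, ⟨hw, hw2⟩, hw1⟩ :=
      h.comm_ne (S.mapSurjective (f := e.symm.toMonoidHom) (show Function.Surjective e.symm.toMonoidHom from e.symm.surjective))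
    refine ⟨e g₁, (mem_back e S _).1 hg₁, e g₂, (mem_back e S _).1 hg₂, ⟨?_, ?_⟩, ?_⟩
    · rw [← map_commutatorElement]
      exact (mem_back e S _).1 hw
    · rw [← map_commutatorElement, ← map_mul, hw2, map_one]
    · rw [← map_commutatorElement]
      exact fun h1 => hw1 (e.map_eq_one_iff.1 h1)
  · obtain ⟨t, hodd, ht, htr⟩ :=
      h.tor (S.mapSurjective (f := e.symm.toMonoidHom) (show Function.Surjective e.symm.toMonoidHom from e.symm.surjective))
    have hom : ∀ a, a ∈ omegaOne (S : Subgroup C) → e.symm a ∈ omegaOne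
        ((S.mapSurjective (f := e.symm.toMonoidHom) (show Function.Surjective e.symm.toMonoidHom from e.symm.surjective) : Sylow 2 B) : Subgroup B) :=
      fun a ha => ⟨(mem_back e S _).2 (by simpa using ha.1), by rw [← map_mul, ha.2, map_one]⟩
    refine ⟨e t, by rwa [MulEquiv.orderOf_eq], fun x hx => ?_, fun a ha b hb ha1 hb1 => ?_⟩
    · have := (mem_back e S _).1 (ht (e.symm x) ((mem_back e S _).2 (by simpa using hx)))
      simpa using this
    · obtain ⟨i, hi⟩ := htr _ (hom a ha) _ (hom b hb) (fun h1 => ha1 (e.symm.map_eq_one_iff.1 h1))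
        (fun h1 => hb1 (e.symm.map_eq_one_iff.1 h1))
      refine ⟨i, ?_⟩
      simpa using congrArg e hi
  · rintro φ ⟨k, hk⟩
    obtain ⟨b, hb⟩ := h.inner ((MulAut.congr e).symm φ) ⟨k, by rw [← map_pow, hk, map_one]⟩
    refine ⟨e b, MulEquiv.ext fun x => ?_⟩
    have := congrArg e (DFunLike.congr_fun hb (e.symm x))
    simpa using this
  · intro w hw hw1 a₁ a₂ b₁ b₂ c1 c2 c3 c4 c5 c6 c7 c8
    have he : ∀ x y : C, x * y = y * x → e.symm x * e.symm y = e.symm y * e.symm x := fun x y hxy => by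
      rw [← map_mul, ← map_mul, hxy]
    rcases h.cent (e.symm w) (by rw [← map_mul, hw, map_one]) (fun h1 => hw1 (e.symm.map_eq_one_iff.1 h1))
      (e.symm a₁) (e.symm a₂) (e.symm b₁) (e.symm b₂) (he _ _ c1) (he _ _ c2) (he _ _ c3) (he _ _ c4)
      (he _ _ c5) (he _ _ c6) (he _ _ c7) (he _ _ c8) with h' | h'
    · exact Or.inl (e.symm.injective (by rw [map_mul, map_mul, h']))
    · exact Or.inr (e.symm.injective (by rw [map_mul, map_mul, h']))

end Congr

/-- The facts for a group isomorphic to `PSL₂(F)`. -/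
theorem l2Facts_psl {B : Type v} [Group B] [Finite B] {F : Type u} [Field F] [Fintype F] (hc : CharP F 2)
    (h4 : 4 ≤ Fintype.card F)
    (e : B ≃* Matrix.ProjectiveSpecialLinearGroup (Fin 2) F) : L2Facts B (Fintype.card F) := by
  haveI := hc
  have hbot : Subgroup.center (Matrix.SpecialLinearGroup (Fin 2) F) = ⊥ :=
    Fus.CTSimple.center_eq_bot_of_two CharTwo.two_eq_zero
  exact L2Facts.congr (e.trans ((QuotientGroup.quotientMulEquivOfEq hbot).trans QuotientGroup.quotientBot)).symm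
    (l2Facts_sl h4)

/-- The facts for a group isomorphic to a Suzuki group. -/
theorem szFacts_suzuki {B : Type v} [Group B] [Finite B] (h : Cfsg.Lie.IsoSuzuki B) :
    ∃ q : ℕ, SzFacts B q := by
  obtain ⟨F, i1, i2, m, hm, hF, ⟨e⟩⟩ := h
  have hS : Suz.SzField F m := ⟨hm, hF⟩
  exact ⟨_, SzFacts.congr ((Suz.szEquiv hS).trans e.symm) (szFacts_model hS)⟩

end Cfsg.Agent.Fus.OTLine
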