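import Mathlib
import Cfsg.Agent.Lib.Invol.Dihedral
import Cfsg.Agent.Lib.Fus.TightCriterion.Basic

/-!
# Odd transpositions on an intrinsic set

`Setup S`: `S` is a set of involutions, invariant under its members, two members commute or have a product
of odd order, the graph of non-commuting members is connected and some product of commuting members is a
member.  The group is `closure S`; no hypothesis on the ambient group.
-/

set_option autoImplicit false
set_option linter.unusedSectionVars false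

namespace Cfsg.Agent.Fus.OddTransp

variable {G : Type*} [Group G]

/-- Paths in `S` through pairs that do not commute. -/
def Linked (S : Set G) (a b : G) : Prop :=
  Relation.ReflTransGen (fun u v => u ∈ S ∧ v ∈ S ∧ ¬ Commute u v) a b

/-- The commuting graph of `S` is connected. -/
def Connected (S : Set G) : Prop :=
  ∀ a ∈ S, ∀ b ∈ S, Relation.ReflTransGen (fun u v => u ∈ S ∧ v ∈ S ∧ Commute u v) a b

/-- `a` and `b` have the same commuting members. -/
def Same (S : Set G) (a b : G) : Prop := ∀ e ∈ S, (Commute e a ↔ Commute e b)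

/-- The members with the same commuting members as `c`. -/
def Cl (S : Set G) (c : G) : Set G := {e | e ∈ S ∧ Same S c e}

/-- The residue: commuting members outside the class of `c`. -/
def Res (S : Set G) (c : G) : Set G := {f | f ∈ S ∧ Commute f c ∧ ¬ Same S c f}

/-- The component of `x` in the graph of non-commuting members of `T`. -/
def Comp (T : Set G) (x : G) : Set G := {y | y ∈ T ∧ Linked T x y}

/-- A maximal set of pairwise commuting members. -/
def MaxClique (S A : Set G) : Prop :=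
  A ⊆ S ∧ (∀ a ∈ A, ∀ b ∈ A, Commute a b) ∧ ∀ x ∈ S, (∀ a ∈ A, Commute x a) → x ∈ A

/-- A class of odd transpositions with a triple, on an intrinsic set. -/
structure Setup (S : Set G) : Prop where
  inv : ∀ a ∈ S, orderOf a = 2
  conj : ∀ a ∈ S, ∀ b ∈ S, b * a * b⁻¹ ∈ S
  pair : ∀ a ∈ S, ∀ b ∈ S, Commute a b ∨ Odd (orderOf (a * b))
  conn : ∀ a ∈ S, ∀ b ∈ S, Linked S a b
  triple : ∃ a ∈ S, ∃ b ∈ S, a ≠ b ∧ Commute a b ∧ a * b ∈ S

variable {S T : Set G}

theorem Linked.symm {a b : G} (h : Linked S a b) : Linked S b a := by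
  induction h with
  | refl => exact .refl
  | tail _ hbc ih => exact ih.head ⟨hbc.2.1, hbc.1, fun e => hbc.2.2 e.symm⟩

theorem Same.symm {a b : G} (h : Same S a b) : Same S b a := fun e he => (h e he).symm

theorem Same.trans {a b c : G} (h : Same S a b) (h' : Same S b c) : Same S a c :=
  fun e he => (h e he).trans (h' e he)

theorem Same.refl (a : G) : Same S a a := fun _ _ => Iff.rfl

theorem Same.commute {a b : G} (h : Same S a b) (ha : a ∈ S) : Commute a b :=
  (h a ha).1 (Commute.refl a)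

theorem self_mem_cl {c : G} (hc : c ∈ S) : c ∈ Cl S c := ⟨hc, Same.refl c⟩

theorem Res.subset (S : Set G) (c : G) : Res S c ⊆ S := fun _ h => h.1

theorem Comp.subset (T : Set G) (x : G) : Comp T x ⊆ T := fun _ h => h.1

theorem Comp.step {x y z : G} (hy : y ∈ Comp T x) (hz : z ∈ T) (hn : ¬ Commute y z) : z ∈ Comp T x :=
  ⟨hz, hy.2.tail ⟨hy.1, hz, hn⟩⟩

theorem Comp.linked {x y : G} (hy : y ∈ Comp T x) : Linked (Comp T x) x y := by
  obtain ⟨-, h⟩ := hy
  induction h with
  | refl => exact .refl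
  | tail hb hbc ih =>
    exact ih.tail ⟨⟨hbc.1, hb⟩, ⟨hbc.2.1, hb.tail hbc⟩, hbc.2.2⟩

theorem commute_conj {a b : G} (h : Commute a b) (g : G) :
    Commute (g * a * g⁻¹) (g * b * g⁻¹) := by
  show g * a * g⁻¹ * (g * b * g⁻¹) = g * b * g⁻¹ * (g * a * g⁻¹)
  calc g * a * g⁻¹ * (g * b * g⁻¹) = g * (a * b) * g⁻¹ := by group
    _ = g * (b * a) * g⁻¹ := by rw [h.eq]
    _ = _ := by group

theorem commute_conj_iff {a b : G} (g : G) :
    Commute (g * a * g⁻¹) (g * b * g⁻¹) ↔ Commute a b := by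
  refine ⟨fun h => ?_, fun h => commute_conj h g⟩
  have := commute_conj h g⁻¹
  simpa [mul_assoc] using this

theorem conj_eq_self_of_commute {g a : G} (h : Commute g a) : g * a * g⁻¹ = a := by
  rw [h.eq, mul_inv_cancel_right]

theorem pow_eq_of_odd {w : G} {n : ℕ} (hn : orderOf w = 2 * n + 1) : (w ^ 2) ^ (n + 1) = w := by
  rw [← pow_mul, show 2 * (n + 1) = orderOf w + 1 by omega, pow_succ, pow_orderOf_eq_one, one_mul]

/-- A product of commuting elements of orders `2` and odd has even order. -/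
theorem not_odd_mul {w z : G} (hz : orderOf z = 2) (h : Commute w z) (hw : Odd (orderOf w)) :
    ¬ Odd (orderOf (w * z)) := by
  rw [h.orderOf_mul_eq_mul_orderOf_of_coprime (by rw [hz]; exact hw.coprime_two_right), hz]
  exact fun e => Nat.not_even_iff_odd.2 e (even_two.mul_left _)

namespace Setup

variable (h : Setup S)
include h

theorem mul_self {a : G} (ha : a ∈ S) : a * a = 1 := Invol.mul_self_of_orderOf_two (h.inv a ha)

theorem inv_eq {a : G} (ha : a ∈ S) : a⁻¹ = a := Invol.inv_of_orderOf_two (h.inv a ha)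

theorem ne_one {a : G} (ha : a ∈ S) : a ≠ 1 := Invol.ne_one_of_orderOf_two (h.inv a ha)

theorem nonempty : S.Nonempty := let ⟨a, ha, _⟩ := h.triple; ⟨a, ha⟩

theorem conj_self {a b : G} (ha : a ∈ S) (hb : b ∈ S) : b * a * b ∈ S := by
  simpa [h.inv_eq hb] using h.conj a ha b hb

theorem odd_of_not_commute {a b : G} (ha : a ∈ S) (hb : b ∈ S) (hn : ¬ Commute a b) :
    Odd (orderOf (a * b)) := (h.pair a ha b hb).resolve_left hn

theorem mul_sq_of_commute {a b : G} (ha : a ∈ S) (hb : b ∈ S) (hc : Commute a b) :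
    a * b * (a * b) = 1 := by
  rw [mul_assoc, ← mul_assoc b a b, ← hc.eq, mul_assoc a b b, h.mul_self hb, mul_one, h.mul_self ha]

theorem orderOf_mul_of_commute {a b : G} (ha : a ∈ S) (hb : b ∈ S) (hc : Commute a b) (hne : a ≠ b) :
    orderOf (a * b) = 2 :=
  Invol.orderOf_two_iff.2 ⟨h.mul_sq_of_commute ha hb hc,
    fun e => hne ((mul_eq_one_iff_eq_inv.1 e).trans (h.inv_eq hb))⟩

theorem inverts {a b : G} (ha : a ∈ S) (hb : b ∈ S) : b * (a * b) * b⁻¹ = (a * b)⁻¹ := by
  rw [_root_.mul_inv_rev, h.inv_eq ha, h.inv_eq hb]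
  rw [mul_assoc, mul_assoc, h.mul_self hb, mul_one]

/-- Members with a product of odd order are conjugate by an element centralising what centralises both. -/
theorem exists_conj_of_not_commute {a b : G} (ha : a ∈ S) (hb : b ∈ S) (hn : ¬ Commute a b) :
    ∃ k ∈ Subgroup.closure S, (∀ g, Commute g a → Commute g b → Commute g k) ∧ k * b * k⁻¹ = a := by
  obtain ⟨n, hn'⟩ := h.odd_of_not_commute ha hb hn
  refine ⟨(a * b) ^ (n + 1), pow_mem (mul_mem (Subgroup.subset_closure ha) (Subgroup.subset_closure hb)) _,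
    fun g h1 h2 => (h1.mul_right h2).pow_right _, ?_⟩
  rw [Tight.conj_pow_of_inverts (h.inverts ha hb),
    show n + 1 + (n + 1) = orderOf (a * b) + 1 by omega, pow_succ, pow_orderOf_eq_one, one_mul,
    mul_assoc, h.mul_self hb, mul_one]

theorem conj_mem {g a : G} (hg : g ∈ Subgroup.closure S) (ha : a ∈ S) : g * a * g⁻¹ ∈ S := by
  suffices ∀ a ∈ S, g * a * g⁻¹ ∈ S ∧ g⁻¹ * a * g ∈ S from (this a ha).1
  induction hg using Subgroup.closure_induction with
  | mem y hy =>
    intro a ha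
    rw [h.inv_eq hy]
    exact ⟨h.conj_self ha hy, h.conj_self ha hy⟩
  | one => intro a ha; simpa using ha
  | mul u v _ _ ihu ihv =>
    intro a ha
    refine ⟨?_, ?_⟩
    · rw [show u * v * a * (u * v)⁻¹ = u * (v * a * v⁻¹) * u⁻¹ by group]
      exact (ihu _ (ihv a ha).1).1
    · rw [show (u * v)⁻¹ * a * (u * v) = v⁻¹ * (u⁻¹ * a * u) * v by group]
      exact (ihv _ (ihu a ha).2).2
  | inv u _ ih => intro a ha; rw [inv_inv]; exact (ih a ha).symm

theorem conj_mem_iff {g a : G} (hg : g ∈ Subgroup.closure S) : g * a * g⁻¹ ∈ S ↔ a ∈ S := by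
  refine ⟨fun ha => ?_, h.conj_mem hg⟩
  simpa [mul_assoc] using h.conj_mem (inv_mem hg) ha

theorem exists_conj {a b : G} (ha : a ∈ S) (hb : b ∈ S) :
    ∃ g ∈ Subgroup.closure S, g * a * g⁻¹ = b := by
  have hl := h.conn a ha b hb
  clear hb
  induction hl with
  | refl => exact ⟨1, one_mem _, by group⟩
  | @tail u v _ huv ih =>
    obtain ⟨g, hg, rfl⟩ := ih
    obtain ⟨k, hk, -, hkv⟩ := h.exists_conj_of_not_commute huv.2.1 huv.1 fun e => huv.2.2 e.symm
    exact ⟨k * g, mul_mem hk hg, by rw [← hkv]; group⟩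

/-- A member not commuting with a given one. -/
theorem exists_far {a : G} (ha : a ∈ S) : ∃ b ∈ S, ¬ Commute a b := by
  obtain ⟨p, hp, q, hq, hne, -⟩ := h.triple
  obtain ⟨b, hb, hab⟩ : ∃ b ∈ S, a ≠ b := by
    by_cases e : a = p
    · exact ⟨q, hq, e ▸ hne⟩
    · exact ⟨p, hp, e⟩
  rcases Relation.ReflTransGen.cases_head (h.conn a ha b hb) with e | ⟨c, hc, -⟩
  · exact absurd e hab
  · exact ⟨c, hc.2.1, hc.2.2⟩

/-- `e` commutes with the product of two commuting members only if it commutes with both. -/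
theorem commute_of_commute_mul {a b e : G} (ha : a ∈ S) (hb : b ∈ S) (hne : a ≠ b) (hab : Commute a b)
    (he : e ∈ S) (hez : Commute e (a * b)) : Commute e a ∧ Commute e b := by
  have haz : Commute a (a * b) := (Commute.refl a).mul_right hab
  have heb : e * a * (a * b) = e * b := by
    rw [mul_assoc, ← mul_assoc a a b, h.mul_self ha, one_mul]
  suffices Commute e a by
    refine ⟨this, ?_⟩
    have h2 := this.mul_right hez
    rwa [← mul_assoc, h.mul_self ha, one_mul] at h2
  by_contra hn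
  rcases h.pair e he b hb with hc | ho
  · refine hn ?_
    have h2 := hez.mul_right hc
    rwa [mul_assoc, h.mul_self hb, mul_one] at h2
  · exact not_odd_mul (h.orderOf_mul_of_commute ha hb hab hne) (hez.mul_left haz)
      (h.odd_of_not_commute he ha hn) (heb ▸ ho)

/-- Commuting members with product a member have the same commuting members. -/
theorem same_of_mul_mem {a b : G} (ha : a ∈ S) (hb : b ∈ S) (hab : Commute a b) (hm : a * b ∈ S) :
    Same S a b := by
  suffices key : ∀ a ∈ S, ∀ b ∈ S, Commute a b → a * b ∈ S → ∀ e ∈ S, Commute e a → Commute e b from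
    fun e he => ⟨key a ha b hb hab hm e he, key b hb a ha hab.symm (hab.eq ▸ hm) e he⟩
  intro a ha b hb hab hm e he hea
  rcases h.pair _ hm e he with hc | ho
  · have h2 := hea.mul_right hc.symm
    rwa [← mul_assoc, h.mul_self ha, one_mul] at h2
  · by_contra hn
    refine not_odd_mul (h.inv a ha) (hab.symm.mul_left hea) (h.odd_of_not_commute hb he fun e1 => hn e1.symm) ?_
    rwa [← (hab.mul_right hea.symm).eq, ← mul_assoc]

theorem same_of_triple {a b : G} (ha : a ∈ S) (hb : b ∈ S) (hab : Commute a b) (hm : a * b ∈ S) :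
    Same S a (a * b) := by
  refine h.same_of_mul_mem ha hm ((Commute.refl a).mul_right hab) ?_
  rwa [← mul_assoc, h.mul_self ha, one_mul]

theorem exists_triple {a : G} (ha : a ∈ S) :
    ∃ b, b ∈ Cl S a ∧ b ≠ a ∧ Commute a b ∧ a * b ∈ Cl S a ∧ a * b ≠ a ∧ a * b ≠ b := by
  obtain ⟨p, hp, q, hq, hne, hpq, hm⟩ := h.triple
  obtain ⟨g, hg, rfl⟩ := h.exists_conj hp ha
  have hb := h.conj_mem hg hq
  have hc := commute_conj hpq g
  have hmul : g * p * g⁻¹ * (g * q * g⁻¹) = g * (p * q) * g⁻¹ := by group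
  have hm' : g * p * g⁻¹ * (g * q * g⁻¹) ∈ S := hmul ▸ h.conj_mem hg hm
  exact ⟨_, ⟨hb, h.same_of_mul_mem ha hb hc hm'⟩, fun e => hne (mul_left_cancel (mul_right_cancel e)).symm,
    hc, ⟨hm', h.same_of_triple ha hb hc hm'⟩, fun e => h.ne_one hb (mul_eq_left.1 e),
    fun e => h.ne_one ha (mul_eq_right.1 e)⟩

theorem not_commute_of_same {a b e : G} (hs : Same S a b) (he : e ∈ S) (hn : ¬ Commute e a) :
    ¬ Commute e b := fun hc => hn ((hs e he).2 hc)

theorem same_conj {g a b : G} (hg : g ∈ Subgroup.closure S) (hs : Same S a b) :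
    Same S (g * a * g⁻¹) (g * b * g⁻¹) := by
  intro e he
  have he' : g⁻¹ * e * g ∈ S := by simpa using h.conj_mem (inv_mem hg) he
  have h1 := hs _ he'
  rw [← commute_conj_iff (a := g⁻¹ * e * g) (b := a) g,
    ← commute_conj_iff (a := g⁻¹ * e * g) (b := b) g,
    show g * (g⁻¹ * e * g) * g⁻¹ = e by group] at h1
  exact h1

theorem same_conj_iff {g a b : G} (hg : g ∈ Subgroup.closure S) :
    Same S (g * a * g⁻¹) (g * b * g⁻¹) ↔ Same S a b := by
  refine ⟨fun hs => ?_, h.same_conj hg⟩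
  simpa [mul_assoc] using h.same_conj (inv_mem hg) hs

theorem cl_commute {c a b : G} (ha : a ∈ Cl S c) (hb : b ∈ Cl S c) : Commute a b :=
  (ha.2.symm.trans hb.2).commute ha.1

theorem conj_mem_res {g c f : G} (hg : g ∈ Subgroup.closure S) (hf : f ∈ Res S c) :
    g * f * g⁻¹ ∈ Res S (g * c * g⁻¹) :=
  ⟨h.conj_mem hg hf.1, commute_conj hf.2.1 g, fun e => hf.2.2 ((h.same_conj_iff hg).1 e)⟩

theorem res_symm {c f : G} (hc : c ∈ S) (hf : f ∈ Res S c) : c ∈ Res S f :=
  ⟨hc, hf.2.1.symm, fun e => hf.2.2 e.symm⟩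

theorem cl_subset_res {c f : G} (hc : c ∈ S) (hf : f ∈ Res S c) : Cl S f ⊆ Res S c :=
  fun _ he => ⟨he.1, ((he.2 c hc).1 hf.2.1.symm).symm, fun e => hf.2.2 (e.trans he.2.symm)⟩

theorem res_ne {c f : G} (hf : f ∈ Res S c) : f ≠ c := fun e => hf.2.2 (by rw [e]; exact Same.refl c)

/-- Members commuting with `c` not all commute with a member of its residue. -/
theorem exists_far_in_res [Finite G] {c f : G} (hc : c ∈ S) (hf : f ∈ Res S c) :
    ∃ e ∈ Res S c, ¬ Commute e f := by
  suffices ∃ e ∈ S, Commute e c ∧ ¬ Commute e f by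
    obtain ⟨e, he, hec, hef⟩ := this
    exact ⟨e, ⟨he, hec, fun hs => hef ((hs f hf.1).1 hf.2.1).symm⟩, hef⟩
  by_contra! hsub
  refine hf.2.2 ?_
  have hle : {e | e ∈ S ∧ Commute e c} ⊆ {e | e ∈ S ∧ Commute e f} := fun e he => ⟨he.1, hsub e he.1 he.2⟩
  obtain ⟨g, hg, hgc⟩ := h.exists_conj hc hf.1
  have himg : (fun e => g * e * g⁻¹) '' {e | e ∈ S ∧ Commute e c} = {e | e ∈ S ∧ Commute e f} := by
    refine Set.ext fun e => ⟨?_, fun he => ?_⟩
    · rintro ⟨e, he, rfl⟩
      exact ⟨h.conj_mem hg he.1, hgc ▸ commute_conj he.2 g⟩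
    · refine ⟨g⁻¹ * e * g, ⟨by simpa using h.conj_mem (inv_mem hg) he.1, ?_⟩, by group⟩
      rw [← commute_conj_iff g, hgc, show g * (g⁻¹ * e * g) * g⁻¹ = e by group]
      exact he.2
  have hcard : {e | e ∈ S ∧ Commute e f}.ncard = {e | e ∈ S ∧ Commute e c}.ncard := by
    rw [← himg]
    exact Set.ncard_image_of_injective _ fun u v huv => mul_left_cancel (mul_right_cancel huv)
  have heq := Set.eq_of_subset_of_ncard_le hle hcard.le
  intro e he
  exact ⟨fun hec => hsub e he hec, fun hef => (heq.ge ⟨he, hef⟩ : e ∈ {e | e ∈ S ∧ Commute e c}).2⟩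

/-- The reflection of `e` onto `d * e * d` is determined. -/
theorem reflection_unique {e d d' : G} (he : e ∈ S) (hd : d ∈ S) (hd' : d' ∈ S) (hn : ¬ Commute e d)
    (hn' : ¬ Commute e d') (heq : d * e * d = d' * e * d') : d = d' := by
  obtain ⟨n, hn1⟩ := h.odd_of_not_commute he hd hn
  obtain ⟨m, hm1⟩ := h.odd_of_not_commute he hd' hn'
  have hsq : (e * d) ^ 2 = (e * d') ^ 2 := by
    rw [pow_two, pow_two, show e * d * (e * d) = e * (d * e * d) by group,
      show e * d' * (e * d') = e * (d' * e * d') by group, heq]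
  have ho : orderOf ((e * d) ^ 2) = orderOf (e * d) :=
    Nat.Coprime.orderOf_pow (Odd.coprime_two_right ⟨n, hn1⟩)
  have ho' : orderOf ((e * d') ^ 2) = orderOf (e * d') :=
    Nat.Coprime.orderOf_pow (Odd.coprime_two_right ⟨m, hm1⟩)
  have hnm : n = m := by
    rw [← hsq, ho, hn1, hm1] at ho'
    omega
  have := pow_eq_of_odd hn1
  rw [hsq, hnm, pow_eq_of_odd hm1] at this
  exact mul_left_cancel this.symm

theorem commute_reflection {e d g : G} (he : e ∈ S) (hd : d ∈ S) (hn : ¬ Commute e d)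
    (hge : Commute g e) (hg : Commute g (d * e * d)) : Commute g d := by
  obtain ⟨n, hn1⟩ := h.odd_of_not_commute he hd hn
  have h2 : Commute g ((e * d) ^ 2) := by
    rw [pow_two, show e * d * (e * d) = e * (d * e * d) by group]
    exact hge.mul_right hg
  have h3 := h2.pow_right (n + 1)
  rw [pow_eq_of_odd hn1] at h3
  have h4 := hge.mul_right h3
  rwa [← mul_assoc, h.mul_self he, one_mul] at h4

/-- Two members that do not commute have a middle reflection. -/
theorem exists_middle {e e' : G} (he : e ∈ S) (he' : e' ∈ S) (hn : ¬ Commute e e') :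
    ∃ d ∈ S, ¬ Commute e d ∧ d * e * d = e' := by
  obtain ⟨n, hn1⟩ := h.odd_of_not_commute he he' hn
  obtain ⟨r, hr⟩ : ∃ r, r = e * e' := ⟨_, rfl⟩
  rw [← hr] at hn1
  have hr1 : r ∈ Subgroup.closure S :=
    hr ▸ mul_mem (Subgroup.subset_closure he) (Subgroup.subset_closure he')
  have hinv : e * r * e⁻¹ = r⁻¹ := by
    rw [hr]; exact Invol.conj_mul_eq_inv (h.inv e he) (h.inv e' he')
  have hre : ∀ i : ℕ, r ^ i * e = e * (r ^ i)⁻¹ := by
    intro i
    have h1 := Tight.conj_pow_of_inverts hinv i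
    have h2 : e * r ^ i * e⁻¹ = (r ^ i)⁻¹ := by rw [← conj_pow, hinv, inv_pow]
    rw [← h2, h.inv_eq he, ← mul_assoc, ← mul_assoc, h.mul_self he, one_mul]
  obtain ⟨i, hi⟩ : ∃ i : ℕ, i = (n + 1) * (n + 1) := ⟨_, rfl⟩
  have hii : r ^ i * r ^ i = r ^ (n + 1) := by
    rw [← pow_add, hi, show (n + 1) * (n + 1) + (n + 1) * (n + 1) = orderOf r * (n + 1) + (n + 1) by
      rw [hn1]; ring, pow_add, pow_mul, pow_orderOf_eq_one, one_pow, one_mul]
  obtain ⟨d, hd⟩ : ∃ d, d = e * r ^ (n + 1) := ⟨_, rfl⟩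
  have hdS : d ∈ S := by
    have h1 := h.conj_mem (inv_mem (pow_mem hr1 i)) he
    rw [inv_inv] at h1
    have h2 : (r ^ i)⁻¹ * e * r ^ i = d := by
      have h3 : (r ^ i)⁻¹ * e = e * r ^ i := by
        rw [inv_mul_eq_iff_eq_mul, ← mul_assoc, hre, mul_assoc, inv_mul_cancel, mul_one]
      rw [h3, mul_assoc, hii, hd]
    rwa [h2] at h1
  have hnd : ¬ Commute e d := by
    intro hc
    have h1 : (e * d) ^ 2 = 1 := by rw [pow_two]; exact h.mul_sq_of_commute he hdS hc
    rw [hd, ← mul_assoc, h.mul_self he, one_mul, ← pow_mul, Nat.mul_comm, pow_mul,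
      ← pow_mul r 2 (n + 1), pow_mul] at h1
    rw [pow_eq_of_odd hn1] at h1
    exact hn (by rw [hr] at h1; exact (mul_eq_one_iff_eq_inv.1 h1).trans (h.inv_eq he') ▸ Commute.refl _)
  refine ⟨d, hdS, hnd, ?_⟩
  have h5 : e * d * (e * d) = r := by
    rw [hd, ← mul_assoc e e, h.mul_self he, one_mul, ← pow_add,
      show n + 1 + (n + 1) = orderOf r + 1 by omega, pow_succ, pow_orderOf_eq_one, one_mul]
  rw [hr, mul_assoc] at h5
  rw [mul_assoc]
  exact mul_left_cancel h5

theorem comp_conj_mem (hinv : ∀ a ∈ T, ∀ b ∈ T, b * a * b⁻¹ ∈ T) {x y z : G}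
    (hy : y ∈ Comp T x) (hz : z ∈ Comp T x) : z * y * z⁻¹ ∈ Comp T x := by
  by_cases hc : Commute z y
  · rwa [conj_eq_self_of_commute hc]
  refine Comp.step hz (hinv y hy.1 z hz.1) fun e => hc ?_
  exact (commute_conj_iff z).1 (by rwa [mul_inv_cancel_right])

/-- A component containing a member with its whole class is again a setup. -/
theorem component (hT : T ⊆ S) (hinv : ∀ a ∈ T, ∀ b ∈ T, b * a * b⁻¹ ∈ T) {x c : G}
    (hc : c ∈ Comp T x) (hcl : Cl S c ⊆ T) {z : G} (hz : z ∈ T) (hcz : ¬ Commute c z) :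
    Setup (Comp T x) := by
  refine ⟨fun a ha => h.inv a (hT ha.1), fun a ha b hb => h.comp_conj_mem hinv ha hb,
    fun a ha b hb => h.pair a (hT ha.1) b (hT hb.1),
    fun a ha b hb => (Comp.linked ha).symm.trans (Comp.linked hb), ?_⟩
  obtain ⟨b, hb, hne, hcb, hm, -⟩ := h.exists_triple (hT hc.1)
  have hzc := Comp.step hc hz hcz
  have key : ∀ y ∈ Cl S c, y ∈ Comp T x := fun y hy =>
    Comp.step hzc (hcl hy) (h.not_commute_of_same hy.2 (hT hz) fun e => hcz e.symm)
  exact ⟨c, hc, b, key b hb, hne.symm, hcb, key _ hm⟩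

omit h in
/-- The members commuting with every element of `V` form a set invariant under its members. -/
theorem commutant_conj_mem {V : Set G} (hS : ∀ a ∈ S, ∀ b ∈ S, b * a * b⁻¹ ∈ S) :
    ∀ a ∈ {y | y ∈ S ∧ ∀ v ∈ V, Commute y v}, ∀ b ∈ {y | y ∈ S ∧ ∀ v ∈ V, Commute y v},
      b * a * b⁻¹ ∈ {y | y ∈ S ∧ ∀ v ∈ V, Commute y v} :=
  fun a ha b hb => ⟨hS a ha.1 b hb.1, fun v hv => ((hb.2 v hv).mul_left (ha.2 v hv)).mul_left (hb.2 v hv).inv_left⟩

theorem res_conj_mem {c : G} : ∀ a ∈ Res S c, ∀ b ∈ Res S c, b * a * b⁻¹ ∈ Res S c := by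
  intro a ha b hb
  have := h.conj_mem_res (Subgroup.subset_closure hb.1) ha
  rwa [conj_eq_self_of_commute hb.2.1] at this

/-- The basic trick: a middle reflection for some `c' * f`, and the involution it gives. -/
theorem trick {c f e : G} (hc : c ∈ S) (hf : f ∈ Res S c) (he : e ∈ S) (hec : ¬ Commute e c)
    (hef : ¬ Commute e f) :
    ∃ c' ∈ Cl S c, ∃ d ∈ S, ¬ Commute e d ∧ d * e * d = c' * f * e * (c' * f) ∧
      Commute d c ∧ Commute d c' ∧ Commute d f ∧ d ≠ f ∧ c' ≠ f ∧
      Commute (c' * f * d) e ∧ c' * f * d ≠ 1 ∧ c' * f * d * (c' * f * d) = 1 ∧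
      Commute (c' * f * d) c ∧ Commute (c' * f * d) f ∧ Commute (c' * f * d) d := by
  obtain ⟨b, hb, -, hcb, hm, -⟩ := h.exists_triple hc
  have hecb : ¬ Commute e (c * b) := h.not_commute_of_same hm.2 he hec
  have key : ∃ c' ∈ Cl S c, ¬ Commute e (c' * f * e * (c' * f)) := by
    by_contra! hall
    have h1 := hall c (self_mem_cl hc)
    have h2 := hall b hb
    obtain ⟨z, hz⟩ : ∃ z, z = c * f := ⟨_, rfl⟩
    obtain ⟨t, ht⟩ : ∃ t, t = c * b := ⟨_, rfl⟩
    rw [← hz] at h1
    rw [← ht] at hecb hm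
    have hct : Commute c t := ht ▸ (Commute.refl c).mul_right hcb
    have hft : Commute f t := (hm.2 f hf.1).1 hf.2.1
    have hbz : b * f = t * z := by
      rw [ht, hz, show c * b * (c * f) = c * (b * c) * f by group, ← hcb.eq,
        ← mul_assoc c c b, h.mul_self hc, one_mul]
    have htz : Commute t z := hz ▸ hct.symm.mul_right hft.symm
    rw [hbz] at h2
    obtain ⟨e1, he1⟩ : ∃ e1, e1 = z * e * z := ⟨_, rfl⟩
    have hzinv : z⁻¹ = z := inv_eq_of_mul_eq_one_right (hz ▸ h.mul_sq_of_commute hc hf.1 hf.2.1.symm)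
    have he1S : e1 ∈ S := by
      have := h.conj_mem (mul_mem (Subgroup.subset_closure hc) (Subgroup.subset_closure hf.1)) he
      rw [← hz, hzinv] at this
      exact he1 ▸ this
    have hn1 : ¬ Commute t e1 := fun hc1 => hecb (by
      have h3 := (htz.mul_right hc1).mul_right htz
      rwa [he1, show z * (z * e * z) * z = (z * z) * e * (z * z) by group,
        show z * z = 1 by rw [hz]; exact h.mul_sq_of_commute hc hf.1 hf.2.1.symm, one_mul, mul_one,
        Commute.symm_iff] at h3)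
    have h2' : Commute e (t * e1 * t) := by
      rw [he1, show t * (z * e * z) * t = t * z * e * (z * t) by group, ← htz.eq]
      exact h2
    exact hecb (h.commute_reflection he1S hm.1 (fun e' => hn1 e'.symm) (he1 ▸ h1) h2')
  obtain ⟨c', hc', hn⟩ := key
  have hc'f : Commute c' f := ((hc'.2 f hf.1).1 hf.2.1).symm
  have hne : c' ≠ f := fun e1 => hf.2.2 (e1 ▸ hc'.2)
  obtain ⟨z, hz⟩ : ∃ z, z = c' * f := ⟨_, rfl⟩
  have hzz : z * z = 1 := hz ▸ h.mul_sq_of_commute hc'.1 hf.1 hc'f
  have hzinv : z⁻¹ = z := inv_eq_of_mul_eq_one_right hzz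
  have hzcl : z ∈ Subgroup.closure S :=
    hz ▸ mul_mem (Subgroup.subset_closure hc'.1) (Subgroup.subset_closure hf.1)
  rw [← hz] at hn
  have he1 : z * e * z ∈ S := by simpa [hzinv] using h.conj_mem hzcl he
  obtain ⟨d, hd, hned, hde⟩ := h.exists_middle he he1 hn
  have hdd := h.mul_self hd
  have hzd : Commute z d := by
    have hd' : z * d * z ∈ S := by simpa [hzinv] using h.conj_mem hzcl hd
    have hback : d * (z * e * z) * d = e := by
      rw [← hde, show d * (d * e * d) * d = (d * d) * e * (d * d) by group, hdd, one_mul, mul_one]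
    have h1 : z * d * z * e * (z * d * z) = z * e * z := by
      calc z * d * z * e * (z * d * z) = z * (d * (z * e * z) * d) * z := by group
        _ = z * e * z := by rw [hback]
    have h2 : ¬ Commute e (z * d * z) := fun hc1 => by
      have h4 : z * d * z * e * (z * d * z) = e := by
        rw [← hc1.eq, mul_assoc, h.mul_self hd', mul_one]
      exact hn (by rw [← h1, h4])
    have heq := h.reflection_unique he hd hd' hned h2 (hde.trans h1.symm)
    show z * d = d * z
    nth_rw 2 [heq]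
    rw [mul_assoc (z * d) z z, hzz, mul_one]
  have hdA := h.commute_of_commute_mul hc'.1 hf.1 hne hc'f hd (hz ▸ hzd.symm)
  have hdc : Commute d c := (hc'.2 d hd).2 hdA.1
  have hu : Commute (z * d) e := by
    show z * d * e = e * (z * d)
    calc z * d * e = z * (d * e * d) * d := by rw [mul_assoc, mul_assoc, mul_assoc _ d d, hdd, mul_one]
      _ = e * (z * d) := by rw [hde, ← mul_assoc z (z * e) z, ← mul_assoc z z e, hzz, one_mul, mul_assoc]
  have hu1 : z * d ≠ 1 := fun e1 => by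
    have hzd' : z = d := (mul_eq_one_iff_eq_inv.1 e1).trans (h.inv_eq hd)
    exact hf.2.2 (hc'.2.trans (h.same_of_mul_mem hc'.1 hf.1 hc'f (hz ▸ hzd' ▸ hd)))
  have hdf : d ≠ f := by
    rintro rfl
    refine h.not_commute_of_same hc'.2 he hec ?_
    rw [hz, mul_assoc, hdd, mul_one] at hu
    exact hu.symm
  have hcd : Commute c z := hz ▸ (hc'.2.commute hc).mul_right hf.2.1.symm
  refine ⟨c', hc', d, hd, hned, hz ▸ hde, hdc, hdA.1, hdA.2, hdf, hne, hz ▸ hu, hz ▸ hu1, ?_,
    hz ▸ hcd.symm.mul_left hdc, ?_, hz ▸ hzd.mul_left (Commute.refl d)⟩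
  · rw [← hz, mul_assoc, ← mul_assoc d z d, ← hzd.eq, mul_assoc z d d, hdd, mul_one, hzz]
  · exact (hc'f.mul_left (Commute.refl f)).mul_left hdA.2

end Setup

end Cfsg.Agent.Fus.OddTransp
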