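import Mathlib
import Cfsg.Agent.Lib.Fus.OddTransp.Basic
import Cfsg.Agent.Lib.Fus.RootInvSimple
import Cfsg.Agent.Lib.Fus.RootCriterion.Dichotomy

/-!
# The centre over the 2-core of a setup, and the simple quotient

`core S` is `twoZCore` of `closure S`; `bar S` is the image in the quotient, a setup with trivial core.
-/

set_option autoImplicit false
set_option linter.unusedSectionVars false
set_option linter.style.haveILetI false

namespace Cfsg.Agent.Fus.OddTransp

open Subgroup

universe u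

variable {G : Type u} [Group G]

/-- `twoZCore (closure S)` as a subgroup of the ambient group. -/
def core (S : Set G) : Subgroup G := (Cfsg.twoZCore ↥(closure S)).map (closure S).subtype

/-- The members as elements of the group they generate. -/
def inGroup (S : Set G) : Set ↥(closure S) := Subtype.val ⁻¹' S

/-- The simple quotient. -/
abbrev Quot' (S : Set G) : Type u := ↥(closure S) ⧸ Cfsg.twoZCore ↥(closure S)

/-- The image of `S` in the simple quotient. -/
def bar (S : Set G) : Set (Quot' S) := QuotientGroup.mk' (Cfsg.twoZCore ↥(closure S)) '' inGroup S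

/-- The image of a member. -/
def img (S : Set G) {a : G} (ha : a ∈ S) : Quot' S :=
  QuotientGroup.mk' (Cfsg.twoZCore ↥(closure S)) ⟨a, subset_closure ha⟩

/-- No two different members are congruent modulo the core. -/
def Reduced (S : Set G) : Prop := ∀ a ∈ S, ∀ b ∈ S, a * b ∈ core S → a = b

variable {S : Set G}

theorem core_le : core S ≤ closure S := map_subtype_le _

theorem mem_core {u : G} (hu : u ∈ closure S) :
    u ∈ core S ↔ (⟨u, hu⟩ : ↥(closure S)) ∈ Cfsg.twoZCore ↥(closure S) :=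
  ⟨fun ⟨v, hv, e⟩ => (Subtype.ext e : v = ⟨u, hu⟩) ▸ hv, fun h => ⟨_, h, rfl⟩⟩

theorem core_conj_mem {g u : G} (hg : g ∈ closure S) (hu : u ∈ core S) : g * u * g⁻¹ ∈ core S := by
  obtain ⟨v, hv, rfl⟩ := hu
  exact ⟨⟨g, hg⟩ * v * ⟨g, hg⟩⁻¹, (inferInstance : (Cfsg.twoZCore ↥(closure S)).Normal).conj_mem v hv ⟨g, hg⟩, rfl⟩

theorem img_mem_bar {a : G} (ha : a ∈ S) : img S ha ∈ bar S := ⟨_, ha, rfl⟩

theorem exists_of_mem_bar {q : Quot' S} (hq : q ∈ bar S) : ∃ a, ∃ ha : a ∈ S, img S ha = q := by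
  obtain ⟨⟨a, _⟩, ha, rfl⟩ := hq
  exact ⟨a, ha, rfl⟩

/-- An element commuting with every member is in the core. -/
theorem mem_core_of_commute {u : G} (hu : u ∈ closure S) (hc : ∀ a ∈ S, Commute u a) : u ∈ core S := by
  refine (mem_core hu).2 ?_
  show QuotientGroup.mk' (Cfsg.pCore 2 ↥(closure S)) ⟨u, hu⟩ ∈ Subgroup.center _
  have hle : closure S ≤ centralizer {u} :=
    (closure_le _).2 fun a ha => mem_centralizer_singleton_iff.2 (hc a ha).eq.symm
  refine mem_center_iff.2 fun q => ?_
  obtain ⟨⟨g, hg⟩, rfl⟩ := QuotientGroup.mk'_surjective _ q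
  rw [← map_mul, ← map_mul]
  exact congrArg _ (Subtype.ext (mem_centralizer_singleton_iff.1 (hle hg)))

theorem pCore_le_core {q : ↥(closure S)} (hq : q ∈ Cfsg.pCore 2 ↥(closure S)) : (q : G) ∈ core S := by
  haveI := Grp.pCore_isNormal (p := 2) (G := ↥(closure S))
  refine (mem_core q.2).2 ?_
  show QuotientGroup.mk' (Cfsg.pCore 2 ↥(closure S)) q ∈ Subgroup.center _
  rw [QuotientGroup.mk'_apply, (QuotientGroup.eq_one_iff q).2 hq]
  exact one_mem _

namespace Setup

variable (h : Setup S)
include h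

theorem closure_inGroup : closure (inGroup S) = ⊤ := closure_closure_coe_preimage

theorem isRootInvolutionSet : Cfsg.IsRootInvolutionSet (inGroup S) := by
  refine ⟨fun a ha => by rw [← Subgroup.orderOf_coe]; exact h.inv _ ha, h.closure_inGroup,
    fun a ha g => h.conj_mem g.2 ha, fun a ha b hb => ?_⟩
  rcases h.pair _ ha _ hb with hc | ho
  · exact Or.inl (Subtype.ext hc.eq)
  · exact Or.inr (Or.inl (by rw [← Subgroup.orderOf_coe]; exact ho))

theorem isOddTranspositionSet : Cfsg.IsOddTranspositionSet (inGroup S) := by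
  refine ⟨h.isRootInvolutionSet, fun a ha b hb e => ?_⟩
  rw [← Subgroup.orderOf_coe, Subgroup.coe_mul] at e
  rcases h.pair _ ha _ hb with hc | ho
  · have := orderOf_dvd_of_pow_eq_one (show ((a : G) * b) ^ 2 = 1 by rw [pow_two]; exact h.mul_sq_of_commute ha hb hc)
    rw [e] at this
    exact absurd this (by decide)
  · rw [e] at ho
    exact absurd ho (by decide)

theorem oddConnected_inGroup : Cfsg.IsConnectedSet (Cfsg.OddAdj (inGroup S)) (inGroup S) := by
  intro a ha b hb
  suffices ∀ y, Linked S a y → ∀ (hy : y ∈ S),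
      Relation.ReflTransGen (Cfsg.OddAdj (inGroup S)) a ⟨y, subset_closure hy⟩ from this b (h.conn _ ha _ hb) hb
  intro y hy
  induction hy with
  | refl => exact fun _ => .refl
  | @tail u v _ huv ih =>
    intro hv
    refine (ih huv.1).tail ⟨huv.1, hv, fun e => huv.2.2 ?_, ?_⟩
    · have : u = v := congrArg Subtype.val e
      exact this ▸ Commute.refl u
    · rw [← Subgroup.orderOf_coe]
      exact h.odd_of_not_commute huv.1 hv huv.2.2

theorem products_inGroup : (inGroup S ∩ Cfsg.commutingProducts (inGroup S)).Nonempty := by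
  obtain ⟨a, ha, b, hb, -, hc, hm⟩ := h.triple
  exact ⟨⟨a * b, subset_closure hm⟩, hm, ⟨a, subset_closure ha⟩, ha, ⟨b, subset_closure hb⟩, hb,
    Subtype.ext hc.eq, fun e => h.ne_one hm (congrArg Subtype.val e), rfl⟩

theorem isSimple_quot [Finite G] : IsSimpleGroup (Quot' S) :=
  (RootInvSimple.radical_and_simple h.isRootInvolutionSet h.oddConnected_inGroup h.products_inGroup).2

theorem twoZCore_ne_top [Finite G] : Cfsg.twoZCore ↥(closure S) ≠ ⊤ := fun e => by
  haveI := h.isSimple_quot
  obtain ⟨q, hq⟩ := exists_ne (1 : Quot' S)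
  obtain ⟨g, rfl⟩ := QuotientGroup.mk'_surjective _ q
  exact hq ((QuotientGroup.eq_one_iff g).2 (e ▸ mem_top g))

theorem not_mem_core [Finite G] {a : G} (ha : a ∈ S) : a ∉ core S := fun hc =>
  h.twoZCore_ne_top (RootInvSimple.eq_top_of_mem (d := ⟨a, subset_closure ha⟩) h.isRootInvolutionSet
    h.oddConnected_inGroup ha ((mem_core _).1 hc))

theorem commute_of_mul_mem_core [Finite G] {a b : G} (ha : a ∈ S) (hb : b ∈ S) (hc : a * b ∈ core S) :
    Commute a b :=
  congrArg Subtype.val (RootInvSimple.commute_of_congr h.isRootInvolutionSet h.oddConnected_inGroup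
    h.products_inGroup h.twoZCore_ne_top (a := ⟨a, subset_closure ha⟩) (a' := ⟨b, subset_closure hb⟩) ha hb
    ((mem_core _).1 hc))

theorem commute_of_sq_mem_core [Finite G] {a b : G} (ha : a ∈ S) (hb : b ∈ S)
    (hc : a * b * (a * b) ∈ core S) : Commute a b := by
  rcases h.pair a ha b hb with e | ⟨n, hn⟩
  · exact e
  refine h.commute_of_mul_mem_core ha hb ?_
  rw [← pow_eq_of_odd hn, pow_two]
  exact pow_mem hc _

/-- Members congruent modulo the core have the same commuting members. -/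
theorem same_of_mul_mem_core [Finite G] {a b : G} (ha : a ∈ S) (hb : b ∈ S) (hc : a * b ∈ core S) :
    Same S a b := by
  suffices key : ∀ a ∈ S, ∀ b ∈ S, a * b ∈ core S → ∀ e ∈ S, Commute e a → Commute e b from
    fun e he => ⟨key a ha b hb hc e he, key b hb a ha
      ((h.commute_of_mul_mem_core ha hb hc).eq ▸ hc) e he⟩
  intro a ha b hb hc e he hea
  refine h.commute_of_sq_mem_core he hb ?_
  have hab := h.commute_of_mul_mem_core ha hb hc
  have h1 : e * b * (e * b) = e * (a * b) * e⁻¹ * (a * b) := by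
    rw [h.inv_eq he]
    calc e * b * (e * b) = e * b * e * (a * a) * b := by rw [h.mul_self ha, mul_one, ← mul_assoc]
      _ = e * b * (e * a) * (a * b) := by group
      _ = e * (b * a) * e * (a * b) := by rw [hea.eq]; group
      _ = e * (a * b) * e * (a * b) := by rw [hab.eq]
  rw [h1]
  exact mul_mem (core_conj_mem (subset_closure he) hc) hc

/-- Involutions in the core lie in the 2-core. -/
theorem mem_pCore_of_mem_core [Finite G] {u : G} (hu : u ∈ core S) (h2 : u * u = 1) :
    (⟨u, core_le hu⟩ : ↥(closure S)) ∈ Cfsg.pCore 2 ↥(closure S) := by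
  haveI : Fact (Nat.Prime 2) := ⟨Nat.prime_two⟩
  haveI := Grp.pCore_isNormal (p := 2) (G := ↥(closure S))
  obtain ⟨π, hπ⟩ : ∃ π, π = QuotientGroup.mk' (Cfsg.pCore 2 ↥(closure S)) := ⟨_, rfl⟩
  have hc : π ⟨u, core_le hu⟩ ∈ Subgroup.center _ := hπ ▸ (mem_core (core_le hu)).1 hu
  haveI hn : ((zpowers (π ⟨u, core_le hu⟩)).comap π).Normal := by
    refine Normal.comap ⟨fun x hx g => ?_⟩ π
    obtain ⟨k, rfl⟩ := mem_zpowers_iff.1 hx
    rw [mem_center_iff.1 (zpow_mem hc k) g, mul_inv_cancel_right]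
    exact hx
  have hz : IsPGroup 2 ↥(zpowers (π ⟨u, core_le hu⟩)) := by
    rintro ⟨x, hx⟩
    obtain ⟨k, rfl⟩ := mem_zpowers_iff.1 hx
    refine ⟨1, Subtype.ext ?_⟩
    show (π ⟨u, core_le hu⟩ ^ k) ^ 2 ^ 1 = 1
    rw [pow_one, ← zpow_natCast (π ⟨u, core_le hu⟩ ^ k) 2, ← zpow_mul, mul_comm, zpow_mul, zpow_natCast,
      pow_two, ← map_mul, show (⟨u, core_le hu⟩ : ↥(closure S)) * ⟨u, core_le hu⟩ = 1 from Subtype.ext h2,
      map_one, one_zpow]
  refine Grp.le_pCore hn (hz.comap_of_ker_isPGroup π ?_) (mem_zpowers _)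
  rw [hπ, QuotientGroup.ker_mk']
  exact Grp.pCore_isPGroup

/-! ## The quotient -/

theorem img_mul_self {a : G} (ha : a ∈ S) : img S ha * img S ha = 1 := by
  rw [img, ← map_mul, show (⟨a, subset_closure ha⟩ : ↥(closure S)) * ⟨a, subset_closure ha⟩ = 1 from
    Subtype.ext (h.mul_self ha), map_one]

theorem img_eq_iff {a b : G} (ha : a ∈ S) (hb : b ∈ S) : img S ha = img S hb ↔ a * b ∈ core S := by
  rw [img, img, mem_core (mul_mem (subset_closure ha) (subset_closure hb))]
  rw [QuotientGroup.mk'_apply, QuotientGroup.mk'_apply, QuotientGroup.eq]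
  rw [show (⟨a, subset_closure ha⟩ : ↥(closure S))⁻¹ = ⟨a, subset_closure ha⟩ from Subtype.ext (h.inv_eq ha)]
  rfl

theorem commute_img [Finite G] {a b : G} (ha : a ∈ S) (hb : b ∈ S) :
    Commute (img S ha) (img S hb) ↔ Commute a b := by
  refine ⟨fun hc => h.commute_of_sq_mem_core ha hb ?_, fun hc => ?_⟩
  · refine (mem_core (mul_mem (mul_mem (subset_closure ha) (subset_closure hb))
      (mul_mem (subset_closure ha) (subset_closure hb)))).2 ((QuotientGroup.eq_one_iff _).1 ?_)
    show img S ha * img S hb * (img S ha * img S hb) = 1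
    rw [mul_assoc, ← mul_assoc (img S hb), ← hc.eq, mul_assoc (img S ha), h.img_mul_self hb, mul_one,
      h.img_mul_self ha]
  · show img S ha * img S hb = img S hb * img S ha
    rw [img, img, ← map_mul, ← map_mul]
    exact congrArg _ (Subtype.ext hc.eq)

theorem bar_setup [Finite G] : Setup (bar S) := by
  haveI : Fact (Nat.Prime 2) := ⟨Nat.prime_two⟩
  refine ⟨?_, ?_, ?_, ?_, ?_⟩
  · intro q hq
    obtain ⟨a, ha, rfl⟩ := exists_of_mem_bar hq
    refine Invol.orderOf_two_iff.2 ⟨h.img_mul_self ha, fun e => ?_⟩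
    exact h.not_mem_core ha ((mem_core _).2 ((QuotientGroup.eq_one_iff _).1 e))
  · intro q hq r hr
    obtain ⟨a, ha, rfl⟩ := exists_of_mem_bar hq
    obtain ⟨b, hb, rfl⟩ := exists_of_mem_bar hr
    exact ⟨⟨b, subset_closure hb⟩ * ⟨a, subset_closure ha⟩ * ⟨b, subset_closure hb⟩⁻¹, h.conj a ha b hb,
      by rw [img, img, map_mul, map_mul, map_inv]⟩
  · intro q hq r hr
    obtain ⟨a, ha, rfl⟩ := exists_of_mem_bar hq
    obtain ⟨b, hb, rfl⟩ := exists_of_mem_bar hr
    refine (h.pair a ha b hb).imp (h.commute_img ha hb).2 fun ho => ?_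
    rw [img, img, ← map_mul]
    refine ho.of_dvd_nat (dvd_trans (orderOf_map_dvd _ _) ?_)
    rw [← Subgroup.orderOf_coe]
    rfl
  · intro q hq r hr
    obtain ⟨a, ha, rfl⟩ := exists_of_mem_bar hq
    obtain ⟨b, hb, rfl⟩ := exists_of_mem_bar hr
    suffices ∀ y, Linked S a y → ∀ hy : y ∈ S, Linked (bar S) (img S ha) (img S hy) from this b (h.conn a ha b hb) hb
    intro y hy
    induction hy with
    | refl => exact fun _ => .refl
    | tail _ huv ih =>
      exact fun hv => (ih huv.1).tail ⟨img_mem_bar huv.1, img_mem_bar hv, fun e => huv.2.2 ((h.commute_img _ _).1 e)⟩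
  · obtain ⟨a, ha, b, hb, -, hc, hm⟩ := h.triple
    refine ⟨img S ha, img_mem_bar ha, img S hb, img_mem_bar hb, fun e => ?_, (h.commute_img ha hb).2 hc, ?_⟩
    · exact h.not_mem_core hm ((h.img_eq_iff ha hb).1 e)
    · exact ⟨⟨a * b, subset_closure hm⟩, hm, map_mul (QuotientGroup.mk' (Cfsg.twoZCore ↥(closure S))) ⟨a, subset_closure ha⟩ ⟨b, subset_closure hb⟩⟩

theorem closure_bar : closure (bar S) = ⊤ := by
  rw [bar, ← MonoidHom.map_closure, h.closure_inGroup]
  exact map_top_of_surjective _ (QuotientGroup.mk'_surjective _)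

theorem core_bar [Finite G] : core (bar S) = ⊥ := by
  haveI := h.isSimple_quot
  have hb := h.bar_setup
  have e : ↥(closure (bar S)) ≃* Quot' S :=
    (MulEquiv.subgroupCongr h.closure_bar).trans Subgroup.topEquiv
  haveI : Nontrivial ↥(closure (bar S)) := e.toEquiv.nontrivial
  haveI : IsSimpleGroup ↥(closure (bar S)) :=
    IsSimpleGroup.isSimpleGroup_of_surjective e.symm.toMonoidHom e.symm.surjective
  rw [core, ((inferInstance : (Cfsg.twoZCore ↥(closure (bar S))).Normal).eq_bot_or_eq_top).resolve_right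
    hb.twoZCore_ne_top, Subgroup.map_bot]

theorem card_bar_le [Finite G] : Nat.card ↥(closure (bar S)) ≤ Nat.card ↥(closure S) := by
  rw [h.closure_bar, card_top]
  exact Nat.card_le_card_of_surjective _ (QuotientGroup.mk'_surjective _)

theorem card_bar_lt [Finite G] (hc : core S ≠ ⊥) : Nat.card ↥(closure (bar S)) < Nat.card ↥(closure S) := by
  rw [h.closure_bar, card_top, Subgroup.card_eq_card_quotient_mul_card_subgroup (Cfsg.twoZCore ↥(closure S))]
  refine lt_mul_of_one_lt_right Nat.card_pos (one_lt_card_iff_ne_bot _ |>.2 fun e => hc ?_)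
  rw [core, e, Subgroup.map_bot]

theorem same_img_iff [Finite G] {a b : G} (ha : a ∈ S) (hb : b ∈ S) :
    Same (bar S) (img S ha) (img S hb) ↔ Same S a b := by
  refine ⟨fun hs e he => ?_, fun hs q hq => ?_⟩
  · have := hs _ (img_mem_bar he)
    rwa [h.commute_img he ha, h.commute_img he hb] at this
  · obtain ⟨e, he, rfl⟩ := exists_of_mem_bar hq
    rw [h.commute_img he ha, h.commute_img he hb]
    exact hs e he

theorem connected_bar_iff [Finite G] : Connected (bar S) ↔ Connected S := by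
  refine ⟨fun hc a ha b hb => ?_, fun hc q hq r hr => ?_⟩
  · suffices ∀ q, Relation.ReflTransGen (fun u v => u ∈ bar S ∧ v ∈ bar S ∧ Commute u v) (img S ha) q →
        ∀ y, ∀ hy : y ∈ S, img S hy = q → Relation.ReflTransGen (fun u v => u ∈ S ∧ v ∈ S ∧ Commute u v) a y from
      this _ (hc _ (img_mem_bar ha) _ (img_mem_bar hb)) b hb rfl
    intro q hq
    induction hq with
    | refl =>
      exact fun y hy e => .single ⟨ha, hy, (h.commute_img ha hy).1 (e ▸ Commute.refl _)⟩
    | tail _ huv ih =>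
      intro y hy e
      obtain ⟨x, hx, rfl⟩ := exists_of_mem_bar huv.1
      exact (ih x hx rfl).tail ⟨hx, hy, (h.commute_img hx hy).1 (e ▸ huv.2.2)⟩
  · obtain ⟨a, ha, rfl⟩ := exists_of_mem_bar hq
    obtain ⟨b, hb, rfl⟩ := exists_of_mem_bar hr
    suffices ∀ y, Relation.ReflTransGen (fun u v => u ∈ S ∧ v ∈ S ∧ Commute u v) a y → ∀ hy : y ∈ S,
        Relation.ReflTransGen (fun u v => u ∈ bar S ∧ v ∈ bar S ∧ Commute u v) (img S ha) (img S hy) from
      this b (hc a ha b hb) hb
    intro y hy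
    induction hy with
    | refl => exact fun _ => .refl
    | tail _ huv ih =>
      exact fun hv => (ih huv.1).tail ⟨img_mem_bar huv.1, img_mem_bar hv, (h.commute_img _ _).2 huv.2.2⟩

/-! ## Trivial core -/

theorem eq_one_of_commute (hc : core S = ⊥) {u : G} (hu : u ∈ closure S) (hcomm : ∀ a ∈ S, Commute u a) :
    u = 1 := by
  have := mem_core_of_commute hu hcomm
  rwa [hc, mem_bot] at this

theorem card_lt_of_commute [Finite G] (hc : core S = ⊥) {T : Set G} {u : G} (hT : T ⊆ S) (hu : u ∈ closure S)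
    (hu1 : u ≠ 1) (hcomm : ∀ t ∈ T, Commute u t) : Nat.card ↥(closure T) < Nat.card ↥(closure S) := by
  refine lt_of_le_of_ne (card_le_of_le (closure_mono hT)) fun e => hu1 (h.eq_one_of_commute hc hu fun a ha => ?_)
  have heq := eq_of_le_of_card_ge (closure_mono hT) e.ge
  have hle : closure T ≤ centralizer {u} :=
    (closure_le _).2 fun t ht => mem_centralizer_singleton_iff.2 (hcomm t ht).eq.symm
  exact (mem_centralizer_singleton_iff.1 (hle (heq ▸ subset_closure ha))).symm

end Setup

end Cfsg.Agent.Fus.OddTransp
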