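import Mathlib
import Cfsg.Agent.Lib.Fus.OddTransp.Core

/-!
# A disconnected commuting graph: commuting is transitive

In the simple quotient the component stabiliser has trivial core, so commuting products are members
and commuting members have the same commuting members.
-/

set_option autoImplicit false
set_option linter.unusedSectionVars false
set_option linter.style.haveILetI false

namespace Cfsg.Agent.Fus.OddTransp

open Subgroup

universe u

variable {G : Type u} [Group G] [Finite G] {S : Set G}

/-- Commuting members of a setup with disconnected commuting graph have the same commuting members. -/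
theorem Setup.same_of_not_connected (h : Setup S) (hdis : ¬ Connected S) {a b : G} (ha : a ∈ S) (hb : b ∈ S)
    (hc : Commute a b) : Same S a b := by
  haveI := h.isSimple_quot
  have hb' := h.bar_setup
  have hD : Cfsg.IsRootInvolutionSet (bar S) :=
    ⟨hb'.inv, h.closure_bar, fun q hq g => hb'.conj_mem (h.closure_bar ▸ mem_top g) hq,
      fun q hq r hr => (hb'.pair q hq r hr).imp (fun e => e.eq) Or.inl⟩
  have hdis' : ¬ Cfsg.IsConnectedSet (Cfsg.CommAdj (bar S)) (bar S) := fun hcon => by
    refine hdis (h.connected_bar_iff.1 fun q hq r hr => ?_)
    have hl := hcon q hq r hr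
    clear hr
    induction hl with
    | refl => exact .refl
    | tail _ e ih => exact ih.tail ⟨e.1, e.2.1, e.2.2.2⟩
  obtain ⟨M, hM⟩ := RootCrit.exists_hyp hD hdis'
  have hcore : M.normalCore = ⊥ := (M.normalCore_normal).eq_bot_or_eq_top.resolve_right fun e =>
    hM.ne_top (top_le_iff.1 (e ▸ M.normalCore_le))
  by_cases he : img S ha = img S hb
  · exact h.same_of_mul_mem_core ha hb ((h.img_eq_iff ha hb).1 he)
  · have hc' := (h.commute_img ha hb).2 hc
    exact (h.same_img_iff ha hb).1 (hb'.same_of_mul_mem (img_mem_bar ha) (img_mem_bar hb) hc'
      (hM.closed hcore (img_mem_bar ha) (img_mem_bar hb) hc'.eq he))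

end Cfsg.Agent.Fus.OddTransp
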