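import Cfsg.Agent.Lib.Fus.OddTransp.LineModels
import Cfsg.Agent.Lib.Invol.BenderCover.Models
import Cfsg.Agent.Lib.Classical.UnitMultMain

/-!
# Line groups of odd transpositions: `PSU₃(q)` is not generated by the centre of a Sylow subgroup and an involution

Both fix vectors in a plane, so they fix a common vector.
-/

set_option autoImplicit false
set_option linter.unusedSectionVars false
set_option linter.style.haveILetI false

open Matrix Cfsg Cfsg.Agent.Classical Cfsg.Agent.Classical.PSUAut Cfsg.Agent.Fus.UnitN Cfsg.Agent.Lie.SUGen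
  Cfsg.Agent.Lie.SU3Pres Cfsg.Agent.Transfer.U3Min

open scoped commutatorElement

namespace Cfsg.Agent.Fus.OTLine

universe u v

/-- What is used about `PSU₃(q)`. -/
structure U3Facts (B : Type u) [Group B] (q : ℕ) : Prop where
  card : ∀ S : Sylow 2 B, (omegaOne (S : Subgroup B)).ncard = q
  notgen : ∀ (S : Sylow 2 B) (x : B), x * x = 1 →
    Subgroup.closure (omegaOne (S : Subgroup B) ∪ {x}) ≠ ⊤
  dvd : Nat.card B ∣ q ^ 3 * (q ^ 3 + 1) * (q ^ 2 - 1)
  pos : 4 ≤ q

variable {F : Type u} [Field F] [Fintype F] {q : ℕ}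

theorem u3Facts_model (hF : Fintype.card F = q ^ 2) (heven : Even q) (h4 : 4 ≤ q) :
    U3Facts (PSU 3 F q) q := by
  classical
  haveI : Fact (Nat.Prime 2) := ⟨Nat.prime_two⟩
  obtain ⟨p, hc⟩ := CharP.exists F
  haveI : Fact p.Prime := ⟨CharP.char_is_prime F p⟩
  obtain rfl : p = 2 := Dickson.p_eq_two p (by rw [hF]; exact heven.pow_of_ne_zero two_ne_zero)
  have h2F : (2 : F) = 0 := CharTwo.two_eq_zero
  obtain ⟨e, n, f, B⟩ := exists_frame hF
  obtain ⟨k, -, hk⟩ := FiniteField.card F 2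
  obtain ⟨j, -, hj⟩ := (Nat.dvd_prime_pow Nat.prime_two).1
    (show q ∣ 2 ^ (k : ℕ) from hk ▸ hF ▸ dvd_pow_self q two_ne_zero)
  obtain ⟨π, hπdef⟩ : ∃ π : SU 3 F q →* PSU 3 F q, π = suToPSU 3 F q := ⟨_, rfl⟩
  have hπs : Function.Surjective π := hπdef ▸ pi_surjective
  have hπker : ∀ s, π s = 1 → s ∈ Subgroup.center (SU 3 F q) := fun s hs => by
    subst hπdef
    exact (QuotientGroup.eq_one_iff s).1 hs
  have hUker : ∀ u ∈ Uni hF B, π u = 1 → u = 1 := by
    intro u hu h1
    obtain ⟨l, hl⟩ := (pi_eq_one_iff hF).1 (hπdef ▸ h1)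
    have h2 : suVal u *ᵥ e = l • e := by rw [hl, Matrix.smul_mulVec, Matrix.one_mulVec]
    rw [(mem_Uni_iff hF B).1 hu] at h2
    have hl1 : l = 1 := (smul_left_injective F B.P.ne_zero (by simpa using h2)).symm
    refine suVal_ext ?_
    rw [hl, hl1, one_smul, suVal_one']
  have hU : Nat.card (Uni hF B) = q ^ 3 := by
    have h := card_inf_Uni hF B ⊤
    rw [top_inf_eq] at h
    have hb := card_inf_Bor hF B ⊤
    rw [top_inf_eq, card_Bor hF B, top_inf_eq] at hb
    have ht : tSet B ⊤ = ⊤ := eq_top_iff.2 fun l _ =>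
      (mem_tSet hF B).2 ⟨Tm hF B (l : F), Subgroup.mem_top _, T_e hF B l.ne_zero⟩
    rw [ht, Subgroup.card_top, Nat.card_units, Nat.card_eq_fintype_card (α := F), hF] at hb
    exact (Nat.eq_of_mul_eq_mul_right (Nat.sub_pos_of_lt (Nat.one_lt_pow two_ne_zero (by omega))) hb).symm
  have hUp : IsPGroup 2 ↥((Uni hF B).map π) :=
    IsPGroup.map (IsPGroup.of_card (n := j * 3) (by rw [hU, hj, ← pow_mul])) _
  have hUidx : ¬ 2 ∣ ((Uni hF B).map π).index := by
    intro h2
    have h3 := h2.trans (Subgroup.index_map_dvd (Uni hF B) hπs)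
    rw [← Subgroup.relIndex_mul_index (Uni_le_Bor hF B), index_Bor hF B] at h3
    have hr : (Uni hF B).relIndex (Bor B) * q ^ 3 = (q ^ 2 - 1) * q ^ 3 := by
      have := Subgroup.card_mul_index ((Uni hF B).subgroupOf (Bor B))
      rw [Nat.card_congr (Subgroup.subgroupOfEquivOfLe (Uni_le_Bor hF B)).toEquiv, hU, card_Bor hF B] at this
      rw [Subgroup.relIndex, mul_comm, this, mul_comm]
    rw [Nat.eq_of_mul_eq_mul_right (pow_pos (show 0 < q by omega) 3) hr] at h3
    have hq3 : Odd (q ^ 3 + 1) := Even.add_one (heven.pow_of_ne_zero (by norm_num))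
    have hq2 : Odd (q ^ 2 - 1) := Nat.Even.sub_odd (Nat.one_le_pow _ _ (by omega))
      (heven.pow_of_ne_zero (by norm_num)) odd_one
    exact (Nat.not_even_iff_odd.2 (hq2.mul hq3)) (even_iff_two_dvd.2 h3)
  let S₀ : Sylow 2 (PSU 3 F q) := hUp.toSylow hUidx
  have hskew : ∀ c : F, qFrob hF c = c → OK hF 0 c := fun c hc => OK.skew hF (by
    rw [hc, CharTwo.add_self_eq_zero])
  -- the elements squaring to one of the standard Sylow subgroup
  have hW : omegaOne ((Uni hF B).map π) =
      Set.range fun c : {c : F // qFrob hF c = c} => π (Um hF B 0 c.1) := by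
    ext g
    constructor
    · rintro ⟨⟨u, hu, rfl⟩, hxx⟩
      obtain ⟨α, b, hb, rfl⟩ := hu
      have h := hUker _ (Subgroup.mul_mem _ ⟨α, b, hb, rfl⟩ ⟨α, b, hb, rfl⟩) (by rw [map_mul]; exact hxx)
      rw [U_mul hF B hb hb] at h
      have h' := (U_eq_one hF B (hb.mul hF hb) h).2
      have h'' : qFrob hF α * α = 0 := by linear_combination (-h') + b * h2F
      have hα : α = 0 := by
        rcases mul_eq_zero.1 h'' with h3 | h3
        · exact (map_eq_zero _).1 h3
        · exact h3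
      subst hα
      have hb' : qFrob hF b = b := by
        have : b + qFrob hF b = 0 := by simpa [OK] using hb
        linear_combination this - b * h2F
      exact ⟨⟨b, hb'⟩, rfl⟩
    · rintro ⟨⟨c, hc⟩, rfl⟩
      refine ⟨⟨_, ⟨0, c, hskew c hc, rfl⟩, rfl⟩, ?_⟩
      rw [← map_mul, U_mul hF B (hskew c hc) (hskew c hc)]
      simp [CharTwo.add_self_eq_zero, U_zero hF B]
  have hinj : Function.Injective fun c : {c : F // qFrob hF c = c} => π (Um hF B 0 c.1) := by
    intro c c' h
    have h1 := hUker _ (Subgroup.mul_mem _ (Subgroup.inv_mem _ ⟨0, c.1, hskew _ c.2, rfl⟩)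
      ⟨0, c'.1, hskew _ c'.2, rfl⟩) (by
        rw [map_mul, map_inv]
        exact inv_mul_eq_one.2 h)
    exact Subtype.ext (U_inj hF B (hskew _ c.2) (hskew _ c'.2) (inv_mul_eq_one.1 h1)).2
  refine ⟨fun S => ?_, fun S x hx => ?_, ?_, h4⟩
  · rw [ncard_omegaOne_sylow S₀ S, show (S₀ : Subgroup (PSU 3 F q)) = (Uni hF B).map π from rfl, hW,
      Set.ncard_range_of_injective hinj]
    exact Lie.MinIndexUnit.card_fixed hF
  · -- both parts fix a vector
    obtain ⟨T, hT⟩ : ∃ T : Sylow 2 (PSU 3 F q), x ∈ (T : Subgroup (PSU 3 F q)) := by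
      obtain ⟨T, hT⟩ := (IsPGroup.to_le (H := Subgroup.zpowers x) (K := Subgroup.zpowers x)
        (fun ⟨g, hg⟩ => ⟨1, Subtype.ext (by
          obtain ⟨i, rfl⟩ := hg
          show (x ^ i) ^ (2 ^ 1) = 1
          rw [pow_one, ← zpow_natCast, ← _root_.zpow_mul, mul_comm, _root_.zpow_mul, zpow_natCast, pow_two, hx, _root_.one_zpow])⟩)
        le_rfl).exists_le_sylow
      exact ⟨T, hT (Subgroup.mem_zpowers x)⟩
    obtain ⟨g₀, hg₀⟩ := MulAction.exists_smul_eq (PSU 3 F q) S₀ S
    obtain ⟨k₀, hk₀⟩ := MulAction.exists_smul_eq (PSU 3 F q) S₀ T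
    obtain ⟨g, rfl⟩ := hπs g₀
    obtain ⟨k, rfl⟩ := hπs k₀
    have hco : ∀ a b : F, ∀ c : {c : F // qFrob hF c = c},
        suVal (Um hF B 0 c.1) *ᵥ co e n f a b 0 = co e n f a b 0 := by
      intro a b c
      rw [U_act hF B (hskew _ c.2)]
      simp
    -- a common vector
    obtain ⟨v, hv0, hvg, hvk⟩ : ∃ v : Fin 3 → F, v ≠ 0 ∧ (∃ a b, v = suVal g *ᵥ co e n f a b 0) ∧
        (∃ a b, v = suVal k *ᵥ co e n f a b 0) := by
      obtain ⟨r₀, s₀, t₀, h₀⟩ := exists_co hF B (suVal (k⁻¹ * g) *ᵥ co e n f 1 0 0)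
      obtain ⟨r₁, s₁, t₁, h₁⟩ := exists_co hF B (suVal (k⁻¹ * g) *ᵥ co e n f 0 1 0)
      obtain ⟨a, b, hab, h0⟩ : ∃ a b : F, (a ≠ 0 ∨ b ≠ 0) ∧ a * t₀ + b * t₁ = 0 := by
        by_cases ht : t₀ = 0
        · exact ⟨1, 0, Or.inl one_ne_zero, by rw [ht]; ring⟩
        · exact ⟨t₁, -t₀, Or.inr (neg_ne_zero.2 ht), by ring⟩
      have hsplit : co e n f a b 0 = a • co e n f 1 0 0 + b • co e n f 0 1 0 := by
        simp [co]
      have himg : suVal (k⁻¹ * g) *ᵥ co e n f a b 0 = co e n f (a * r₀ + b * r₁) (a * s₀ + b * s₁) 0 := by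
        rw [hsplit, Matrix.mulVec_add, Matrix.mulVec_smul, Matrix.mulVec_smul, h₀, h₁, ← h0]
        simp only [co, smul_add, smul_smul, add_smul]
        abel
      refine ⟨suVal g *ᵥ co e n f a b 0, fun h => ?_, ⟨a, b, rfl⟩, ⟨a * r₀ + b * r₁, a * s₀ + b * s₁, ?_⟩⟩
      · have h' : co e n f a b 0 = co e n f 0 0 0 := by
          have := congrArg (fun w => suVal g⁻¹ *ᵥ w) h
          rw [Matrix.mulVec_mulVec, ← suVal_mul, inv_mul_cancel, suVal_one', Matrix.one_mulVec,
            Matrix.mulVec_zero] at this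
          rw [this]; simp [co]
        obtain ⟨e1, e2, -⟩ := co_inj hF B h'
        exact hab.elim (fun h => h e1) (fun h => h e2)
      · rw [← himg, Matrix.mulVec_mulVec, ← suVal_mul, mul_inv_cancel_left]
    let K : Subgroup (SU 3 F q) :=
      { carrier := {s | suVal s *ᵥ v = v}
        one_mem' := by simp [suVal_one']
        mul_mem' := fun {s t} hs ht => by
          show suVal (s * t) *ᵥ v = v
          rw [suVal_mul, ← Matrix.mulVec_mulVec, ht, hs]
        inv_mem' := fun {s} hs => by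
          show suVal s⁻¹ *ᵥ v = v
          conv_lhs => rw [← show suVal s *ᵥ v = v from hs]
          rw [Matrix.mulVec_mulVec, ← suVal_mul, inv_mul_cancel, suVal_one', Matrix.one_mulVec] }
    have hconj : ∀ a : SU 3 F q, (∃ r s, v = suVal a *ᵥ co e n f r s 0) →
        ∀ c : {c : F // qFrob hF c = c}, π (a * Um hF B 0 c.1 * a⁻¹) ∈ K.map π := by
      rintro a ⟨r, s, hv⟩ c
      refine Subgroup.mem_map_of_mem _ ?_
      show suVal (a * Um hF B 0 c.1 * a⁻¹) *ᵥ v = v
      rw [suVal_mul, suVal_mul, ← Matrix.mulVec_mulVec, ← Matrix.mulVec_mulVec]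
      conv_lhs => arg 2; arg 2; rw [hv, Matrix.mulVec_mulVec, ← suVal_mul, inv_mul_cancel, suVal_one',
        Matrix.one_mulVec]
      rw [hco, ← hv]
    intro htop
    have hle : Subgroup.closure (omegaOne (S : Subgroup (PSU 3 F q)) ∪ {x}) ≤ K.map π := by
      refine (Subgroup.closure_le _).2 (Set.union_subset ?_ (Set.singleton_subset_iff.2 ?_))
      · rw [← hg₀, Sylow.coe_subgroup_smul, Subgroup.pointwise_smul_def]
        intro y hy
        have hy' : y ∈ omegaOne (((Uni hF B).map π).map (MulAut.conj (π g)).toMonoidHom) := hy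
        rw [omegaOne_map, hW] at hy'
        obtain ⟨_, ⟨c, rfl⟩, rfl⟩ := hy'
        simpa using hconj g hvg c
      · have hy' : x ∈ omegaOne (((Uni hF B).map π).map (MulAut.conj (π k)).toMonoidHom) := by
          refine ⟨?_, hx⟩
          rw [← hk₀, Sylow.coe_subgroup_smul, Subgroup.pointwise_smul_def] at hT
          exact hT
        rw [omegaOne_map, hW] at hy'
        obtain ⟨_, ⟨c, rfl⟩, hxe⟩ := hy'
        rw [← hxe]
        simpa using hconj k hvk c
    rw [htop, top_le_iff] at hle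
    have hKtop : K = ⊤ := by
      rw [eq_top_iff, ← Classical.UnitMult.perfect_SU (n := 3) hF le_rfl (fun h => by omega)]
      rw [_root_.commutator_def, Subgroup.commutator_le]
      intro a _ b _
      obtain ⟨a', ha', hae⟩ := hle.ge (Subgroup.mem_top (π a))
      obtain ⟨b', hb', hbe⟩ := hle.ge (Subgroup.mem_top (π b))
      have hza : a'⁻¹ * a ∈ Subgroup.center (SU 3 F q) := hπker _ (by rw [map_mul, map_inv, hae, inv_mul_cancel])
      have hzb : b'⁻¹ * b ∈ Subgroup.center (SU 3 F q) := hπker _ (by rw [map_mul, map_inv, hbe, inv_mul_cancel])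
      obtain ⟨za, hza', rfl⟩ : ∃ z ∈ Subgroup.center (SU 3 F q), a = a' * z := ⟨_, hza, by group⟩
      obtain ⟨zb, hzb', rfl⟩ : ∃ z ∈ Subgroup.center (SU 3 F q), b = b' * z := ⟨_, hzb, by group⟩
      have hca := Subgroup.mem_center_iff.1 hza'
      have hcb := Subgroup.mem_center_iff.1 hzb'
      have : ⁅a' * za, b' * zb⁆ = ⁅a', b'⁆ := by
        rw [commutatorElement_def, commutatorElement_def, _root_.mul_inv_rev, _root_.mul_inv_rev,
          show a' * za * (b' * zb) * (za⁻¹ * a'⁻¹) * (zb⁻¹ * b'⁻¹) =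
            a' * (za * (b' * zb)) * za⁻¹ * a'⁻¹ * zb⁻¹ * b'⁻¹ by group,
          ← hca (b' * zb),
          show a' * (b' * zb * za) * za⁻¹ * a'⁻¹ * zb⁻¹ * b'⁻¹ = a' * b' * (zb * a'⁻¹) * zb⁻¹ * b'⁻¹ by group,
          ← hcb a'⁻¹]
        group
      rw [this, commutatorElement_def]
      exact K.mul_mem (K.mul_mem (K.mul_mem ha' hb') (K.inv_mem ha')) (K.inv_mem hb')
    have hfix : ∀ s : SU 3 F q, suVal s *ᵥ v = v := fun s => hKtop.ge (Subgroup.mem_top s)
    obtain ⟨r, s, t, rfl⟩ := exists_co hF B v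
    have h1 := hfix (Um hF B 0 1)
    rw [U_act hF B (hskew 1 (map_one _))] at h1
    have ht : t = 0 := by
      have := (co_inj hF B h1).1
      simp at this
      exact this
    have h2 := hfix (Wm hF B)
    rw [W_act hF B] at h2
    have hr : r = 0 := by
      have := (co_inj hF B h2).2.2
      rw [this, ht]
    obtain ⟨b, hb⟩ := exists_trace_eq hF (a := -((1 : F) * qFrob hF 1)) (by simp)
    have hok : OK hF 1 b := by unfold OK; linear_combination hb
    have h3 := hfix (Um hF B 1 b)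
    rw [U_act hF B hok] at h3
    have hs : s = 0 := by
      have := (co_inj hF B h3).1
      rw [ht, map_one] at this
      linear_combination -this
    exact hv0 (by rw [hr, hs, ht]; simp [co])
  · rw [← Classical.UnitMult.natCard_SU3 hF]
    exact Subgroup.card_dvd_of_surjective π hπs

/-- The facts for a group isomorphic to `PSU₃(q)`. -/
theorem u3Facts_psu {G : Type v} [Group G] [Finite G] (hF : Fintype.card F = q ^ 2) (heven : Even q) (h4 : 4 ≤ q)
    (e : G ≃* PSU 3 F q) : U3Facts G q := by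
  haveI : Fact (Nat.Prime 2) := ⟨Nat.prime_two⟩
  have h := u3Facts_model hF heven h4
  have hs : Function.Surjective e.toMonoidHom := e.surjective
  refine ⟨fun S => ?_, fun S x hx htop => ?_, Nat.card_congr e.toEquiv ▸ h.dvd, h4⟩
  · rw [← h.card (S.mapSurjective hs), Sylow.coe_mapSurjective, ncard_omegaOne_map]
  · refine h.notgen (S.mapSurjective hs) (e x) (by rw [← map_mul, hx, map_one]) ?_
    have h1 := congrArg (Subgroup.map e.toMonoidHom) htop
    rw [MonoidHom.map_closure, Subgroup.map_top_of_surjective _ hs, Set.image_union, Set.image_singleton] at h1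
    rw [Sylow.coe_mapSurjective, omegaOne_map]
    exact h1

end Cfsg.Agent.Fus.OTLine
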