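import Cfsg.Agent.S5044
import Cfsg.Agent.Lib.Invol.BenderCover.Main
import Cfsg.Agent.Lib.Fus.OddTransp.LineUnitary
import Cfsg.Agent.Lib.Fus.OddTransp.Disconnected

/-!
# A disconnected setup modulo its core: a Bender group in which the members are all the involutions
-/

set_option autoImplicit false
set_option linter.unusedSectionVars false
set_option linter.style.haveILetI false

namespace Cfsg.Agent.Fus.OTLine

open Subgroup OddTransp Invol.BenderCover

universe u v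

section Torus

variable {Q : Type v} [Group Q] [Finite Q]

/-- Every Sylow 2-subgroup looks like the standard one. -/
theorem torus_sylow (h : TorusSylow Q) : ∃ Pb W : Subgroup Q, (∀ w ∈ W, ∀ x ∈ Pb, w * x = x * w) ∧
    (∀ x ∈ Pb, x * x = 1 → x ∈ W) ∧ (∀ a ∈ W, ∀ b ∈ W, a ≠ 1 → b ≠ 1 → IsConj a b) ∧
    ∀ S : Sylow 2 Q, ∃ g : Q, ∀ x ∈ (S : Subgroup Q), g⁻¹ * x * g ∈ Pb := by
  haveI : Fact (Nat.Prime 2) := ⟨Nat.prime_two⟩
  obtain ⟨Pb, W, hp, hi, -, -, hWc, hinv, -, -, htr, -⟩ := h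
  refine ⟨Pb, W, hWc, hinv, fun a ha b hb ha1 hb1 => _root_.isConj_iff.2 (htr a ha b hb ha1 hb1), fun S => ?_⟩
  obtain ⟨g, hg⟩ := MulAction.exists_smul_eq Q (hp.toSylow hi) S
  refine ⟨g, fun x hx => ?_⟩
  rw [← hg, Sylow.coe_subgroup_smul] at hx
  obtain ⟨y, hy, rfl⟩ := hx
  simpa [mul_assoc] using hy

/-- There is one class of involutions. -/
theorem isConj_involutions (h : TorusSylow Q) {a b : Q} (ha : a * a = 1) (ha1 : a ≠ 1) (hb : b * b = 1)
    (hb1 : b ≠ 1) : IsConj a b := by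
  haveI : Fact (Nat.Prime 2) := ⟨Nat.prime_two⟩
  obtain ⟨Pb, W, -, hinv, htr, hS⟩ := torus_sylow h
  have key : ∀ x : Q, x * x = 1 → x ≠ 1 → ∃ w ∈ W, w ≠ 1 ∧ IsConj x w := by
    intro x hx hx1
    obtain ⟨S, hxS⟩ := (IsPGroup.of_card (n := 1) (by
      rw [Nat.card_zpowers, pow_one]; exact orderOf_eq_prime (by rw [pow_two]; exact hx) hx1) :
      IsPGroup 2 (zpowers x)).exists_le_sylow
    obtain ⟨g, hg⟩ := hS S
    refine ⟨g⁻¹ * x * g, hinv _ (hg x (hxS (mem_zpowers x))) ?_, fun e => hx1 ?_, _root_.isConj_iff.2 ⟨g⁻¹, by group⟩⟩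
    · rw [show g⁻¹ * x * g * (g⁻¹ * x * g) = g⁻¹ * (x * x) * g by group, hx, mul_one, inv_mul_cancel]
    · calc x = g * (g⁻¹ * x * g) * g⁻¹ := by group
        _ = 1 := by rw [e, mul_one, mul_inv_cancel]
  obtain ⟨w, hw, hw1, h1⟩ := key a ha ha1
  obtain ⟨w', hw', hw1', h2⟩ := key b hb hb1
  exact h1.trans ((htr w hw w' hw' hw1 hw1').trans h2.symm)

/-- The involutions of a Sylow subgroup are central in it. -/
theorem omega_central (h : TorusSylow Q) (S : Sylow 2 Q) {w : Q} (hw : w ∈ omegaOne (S : Subgroup Q)) {y : Q}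
    (hy : y ∈ (S : Subgroup Q)) : w * y = y * w := by
  obtain ⟨Pb, W, hWc, hinv, -, hS⟩ := torus_sylow h
  obtain ⟨g, hg⟩ := hS S
  have h1 := hWc _ (hinv _ (hg w hw.1) (by
    rw [show g⁻¹ * w * g * (g⁻¹ * w * g) = g⁻¹ * (w * w) * g by group, hw.2, mul_one, inv_mul_cancel])) _ (hg y hy)
  calc w * y = g * (g⁻¹ * w * g * (g⁻¹ * y * g)) * g⁻¹ := by group
    _ = g * (g⁻¹ * y * g * (g⁻¹ * w * g)) * g⁻¹ := by rw [h1]
    _ = y * w := by group

end Torus

variable {G : Type u} [Group G] [Finite G] {T : Set G}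

theorem connected_of_inGroup
    (hc : Cfsg.IsConnectedSet (Cfsg.CommAdj (inGroup T)) (inGroup T)) : Connected T := by
  intro a ha b hb
  suffices ∀ q : ↥(closure T), Relation.ReflTransGen (Cfsg.CommAdj (inGroup T)) ⟨a, subset_closure ha⟩ q →
      Relation.ReflTransGen (fun u v => u ∈ T ∧ v ∈ T ∧ Commute u v) a q from
    this ⟨b, subset_closure hb⟩ (hc _ ha _ hb)
  intro q hq
  induction hq with
  | refl => exact .refl
  | tail _ e ih => exact ih.tail ⟨e.1, e.2.1, congrArg Subtype.val e.2.2.2⟩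

/-- The quotient of a disconnected setup is a Bender group. -/
theorem bender_cases (h : Setup T) (hnc : ¬ Connected T) :
    TorusSylow (Quot' T) ∧ ∃ q : ℕ,
      (L2Facts (Quot' T) q ∧ ∃ (F : Type) (_ : Field F) (_ : Fintype F), CharP F 2 ∧ Fintype.card F = q ∧
        Nonempty (Quot' T ≃* Matrix.ProjectiveSpecialLinearGroup (Fin 2) F)) ∨
      (Cfsg.Lie.IsoSuzuki (Quot' T) ∧ SzFacts (Quot' T) q) ∨ U3Facts (Quot' T) q := by
  rcases Cfsg.Agent.S5044.result h.isRootInvolutionSet h.products_inGroup with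
    hc | ⟨F, i1, i2, hc, h4, ⟨e⟩⟩ | hz | ⟨F, i1, i2, q, hc, hF, h4, ⟨e⟩⟩
  · exact absurd (connected_of_inGroup hc) hnc
  · have hbot : Subgroup.center (Matrix.SpecialLinearGroup (Fin 2) F) = ⊥ := by
      haveI := hc
      exact Fus.CTSimple.center_eq_bot_of_two CharTwo.two_eq_zero
    refine ⟨torusSylow_bender (Or.inl ⟨F, i1, i2, hc, h4,
      ⟨e.trans ((QuotientGroup.quotientMulEquivOfEq hbot).trans QuotientGroup.quotientBot)⟩⟩),
      Fintype.card F, Or.inl ⟨l2Facts_psl hc h4 e, F, i1, i2, hc, rfl, ⟨e⟩⟩⟩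
  · obtain ⟨q, hq⟩ := szFacts_suzuki hz
    exact ⟨torusSylow_bender (Or.inr (Or.inr hz)), q, Or.inr (Or.inl ⟨hz, hq⟩)⟩
  · have heven : Even q := by
      haveI := hc
      haveI : Fact (Nat.Prime 2) := ⟨Nat.prime_two⟩
      obtain ⟨n, -, hn⟩ := FiniteField.card F 2
      have : Even (q ^ 2) := hF ▸ hn ▸ Nat.even_pow.2 ⟨even_two, n.pos.ne'⟩
      exact (Nat.even_pow.1 this).1
    exact ⟨torusSylow_bender (Or.inr (Or.inl ⟨F, i1, i2, q, heven, h4, hF, ⟨e⟩⟩)), q,
      Or.inr (Or.inr (u3Facts_psu hF heven h4 e))⟩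

/-- Every involution of the quotient is the image of a member. -/
theorem mem_bar_of_involution (h : Setup T) (htor : TorusSylow (Quot' T)) {w : Quot' T} (hw : w * w = 1)
    (hw1 : w ≠ 1) : w ∈ bar T := by
  obtain ⟨a, ha⟩ := h.nonempty
  have hb := h.bar_setup
  have h1 := Invol.orderOf_two_iff.1 (hb.inv _ (img_mem_bar ha))
  obtain ⟨g, hg⟩ := _root_.isConj_iff.1 (isConj_involutions htor h1.1 h1.2 hw hw1)
  rw [← hg]
  exact hb.conj_mem (h.closure_bar ▸ mem_top g) (img_mem_bar ha)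

/-- The commuting members of a member are, modulo the core, the involutions of a Sylow subgroup. -/
theorem exists_sylow_fibre (h : Setup T) (hnc : ¬ Connected T) (htor : TorusSylow (Quot' T)) {a : G}
    (ha : a ∈ T) : ∃ S : Sylow 2 (Quot' T),
      (∀ b (hb : b ∈ T), img T hb ∈ omegaOne (S : Subgroup (Quot' T)) ↔ Commute b a) ∧
      ∀ w ∈ omegaOne (S : Subgroup (Quot' T)), w ≠ 1 → ∃ b, ∃ hb : b ∈ T, Commute b a ∧ img T hb = w := by
  haveI : Fact (Nat.Prime 2) := ⟨Nat.prime_two⟩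
  let A : Set (Quot' T) := {q | ∃ b, ∃ hb : b ∈ T, Commute b a ∧ img T hb = q}
  have hcomm : ∀ p ∈ A, ∀ q ∈ A, p * q = q * p := by
    rintro _ ⟨b, hb, hba, rfl⟩ _ ⟨c, hc, hca, rfl⟩
    exact ((h.commute_img hb hc).2 ((h.same_of_not_connected hnc hc ha hca b hb).2 hba)).eq
  have hA : IsPGroup 2 ↥(closure A) := by
    rintro ⟨g, hg⟩
    refine ⟨1, Subtype.ext ?_⟩
    show g ^ 2 ^ 1 = 1
    rw [pow_one, pow_two]
    suffices g * g = 1 ∧ ∀ q ∈ A, g * q = q * g from this.1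
    induction hg using closure_induction with
    | mem q hq =>
      obtain ⟨b, hb, hba, rfl⟩ := hq
      exact ⟨h.img_mul_self hb, fun q hq => hcomm _ ⟨b, hb, hba, rfl⟩ q hq⟩
    | one => exact ⟨mul_one 1, fun q _ => by rw [one_mul, mul_one]⟩
    | mul x y _ hy ihx ihy =>
      refine ⟨?_, fun q hq => by rw [mul_assoc, ihy.2 q hq, ← mul_assoc, ihx.2 q hq, mul_assoc]⟩
      have hxy : x * y = y * x := by
        clear ihy
        induction hy using closure_induction with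
        | mem q hq => exact ihx.2 q hq
        | one => rw [one_mul, mul_one]
        | mul p q _ _ e1 e2 => rw [← mul_assoc, e1, mul_assoc, e2, ← mul_assoc]
        | inv p _ e1 => exact ((show Commute x p from e1).inv_right).eq
      rw [mul_assoc, ← mul_assoc y x y, ← hxy, mul_assoc x y y, ihy.1, mul_one, ihx.1]
    | inv x _ ih =>
      exact ⟨by rw [← mul_inv_rev, ih.1, inv_one], fun q hq => ((show Commute x q from ih.2 q hq).inv_left).eq⟩
  obtain ⟨S, hS⟩ := hA.exists_le_sylow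
  have hfwd : ∀ b (hb : b ∈ T), Commute b a → img T hb ∈ omegaOne (S : Subgroup (Quot' T)) :=
    fun b hb hba => ⟨hS (subset_closure ⟨b, hb, hba, rfl⟩), h.img_mul_self hb⟩
  have hback : ∀ b (hb : b ∈ T), img T hb ∈ omegaOne (S : Subgroup (Quot' T)) → Commute b a := fun b hb hw =>
    (h.commute_img hb ha).1 (omega_central htor S hw (hS (subset_closure ⟨a, ha, Commute.refl a, rfl⟩)))
  refine ⟨S, fun b hb => ⟨hback b hb, hfwd b hb⟩, fun w hw hw1 => ?_⟩
  obtain ⟨b, hb, rfl⟩ := exists_of_mem_bar (mem_bar_of_involution h htor hw.2 hw1)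
  exact ⟨b, hb, hback b hb hw, rfl⟩

/-- Without congruent members the class of a member has `q - 1` elements. -/
theorem ncard_fibre (h : Setup T) (hnc : ¬ Connected T) (htor : TorusSylow (Quot' T)) (hred : Reduced T) {a : G}
    (ha : a ∈ T) {q : ℕ} (hcard : ∀ S : Sylow 2 (Quot' T), (omegaOne (S : Subgroup (Quot' T))).ncard = q) :
    {b | b ∈ T ∧ Commute b a}.ncard + 1 = q := by
  obtain ⟨S, hS1, hS2⟩ := exists_sylow_fibre h hnc htor ha
  have h1 : (1 : Quot' T) ∈ omegaOne (S : Subgroup (Quot' T)) := ⟨one_mem _, one_mul 1⟩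
  rw [← hcard S, ← Set.ncard_sdiff_singleton_add_one h1 (Set.toFinite _)]
  congr 1
  refine Set.ncard_congr (fun b hb => img T hb.1) (fun b hb => ?_) (fun b c hb hc e => ?_) fun w hw => ?_
  · exact ⟨(hS1 b hb.1).2 hb.2, (h.bar_setup.ne_one (img_mem_bar hb.1) : img T hb.1 ≠ 1)⟩
  · exact hred b hb.1 c hc.1 ((h.img_eq_iff hb.1 hc.1).1 e)
  · obtain ⟨b, hb, hba, rfl⟩ := hS2 w hw.1 fun e => hw.2 e
    exact ⟨b, ⟨hb, hba⟩, rfl⟩

end Cfsg.Agent.Fus.OTLine
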