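import Mathlib
import Cfsg.Agent.Lib.Fus.OddTransp.Core

/-!
# The properties proved by induction on the order of the group, and their pullback from the simple quotient
-/

set_option autoImplicit false
set_option linter.unusedSectionVars false

namespace Cfsg.Agent.Fus.OddTransp

open Subgroup

universe u

variable {G : Type u} [Group G]

/-- The properties of a setup with connected commuting graph. -/
structure Conn (S : Set G) : Prop where
  third : ∀ c ∈ S, ∀ f ∈ S, Commute c f → ∀ e ∈ S, ¬ Commute e c → ¬ Commute e f →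
    ∃ m ∈ S, Commute m c ∧ Commute m f ∧ Commute m e
  rconn : ∀ c ∈ S, ∀ a ∈ Res S c, ∀ b ∈ Res S c, Linked (Res S c) a b
  far : ∀ c ∈ S, ∀ x ∈ S, ¬ Commute c x → ∃ r ∈ Res S c, ¬ Commute r x
  close : ∀ c ∈ S, ∀ c' ∈ S, Same S c c' → c * c' ∈ core S ∨ ∃ a ∈ S, Same S c a ∧ c * c' * a ∈ core S
  sep : ∀ c ∈ S, ∀ x ∈ S, ∀ k ∈ S, ¬ Commute c x → Commute k c → ¬ Commute k x →
    (∀ y ∈ S, Commute y c → Commute y x → Commute k y) → Same S c k

theorem Conn.meet {S : Set G} (h : Conn S) {c x : G} (hc : c ∈ S) (hx : x ∈ S) :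
    ∃ m ∈ S, Commute m c ∧ Commute m x := by
  by_cases hcx : Commute c x
  · exact ⟨c, hc, Commute.refl c, hcx⟩
  · obtain ⟨m, hm, h1, -, h2⟩ := h.third c hc c hc (Commute.refl c) x hx (fun e => hcx e.symm) fun e => hcx e.symm
    exact ⟨m, hm, h1, h2⟩

/-- The properties hold for all connected setups generating a group of smaller order. -/
def Below (n : ℕ) : Prop :=
  ∀ (H : Type u) [Group H] [Finite H] (T : Set H), Setup T → Nat.card ↥(closure T) < n → Connected T → Conn T

variable [Finite G] {S : Set G}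

namespace Setup

variable (h : Setup S)
include h

theorem res_nonempty (hconn : Connected S) {c : G} (hc : c ∈ S) : (Res S c).Nonempty := by
  by_contra hne
  obtain ⟨x, hx, hcx⟩ := h.exists_far hc
  suffices ∀ y, Relation.ReflTransGen (fun u v => u ∈ S ∧ v ∈ S ∧ Commute u v) c y → Same S c y from
    hcx ((this x (hconn c hc x hx)).commute hc)
  intro y hy
  induction hy with
  | refl => exact Same.refl c
  | @tail u v _ huv ih =>
    refine Classical.byContradiction fun hn => hne ⟨v, huv.2.1, ?_, hn⟩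
    exact ((ih v huv.2.1).2 huv.2.2.symm)

theorem res_setup (hr : ∀ c ∈ S, ∀ a ∈ Res S c, ∀ b ∈ Res S c, Linked (Res S c) a b) {c f : G}
    (hc : c ∈ S) (hf : f ∈ Res S c) : Setup (Res S c) := by
  have hcomp : Comp (Res S c) f = Res S c :=
    Set.ext fun y => ⟨fun hy => hy.1, fun hy => ⟨hy, hr c hc f hf y hy⟩⟩
  obtain ⟨e, he, hef⟩ := h.exists_far_in_res hc hf
  rw [← hcomp]
  exact h.component (Res.subset S c) h.res_conj_mem ⟨hf, .refl⟩ (h.cl_subset_res hc hf) he fun e1 => hef e1.symm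

theorem res_card_lt (hc : core S = ⊥) {c : G} (hcS : c ∈ S) :
    Nat.card ↥(closure (Res S c)) < Nat.card ↥(closure S) :=
  h.card_lt_of_commute hc (Res.subset S c) (subset_closure hcS) (h.ne_one hcS) fun _ ht => ht.2.1.symm

theorem res_img {c a : G} (hc : c ∈ S) (ha : a ∈ S) :
    img S ha ∈ Res (bar S) (img S hc) ↔ a ∈ Res S c := by
  constructor
  · exact fun hr => ⟨ha, (h.commute_img ha hc).1 hr.2.1, fun hs => hr.2.2 ((h.same_img_iff hc ha).2 hs)⟩
  · exact fun hr => ⟨img_mem_bar ha, (h.commute_img ha hc).2 hr.2.1, fun hs => hr.2.2 ((h.same_img_iff hc ha).1 hs)⟩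

/-- The properties of a connected setup follow from those of the simple quotient. -/
theorem conn_of_bar (hb : Conn (bar S)) : Conn S := by
  refine ⟨fun c hc f hf hcf e he hec hef => ?_, fun c hc a ha b hb' => ?_, fun c hc x hx hn => ?_,
    fun c hc c' hc' hs => ?_, fun c hc x hx k hk hcx hkc hkx hall => ?_⟩
  · obtain ⟨q, hq, h1, h2, h3⟩ := hb.third _ (img_mem_bar hc) _ (img_mem_bar hf) ((h.commute_img hc hf).2 hcf)
      _ (img_mem_bar he) (fun e1 => hec ((h.commute_img he hc).1 e1)) fun e1 => hef ((h.commute_img he hf).1 e1)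
    obtain ⟨m, hm, rfl⟩ := exists_of_mem_bar hq
    exact ⟨m, hm, (h.commute_img hm hc).1 h1, (h.commute_img hm hf).1 h2, (h.commute_img hm he).1 h3⟩
  · suffices ∀ q, Linked (Res (bar S) (img S hc)) (img S ha.1) q →
        ∀ y, ∀ hy : y ∈ Res S c, img S hy.1 = q → Linked (Res S c) a y from
      this _ (hb.rconn _ (img_mem_bar hc) _ ((h.res_img hc ha.1).2 ha) _ ((h.res_img hc hb'.1).2 hb')) b hb' rfl
    intro q hq
    induction hq with
    | refl =>
      intro y hy e
      obtain ⟨z, hz, hza⟩ := h.exists_far_in_res hc ha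
      have hs := h.same_of_mul_mem_core hy.1 ha.1 ((h.img_eq_iff hy.1 ha.1).1 e)
      exact (Relation.ReflTransGen.single ⟨ha, hz, fun e => hza e.symm⟩).tail
        ⟨hz, hy, fun e => hza ((hs z hz.1).1 e)⟩
    | tail _ huv ih =>
      intro y hy e
      obtain ⟨x, hx, rfl⟩ := exists_of_mem_bar huv.1.1
      have hxr := (h.res_img hc hx).1 huv.1
      exact (ih x hxr rfl).tail ⟨hxr, hy, fun e1 => huv.2.2 (e ▸ (h.commute_img hx hy.1).2 e1)⟩
  · obtain ⟨q, hq, hqx⟩ := hb.far _ (img_mem_bar hc) _ (img_mem_bar hx) fun e => hn ((h.commute_img hc hx).1 e)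
    obtain ⟨r, hr, rfl⟩ := exists_of_mem_bar hq.1
    exact ⟨r, (h.res_img hc hr).1 hq, fun e => hqx ((h.commute_img hr hx).2 e)⟩
  · rcases hb.close _ (img_mem_bar hc) _ (img_mem_bar hc') ((h.same_img_iff hc hc').2 hs) with e | ⟨q, hq, hsq, e⟩
    · rw [h.core_bar, mem_bot, img, img, ← map_mul] at e
      exact Or.inl ((mem_core (mul_mem (subset_closure hc) (subset_closure hc'))).2
        ((QuotientGroup.eq_one_iff _).1 e))
    · obtain ⟨a, ha, rfl⟩ := exists_of_mem_bar hq
      rw [h.core_bar, mem_bot, img, img, img, ← map_mul, ← map_mul] at e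
      exact Or.inr ⟨a, ha, (h.same_img_iff hc ha).1 hsq,
        (mem_core (mul_mem (mul_mem (subset_closure hc) (subset_closure hc')) (subset_closure ha))).2
          ((QuotientGroup.eq_one_iff _).1 e)⟩
  · refine (h.same_img_iff hc hk).1 (hb.sep _ (img_mem_bar hc) _ (img_mem_bar hx) _ (img_mem_bar hk)
      (fun e => hcx ((h.commute_img hc hx).1 e)) ((h.commute_img hk hc).2 hkc)
      (fun e => hkx ((h.commute_img hk hx).1 e)) fun q hq h1 h2 => ?_)
    obtain ⟨y, hy, rfl⟩ := exists_of_mem_bar hq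
    exact (h.commute_img hk hy).2 (hall y hy ((h.commute_img hy hc).1 h1) ((h.commute_img hy hx).1 h2))

end Setup

end Cfsg.Agent.Fus.OddTransp
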