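import Mathlib
import Cfsg.Agent.Lib.Fus.OddTransp.Good
import Cfsg.Agent.Lib.Fus.OddTransp.Disconnected

/-!
# Residues of a simple connected setup are connected, and three points on a line pair

`rconn_step`, `middle_same`, `exists_third`, `far_step`: the first steps of the induction.
-/

set_option autoImplicit false
set_option linter.unusedSectionVars false
set_option linter.style.haveILetI false

namespace Cfsg.Agent.Fus.OddTransp

open Subgroup

universe u

variable {G : Type u} [Group G] {S T : Set G}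

theorem Linked.mono (hTS : T ⊆ S) {a b : G} (hl : Linked T a b) : Linked S a b :=
  by
  induction hl with
  | refl => exact .refl
  | tail _ e ih => exact ih.tail ⟨hTS e.1, hTS e.2.1, e.2.2⟩

theorem res_mono (hTS : T ⊆ S) {c f : G} (hf : f ∈ Res T c) : f ∈ Res S c :=
  ⟨hTS hf.1, hf.2.1, fun hs => hf.2.2 fun e he => hs e (hTS he)⟩

namespace Setup

variable (h : Setup S)
include h

theorem eq_of_invariant {U : Set G} (hU : U ⊆ S) (hne : U.Nonempty)
    (hinv : ∀ a ∈ U, ∀ b ∈ S, b * a * b⁻¹ ∈ U) : U = S := by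
  refine Set.Subset.antisymm hU fun y hy => ?_
  obtain ⟨a, ha⟩ := hne
  obtain ⟨g, hg, rfl⟩ := h.exists_conj (hU ha) hy
  clear hy
  suffices ∀ a ∈ U, g * a * g⁻¹ ∈ U ∧ g⁻¹ * a * g ∈ U from (this a ha).1
  induction hg using Subgroup.closure_induction with
  | mem z hz =>
    intro a ha
    have := hinv a ha z hz
    rw [h.inv_eq hz] at this ⊢
    exact ⟨this, this⟩
  | one => intro a ha; simpa using ha
  | mul u v _ _ ihu ihv =>
    intro a ha
    refine ⟨?_, ?_⟩
    · rw [show u * v * a * (u * v)⁻¹ = u * (v * a * v⁻¹) * u⁻¹ by group]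
      exact (ihu _ (ihv a ha).1).1
    · rw [show (u * v)⁻¹ * a * (u * v) = v⁻¹ * (u⁻¹ * a * u) * v by group]
      exact (ihv _ (ihu a ha).2).2
  | inv u _ ih => intro a ha; rw [inv_inv]; exact (ih a ha).symm

/-- An involution sending `e` where the reflection `d` sends it commutes with `d`. -/
theorem commute_middle {e d z : G} (he : e ∈ S) (hd : d ∈ S) (hz : z ∈ closure S) (hzz : z * z = 1)
    (hn : ¬ Commute e d) (heq : d * e * d = z * e * z) : Commute z d := by
  have hzinv : z⁻¹ = z := inv_eq_of_mul_eq_one_right hzz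
  have hd' : z * d * z ∈ S := by simpa [hzinv] using h.conj_mem hz hd
  have hback : d * (z * e * z) * d = e := by
    rw [← heq, show d * (d * e * d) * d = (d * d) * e * (d * d) by group, h.mul_self hd, one_mul, mul_one]
  have h1 : z * d * z * e * (z * d * z) = d * e * d := by
    calc z * d * z * e * (z * d * z) = z * (d * (z * e * z) * d) * z := by group
      _ = d * e * d := by rw [hback, heq]
  have h2 : ¬ Commute e (z * d * z) := fun hc1 => by
    have h4 : z * d * z * e * (z * d * z) = e := by rw [← hc1.eq, mul_assoc, h.mul_self hd', mul_one]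
    rw [h1] at h4
    refine hn ?_
    show e * d = d * e
    calc e * d = d * e * d * d := by rw [h4]
      _ = d * e := by rw [mul_assoc, h.mul_self hd, mul_one]
  have hq := h.reflection_unique he hd hd' hn h2 h1.symm
  show z * d = d * z
  nth_rw 2 [hq]
  rw [mul_assoc (z * d) z z, hzz, mul_one]

theorem not_commute_reflect {e d : G} (he : e ∈ S) (hd : d ∈ S) (hn : ¬ Commute e d) :
    ¬ Commute e (d * e * d) := fun hc => hn <| by
  have h1 : Commute e ((e * d) ^ 2) := by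
    rw [pow_two, show e * d * (e * d) = e * (d * e * d) by group]
    exact (Commute.refl e).mul_right hc
  obtain ⟨n, hn1⟩ := h.odd_of_not_commute he hd hn
  have h2 := h1.pow_right (n + 1)
  rw [pow_eq_of_odd hn1] at h2
  have h3 := (Commute.refl e).mul_right h2
  rwa [← mul_assoc, h.mul_self he, one_mul] at h3

theorem linked_conj {g c a b : G} (hg : g ∈ closure S) (hl : Linked (Res S c) a b) :
    Linked (Res S (g * c * g⁻¹)) (g * a * g⁻¹) (g * b * g⁻¹) := by
  induction hl with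
  | refl => exact .refl
  | tail _ e ih =>
    exact ih.tail ⟨h.conj_mem_res hg e.1, h.conj_mem_res hg e.2.1, fun e1 => e.2.2 ((commute_conj_iff g).1 e1)⟩

end Setup

section Steps

variable [Finite G] (h : Setup S) (hc0 : core S = ⊥) (hconn : Connected S)
  (ih : Below.{u} (Nat.card ↥(closure S)))
include h hc0 hconn ih

/-- Residues are connected by non-commuting pairs. -/
theorem Setup.rconn_step : ∀ c ∈ S, ∀ a ∈ Res S c, ∀ b ∈ Res S c, Linked (Res S c) a b := by
  intro c₀ hc₀ a₀ ha₀ b₀ hb₀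
  by_contra hnot
  haveI : Nonempty {p : G × G // p.1 ∈ S ∧ p.2 ∈ Res S p.1} := ⟨⟨(c₀, a₀), hc₀, ha₀⟩⟩
  obtain ⟨⟨⟨c, f₀⟩, hc, hf₀⟩, hmax⟩ := Finite.exists_max
    (fun p : {p : G × G // p.1 ∈ S ∧ p.2 ∈ Res S p.1} => (Comp (Res S p.1.1) p.1.2).ncard)
  obtain ⟨R, hR⟩ : ∃ R, R = Comp (Res S c) f₀ := ⟨_, rfl⟩
  have hfR : f₀ ∈ R := hR ▸ ⟨hf₀, .refl⟩
  have hRS : R ⊆ S := fun r hr => (hR ▸ hr : r ∈ Comp (Res S c) f₀).1.1
  have hnb : ∀ r ∈ R, ∃ r' ∈ R, ¬ Commute r r' := fun r hr => by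
    subst hR
    obtain ⟨e, he, her⟩ := h.exists_far_in_res hc hr.1
    exact ⟨e, Comp.step hr he fun e1 => her e1.symm, fun e1 => her e1.symm⟩
  obtain ⟨U, hU⟩ : ∃ U : Set G,
      U = {d | d ∈ S ∧ R ⊆ Res S d ∧ ∀ r ∈ R, ∀ y ∈ Res S d, ¬ Commute r y → y ∈ R} := ⟨_, rfl⟩
  have hmem : ∀ d, d ∈ U ↔ d ∈ S ∧ R ⊆ Res S d ∧ ∀ r ∈ R, ∀ y ∈ Res S d, ¬ Commute r y → y ∈ R :=
    fun d => hU ▸ Iff.rfl
  have hcU : c ∈ U := (hmem c).2 ⟨hc, fun r hr => (hR ▸ hr : r ∈ Comp (Res S c) f₀).1,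
    fun r hr y hy hn => hR ▸ Comp.step (hR ▸ hr : r ∈ Comp (Res S c) f₀) hy hn⟩
  have hUc : ∀ d ∈ U, ∀ r ∈ R, Commute d r := fun d hd r hr => (((hmem d).1 hd).2.1 hr).2.1.symm
  have key : ∀ d ∈ U, ∀ g ∈ S, Commute g d → g ∉ R → g ∈ U := by
    intro d hd g hg hgd hgR
    obtain ⟨hdS, hdR, hdcl⟩ := (hmem d).1 hd
    have hgr : ∀ r ∈ R, Commute r g := fun r hr => by
      by_cases hs : Same S d g
      · exact (hs r (hRS hr)).1 (hdR hr).2.1
      · by_contra hn
        exact hgR (hdcl r hr g ⟨hg, hgd, hs⟩ hn)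
    have hsub : R ⊆ Res S g := fun r hr => by
      refine ⟨hRS hr, hgr r hr, fun hs => ?_⟩
      obtain ⟨r', hr', hn⟩ := hnb r hr
      exact hn ((hs r' (hRS hr')).1 (hgr r' hr')).symm
    have hsub' : R ⊆ Comp (Res S g) f₀ := fun r hr => by
      refine ⟨hsub hr, Linked.mono hsub ?_⟩
      subst hR
      exact Comp.linked hr
    have heq := Set.eq_of_subset_of_ncard_le hsub'
      (le_of_le_of_eq (hmax ⟨(g, f₀), hg, hsub hfR⟩) (congrArg Set.ncard hR.symm))
    exact (hmem g).2 ⟨hg, hsub, fun r hr y hy hn => heq ▸ Comp.step (heq ▸ hr) hy hn⟩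
  have hdisj : ∀ d ∈ U, d ∉ R := fun d hd hdR => (((hmem d).1 hd).2.1 hdR).2.2 (Same.refl d)
  have hRinv : ∀ r ∈ R, ∀ r' ∈ R, r' * r * r'⁻¹ ∈ R := by
    subst hR
    exact fun r hr r' hr' => h.comp_conj_mem h.res_conj_mem hr hr'
  have hUinv : ∀ a ∈ U, ∀ b ∈ U ∪ R, b * a * b⁻¹ ∈ U := by
    intro a ha b hb
    rcases hb with hb | hb
    · by_cases hab : Commute b a
      · rwa [conj_eq_self_of_commute hab]
      obtain ⟨haS, haR, hacl⟩ := (hmem a).1 ha
      have hbS := ((hmem b).1 hb).1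
      have hfix : ∀ r ∈ R, b * r * b⁻¹ = r := fun r hr => conj_eq_self_of_commute (hUc b hb r hr)
      refine (hmem _).2 ⟨h.conj a haS b hbS, fun r hr => hfix r hr ▸ h.conj_mem_res (subset_closure hbS) (haR hr),
        fun r hr y hy hn => ?_⟩
      have hy' : b⁻¹ * y * b⁻¹⁻¹ ∈ Res S a := by
        have := h.conj_mem_res (inv_mem (subset_closure hbS)) hy
        rwa [show b⁻¹ * (b * a * b⁻¹) * b⁻¹⁻¹ = a by group] at this
      have hback : b * (b⁻¹ * y * b⁻¹⁻¹) * b⁻¹ = y := by group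
      have hn' : ¬ Commute r (b⁻¹ * y * b⁻¹⁻¹) := fun e => hn (by
        have := commute_conj e b
        rwa [hfix r hr, hback] at this)
      have hmemR := hacl r hr _ hy' hn'
      rw [← hback, hfix _ hmemR]
      exact hmemR
    · rwa [conj_eq_self_of_commute (hUc a ha b hb).symm]
  have hne : ¬ S ⊆ U ∪ R := fun hall => by
    have := h.eq_of_invariant (fun d hd => ((hmem d).1 hd).1) ⟨c, hcU⟩ fun a ha b hb => hUinv a ha b (hall hb)
    exact hdisj f₀ (this ▸ hRS hfR) hfR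
  obtain ⟨u, hu, x, hx, hxW, hux⟩ : ∃ u ∈ U ∪ R, ∃ x ∈ S, x ∉ U ∪ R ∧ Commute u x := by
    by_contra! hall
    refine hne fun y hy => ?_
    have hl := hconn c hc y hy
    clear hy
    induction hl with
    | refl => exact Or.inl hcU
    | @tail p q _ hpq ihp =>
      by_contra hq
      exact hall p ihp q hpq.2.1 hq hpq.2.2
  have hUx : ∀ d ∈ U, ¬ Commute d x := fun d hd e => by
    by_cases hxR : x ∈ R
    · exact hxW (Or.inr hxR)
    · exact hxW (Or.inl (key d hd x hx e.symm hxR))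
  obtain ⟨f, hfR', hfx⟩ : ∃ f ∈ R, Commute f x :=
    hu.elim (fun hu => absurd hux (hUx u hu)) fun hu => ⟨u, hu, hux⟩
  have hfS := hRS hfR'
  have hUf : ∀ d ∈ U, d ∈ Res S f := fun d hd => h.res_symm ((hmem d).1 hd).1 (((hmem d).1 hd).2.1 hfR')
  have hxf : x ∈ Res S f :=
    ⟨hx, hfx.symm, fun hs => hUx c hcU ((hs c hc).1 (hUf c hcU).2.1)⟩
  have hin : ∀ d ∈ U, d ∈ Comp (Res S f) x := fun d hd =>
    Comp.step ⟨hxf, .refl⟩ (hUf d hd) fun e => hUx d hd e.symm
  have hS' := h.component (Res.subset S f) h.res_conj_mem (hin c hcU) (h.cl_subset_res hfS (hUf c hcU)) hxf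
    (hUx c hcU)
  obtain ⟨g, hg, hgR⟩ : ∃ g ∈ Res S c, g ∉ R := by
    by_contra! hall
    obtain ⟨k, hk, hkc⟩ := h.exists_conj hc hc₀
    have hk' := inv_mem hk
    have hkc' : k⁻¹ * c₀ * k⁻¹⁻¹ = c := by rw [← hkc]; group
    have h1 := hall _ (hkc' ▸ h.conj_mem_res hk' ha₀)
    have h2 := hall _ (hkc' ▸ h.conj_mem_res hk' hb₀)
    rw [hR] at h1 h2
    have h3 := h.linked_conj hk (h1.2.symm.trans h2.2)
    rw [hkc, show k * (k⁻¹ * a₀ * k⁻¹⁻¹) * k⁻¹ = a₀ by group,
      show k * (k⁻¹ * b₀ * k⁻¹⁻¹) * k⁻¹ = b₀ by group] at h3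
    exact hnot h3
  obtain ⟨g', hg', hgg'⟩ := h.exists_far_in_res hc hg
  have hg'R : g' ∉ R := fun e => hgR (((hmem c).1 hcU).2.2 g' e g hg hgg')
  have hgU := key c hcU g hg.1 hg.2.1 hgR
  have hg'U := key c hcU g' hg'.1 hg'.2.1 hg'R
  have hS'sub : Comp (Res S f) x ⊆ S := fun y hy => hy.1.1
  have hlt := h.card_lt_of_commute hc0 hS'sub (subset_closure hfS) (h.ne_one hfS) fun t ht => ht.1.2.1.symm
  have hcon' : Connected (Comp (Res S f) x) := by
    by_contra hdis
    have h1 := hS'.same_of_not_connected hdis (hin c hcU) (hin g hgU) hg.2.1.symm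
    exact hgg' ((h1 g' (hin g' hg'U)).1 hg'.2.1)
  have hgood := ih G _ hS' hlt hcon'
  obtain ⟨y, hy, hyc, hyx⟩ := hgood.meet (hin c hcU) (x := x) ⟨hxf, .refl⟩
  have hyR : y ∈ R := by
    by_contra hyR
    exact hUx y (key c hcU y (hS'sub hy) hyc hyR) hyx
  have hgres : g ∈ Res (Comp (Res S f) x) c :=
    ⟨hin g hgU, hg.2.1, fun hs => hgg' ((hs g' (hin g' hg'U)).1 hg'.2.1)⟩
  have hyres : y ∈ Res (Comp (Res S f) x) c :=
    ⟨hy, hyc, fun hs => hUx c hcU ((hs x ⟨hxf, .refl⟩).2 hyx.symm).symm⟩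
  have hpath := Linked.mono (fun z hz => res_mono hS'sub hz) (hgood.rconn c (hin c hcU) g hgres y hyres)
  refine hgR (hR ▸ ⟨hg, ?_⟩)
  exact (hR ▸ hyR : y ∈ Comp (Res S c) f₀).2.trans hpath.symm

/-- The middle of `x` and its conjugate by a product of two members of a class lies in that class. -/
theorem Setup.middle_same {c c₁ c₂ x d : G} (hc : c ∈ S) (h₁ : c₁ ∈ Cl S c) (h₂ : c₂ ∈ Cl S c) (hx : x ∈ S)
    (hxc : ¬ Commute x c) (hd : d ∈ S) (hxd : ¬ Commute x d)
    (heq : d * x * d = c₁ * c₂ * x * (c₁ * c₂)) : Same S c d := by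
  obtain ⟨p, hp⟩ : ∃ p, p = c₁ * c₂ := ⟨_, rfl⟩
  have h12 := h.cl_commute h₁ h₂
  have hne : c₁ ≠ c₂ := fun e => by
    rw [e, h.mul_self h₂.1, one_mul, mul_one] at heq
    refine hxd ?_
    show x * d = d * x
    calc x * d = d * x * d * d := by rw [heq]
      _ = d * x := by rw [mul_assoc, h.mul_self hd, mul_one]
  rw [← hp] at heq
  have hpp : p * p = 1 := hp ▸ h.mul_sq_of_commute h₁.1 h₂.1 h12
  have hpcl : p ∈ closure S := hp ▸ mul_mem (subset_closure h₁.1) (subset_closure h₂.1)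
  have hdp := h.commute_middle hx hd hpcl hpp hxd heq
  obtain ⟨hd1, -⟩ := h.commute_of_commute_mul h₁.1 h₂.1 hne h12 hd (hp ▸ hdp.symm)
  have hdc : Commute d c := (h₁.2 d hd).2 hd1
  by_contra hns
  obtain ⟨f, hf, hfd⟩ := h.exists_far_in_res hc (f := d) ⟨hd, hdc, hns⟩
  have hfp : Commute f p := hp ▸ ((h₁.2 f hf.1).1 hf.2.1).mul_right ((h₂.2 f hf.1).1 hf.2.1)
  have hxf : ¬ Commute x f := fun e => hfd (h.commute_reflection hx hd hxd e.symm
    (heq ▸ (hfp.mul_right e.symm).mul_right hfp))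
  obtain ⟨c', hc', d', hd', -, -, hd'c, hd'c', hd'f, -, -, hue, hu1, -, huc, huf, -⟩ := h.trick hc hf hx hxc hxf
  obtain ⟨u, hu⟩ : ∃ u, u = c' * f * d' := ⟨_, rfl⟩
  rw [← hu] at hue hu1 huc huf
  have hucl : ∀ y ∈ Cl S c, Commute y u := fun y hy => by
    rw [hu]
    exact ((h.cl_commute hy hc').mul_right ((hy.2 f hf.1).1 hf.2.1).symm).mul_right ((hy.2 d' hd').1 hd'c).symm
  have hup : Commute u p := hp ▸ (hucl _ h₁).symm.mul_right (hucl _ h₂).symm
  have hud : Commute u d := h.commute_reflection hx hd hxd hue (heq ▸ (hup.mul_right hue).mul_right hup)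
  obtain ⟨V, hV⟩ : ∃ V : Set G, V = {y | y ∈ S ∧ ∀ v ∈ ({u} : Set G), Commute y v} := ⟨_, rfl⟩
  have hVmem : ∀ y ∈ S, Commute y u → y ∈ V := fun y hy e => hV ▸ ⟨hy, fun v hv => by rwa [Set.mem_singleton_iff.1 hv]⟩
  have hxV := hVmem x hx hue.symm
  have hx' : x ∈ Comp V x := ⟨hxV, .refl⟩
  have hclV : ∀ y ∈ Cl S c, y ∈ Comp V x := fun y hy =>
    Comp.step hx' (hVmem y hy.1 (hucl y hy)) (h.not_commute_of_same hy.2 hx hxc)
  have hcS' := hclV c (self_mem_cl hc)
  have hfS' : f ∈ Comp V x := Comp.step hx' (hVmem f hf.1 huf.symm) hxf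
  have hdS' : d ∈ Comp V x := Comp.step hfS' (hVmem d hd hud.symm) hfd
  have hS' := h.component (T := V) (hV ▸ fun y hy => hy.1) (hV ▸ commutant_conj_mem h.conj) hcS'
    (fun y hy => (hclV y hy).1) hxV fun e => hxc e.symm
  have hsub : Comp V x ⊆ S := fun y hy => (hV ▸ hy.1 : y ∈ {y | y ∈ S ∧ ∀ v ∈ ({u} : Set G), Commute y v}).1
  have hlt := h.card_lt_of_commute hc0 hsub (u := u)
    (hu ▸ mul_mem (mul_mem (subset_closure hc'.1) (subset_closure hf.1)) (subset_closure hd')) hu1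
    fun t ht => ((hV ▸ ht.1 : t ∈ {y | y ∈ S ∧ ∀ v ∈ ({u} : Set G), Commute y v}).2 u rfl).symm
  have hcon' : Connected (Comp V x) := by
    by_contra hdis
    have h1 := hS'.same_of_not_connected hdis hcS' hfS' hf.2.1.symm
    exact hfd ((h1 d hdS').1 hdc).symm
  have hs12 : Same (Comp V x) c₁ c₂ := fun e he => (h₁.2.symm.trans h₂.2) e (hsub he)
  have hc1' := hclV _ h₁
  have hxd' : d * x * d ∈ Comp V x := by
    simpa [h.inv_eq hd] using hS'.conj x hx' d hdS'
  rcases (ih G _ hS' hlt hcon').close c₁ hc1' c₂ (hclV _ h₂) hs12 with e | ⟨a, ha, hsa, e⟩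
  · rw [← hp] at e
    refine h.not_commute_reflect hx hd hxd (hS'.commute_of_mul_mem_core hx' hxd' ?_)
    rw [heq, show x * (p * x * p) = x * p * x⁻¹ * p by rw [h.inv_eq hx]; group]
    exact mul_mem (core_conj_mem (subset_closure hx') e) e
  · rw [← hp] at e
    obtain ⟨q, hq⟩ : ∃ q, q = p * a := ⟨_, rfl⟩
    rw [← hq] at e
    have hpq : p = q * a := by rw [hq, mul_assoc, hS'.mul_self ha, mul_one]
    have haxa : a * x * a ∈ Comp V x := hS'.conj_self hx' ha
    have hk : d * x * d * (a * x * a) ∈ core (Comp V x) := by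
      rw [heq, hpq, show q * a * x * (q * a) * (a * x * a) = q * (a * x * q * (a * a) * x * a) by group,
        hS'.mul_self ha, mul_one,
        show a * x * q * x * a = a * x * q * (a * x)⁻¹ by rw [_root_.mul_inv_rev, hS'.inv_eq hx', hS'.inv_eq ha]; group]
      exact mul_mem e (core_conj_mem (mul_mem (subset_closure ha) (subset_closure hx')) e)
    have hxc1 : ¬ Commute x c₁ := h.not_commute_of_same h₁.2 hx hxc
    have himg : img (Comp V x) hdS' * img (Comp V x) hx' * img (Comp V x) hdS' =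
        img (Comp V x) ha * img (Comp V x) hx' * img (Comp V x) ha := by
      have h1 : img (Comp V x) hxd' = img (Comp V x) haxa := (hS'.img_eq_iff hxd' haxa).2 hk
      simp only [img, ← map_mul]
      exact h1
    have hda := hS'.bar_setup.reflection_unique (img_mem_bar hx') (img_mem_bar hdS') (img_mem_bar ha)
      (fun e => hxd ((hS'.commute_img hx' hdS').1 e))
      (fun e => hxc1 ((hsa x hx').2 ((hS'.commute_img hx' ha).1 e))) himg
    have hsd := hS'.same_of_mul_mem_core hdS' ha ((hS'.img_eq_iff hdS' ha).1 hda)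
    exact hfd ((hsd f hfS').2 ((hsa f hfS').1 ((h₁.2 f hf.1).1 hf.2.1)))

/-- Two commuting points have a common neighbour off both. -/
theorem Setup.exists_third {c f : G} (hc : c ∈ S) (hf : f ∈ Res S c) :
    ∃ g ∈ S, Commute g c ∧ Commute g f ∧ ¬ Same S c g ∧ ¬ Same S f g := by
  have hr := h.rconn_step hc0 hconn ih
  by_contra! hnone
  have hall : ∀ c₁ ∈ S, ∀ f₁ ∈ Res S c₁, ∀ g ∈ S, Commute g c₁ → Commute g f₁ →
      Same S c₁ g ∨ Same S f₁ g := by
    intro c₁ hc₁ f₁ hf₁ g hg h1 h2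
    obtain ⟨k, hk, hkc⟩ := h.exists_conj hc₁ hc
    have hf' : k * f₁ * k⁻¹ ∈ Res S c := hkc ▸ h.conj_mem_res hk hf₁
    obtain ⟨m, hm, hmf⟩ := (h.res_setup hr hc hf).exists_conj hf' hf
    have hmc : Commute m c := by
      have : closure (Res S c) ≤ centralizer {c} :=
        (closure_le _).2 fun y hy => mem_centralizer_singleton_iff.2 hy.2.1.eq
      exact (mem_centralizer_singleton_iff.1 (this hm))
    have hmS : m * k ∈ closure S := mul_mem (closure_mono (Res.subset S c) hm) hk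
    have hc' : m * k * c₁ * (m * k)⁻¹ = c := by
      rw [show m * k * c₁ * (m * k)⁻¹ = m * (k * c₁ * k⁻¹) * m⁻¹ by group, hkc, conj_eq_self_of_commute hmc]
    have hf'' : m * k * f₁ * (m * k)⁻¹ = f := by rw [← hmf]; group
    have h1' := commute_conj h1 (m * k)
    have h2' := commute_conj h2 (m * k)
    rw [hc'] at h1'
    rw [hf''] at h2'
    by_cases hs : Same S c₁ g
    · exact Or.inl hs
    refine Or.inr ((h.same_conj_iff hmS).1 ?_)
    rw [hf'']
    exact hnone _ (h.conj_mem hmS hg) h1' h2' fun e => hs ((h.same_conj_iff hmS).1 (hc'.symm ▸ e))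
  have hsame : ∀ c₁ ∈ S, ∀ a ∈ Res S c₁, ∀ b ∈ Res S c₁, Commute a b → Same S a b := fun c₁ hc₁ a ha b hb hab =>
    (hall c₁ hc₁ a ha b hb.1 hb.2.1 hab.symm).resolve_left hb.2.2
  obtain ⟨c₁, hc₁, f₁, hf₁, e, he, hec, hef⟩ : ∃ c₁ ∈ S, ∃ f₁ ∈ Res S c₁, ∃ e ∈ S, ¬ Commute e c₁ ∧ ¬ Commute e f₁ := by
    by_contra! hbad
    have hfc := h.res_symm hc hf
    have hcover : ∀ e ∈ S, e ∈ Res S f ∨ e ∈ Res S c := fun e he => by
      by_cases h1 : Commute e c
      · by_cases h2 : Same S c e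
        · exact Or.inl (h.cl_subset_res hf.1 hfc ⟨he, h2⟩)
        · exact Or.inr ⟨he, h1, h2⟩
      · have h2 := hbad c hc f hf e he h1
        by_cases h3 : Same S f e
        · exact Or.inr (h.cl_subset_res hc hf ⟨he, h3⟩)
        · exact Or.inl ⟨he, h2, h3⟩
    have hAB : ∀ a ∈ Res S f, ∀ b ∈ Res S c, Commute a b := fun a ha b hb => by
      by_cases h1 : Commute b a
      · exact h1.symm
      · have h2 := hbad a ha.1 f (h.res_symm hf.1 ha) b hb.1 h1
        have h3 := hsame c hc f hf b hb h2.symm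
        exact (h3 a ha.1).1 ha.2.1
    have hA : Res S f = S := h.eq_of_invariant (Res.subset S f) ⟨c, hfc⟩ fun a ha b hb => by
      rcases hcover b hb with hb | hb
      · exact h.res_conj_mem a ha b hb
      · rwa [conj_eq_self_of_commute (hAB a ha b hb).symm]
    exact Setup.res_ne h (hA.symm ▸ hf.1 : f ∈ Res S f) rfl
  obtain ⟨c', hc', d, hd, hed, -, hdc, -, hdf, -, -, hue, -, huu, -⟩ := h.trick hc₁ hf₁ he hec hef
  have hc'f : Commute c' f₁ := ((hc'.2 f₁ hf₁.1).1 hf₁.2.1).symm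
  have hfd : Commute f₁ d := hdf.symm
  have hflip : ∀ p q : G, Commute (p * q) e → p * q * (p * q) = 1 → q * q = 1 → Commute p q →
      q * e * q = p * e * p := by
    intro p q h1 h2 h3 h4
    have h5 : p * q * e * (p * q) = e := by rw [h1.eq, mul_assoc, h2, mul_one]
    calc q * e * q = q * (p * q * e * (p * q)) * q := by rw [h5]
      _ = q * q * (p * e * p) * (q * q) := by
          rw [show q * (p * q * e * (p * q)) * q = (q * p) * q * e * p * (q * q) by group, ← h4.eq,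
            show p * q * q * e * p * (q * q) = p * (q * q) * e * p * (q * q) by group, h3]
          simp [mul_assoc]
      _ = p * e * p := by rw [h3, one_mul, mul_one]
  rcases hall c₁ hc₁ f₁ hf₁ d hd hdc hdf with hs | hs
  · refine hf₁.2.2 (h.middle_same hc0 hconn ih hc₁ hc' ⟨hd, hs⟩ he hec hf₁.1 hef ?_)
    have heq : c' * d * f₁ = c' * f₁ * d := by rw [mul_assoc, ← hfd.eq, ← mul_assoc]
    exact hflip (c' * d) f₁ (heq ▸ hue) (heq ▸ huu) (h.mul_self hf₁.1) (hc'f.mul_left hfd.symm)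
  · refine hf₁.2.2 (hc'.2.trans (h.middle_same hc0 hconn ih hf₁.1 (self_mem_cl hf₁.1) ⟨hd, hs⟩ he hef hc'.1
      (h.not_commute_of_same hc'.2 he hec) ?_).symm)
    have hc'd : Commute c' d := ((hc'.2 d hd).1 hdc).symm
    have heq : f₁ * d * c' = c' * f₁ * d := by
      rw [← (hc'f.mul_right hc'd).eq, mul_assoc]
    exact hflip (f₁ * d) c' (heq ▸ hue) (heq ▸ huu) (h.mul_self hc'.1) ((hc'f.mul_right hc'd).symm)

/-- A member not commuting with `c` misses some member of the residue of `c`. -/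
theorem Setup.far_step : ∀ c ∈ S, ∀ x ∈ S, ¬ Commute c x → ∃ r ∈ Res S c, ¬ Commute r x := by
  intro c hc x hx hn
  have hr := h.rconn_step hc0 hconn ih
  by_contra! hall
  obtain ⟨f, hf⟩ := h.res_nonempty hconn hc
  have hcf := h.res_symm hc hf
  have hxf : x ∈ Res S f := ⟨hx, (hall f hf).symm, fun hs => hn ((hs c hc).1 hcf.2.1)⟩
  obtain ⟨r, hrS, hrc, hrf, hnc, hnf⟩ := h.exists_third hc0 hconn ih hc hf
  have hrf' : r ∈ Res S f := ⟨hrS, hrf, hnf⟩
  have hS' := h.res_setup hr hf.1 hcf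
  have hrx := hall r ⟨hrS, hrc, hnc⟩
  have hcon' : Connected (Res S f) := by
    by_contra hdis
    exact hn ((hS'.same_of_not_connected hdis hcf hrf' hrc.symm x hxf).2 hrx.symm).symm
  obtain ⟨r', hr', hn'⟩ := (ih G _ hS' (h.res_card_lt hc0 hf.1) hcon').far c hcf x hxf hn
  exact hn' (hall r' (res_mono (Res.subset S f) hr'))

end Steps

end Cfsg.Agent.Fus.OddTransp
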