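import Mathlib
import Cfsg.Agent.Lib.Fus.OddTransp.Connectivity
import Cfsg.Agent.Lib.Grp.Baer

/-!
# The class of a member together with `1` is a group, and the separation property
-/

set_option autoImplicit false
set_option linter.unusedSectionVars false
set_option linter.style.haveILetI false

namespace Cfsg.Agent.Fus.OddTransp

open Subgroup

universe u

variable {G : Type u} [Group G] [Finite G] {S : Set G}

section Steps

variable (h : Setup S) (hc0 : core S = ⊥) (hconn : Connected S) (ih : Below.{u} (Nat.card ↥(closure S)))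
include h hc0 hconn ih

/-- An element centralising the commuting members of `c` and some other member is trivial. -/
theorem Setup.eq_one_of_commute_star {c x v : G} (hc : c ∈ S) (hx : x ∈ S) (hcx : ¬ Commute c x)
    (hv : v ∈ closure S) (hvC : ∀ y ∈ S, Commute y c → Commute v y) (hvx : Commute v x) : v = 1 := by
  have hr := h.rconn_step hc0 hconn ih
  obtain ⟨W, hW⟩ : ∃ W : Set G, W = {y | y ∈ S ∧ ∃ g ∈ closure S, Commute v g ∧ g * c * g⁻¹ = y} := ⟨_, rfl⟩
  have hWv : ∀ y ∈ W, Commute v y := fun y hy => by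
    obtain ⟨-, g, -, hvg, rfl⟩ := (hW ▸ hy : y ∈ {y | y ∈ S ∧ ∃ g ∈ closure S, Commute v g ∧ g * c * g⁻¹ = y})
    exact (hvg.mul_right (hvC c hc (Commute.refl c))).mul_right hvg.inv_right
  have hmove : ∀ y ∈ W, ∀ z ∈ S, ¬ Commute y z → Commute v z → z ∈ W := by
    intro y hy z hz hn hvz
    have hvy := hWv y hy
    subst hW
    obtain ⟨hyS, g, hg, hvg, rfl⟩ := hy
    obtain ⟨k, hk, hkc, hkz⟩ := h.exists_conj_of_not_commute hz hyS fun e => hn e.symm
    exact ⟨hz, k * g, mul_mem hk hg, (hkc v hvz hvy).mul_right hvg, by rw [← hkz]; group⟩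
  have hcW : c ∈ W := hW ▸ ⟨hc, 1, one_mem _, Commute.one_right v, by group⟩
  have hxW : x ∈ W := hmove c hcW x hx hcx hvx
  have hstar : ∀ z ∈ S, Commute z c → z ∈ W := by
    intro z hz hzc
    by_cases hs : Same S c z
    · exact hmove x hxW z hz (h.not_commute_of_same hs hx fun e => hcx e.symm) (hvC z hz hzc)
    obtain ⟨r, hr', hrx⟩ := h.far_step hc0 hconn ih c hc x hx hcx
    have hrW := hmove x hxW r hr'.1 (fun e => hrx e.symm) (hvC r hr'.1 hr'.2.1)
    have hl := hr c hc r hr' z ⟨hz, hzc, hs⟩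
    clear hs hzc hz
    induction hl with
    | refl => exact hrW
    | tail _ e ihp => exact hmove _ ihp _ e.2.1.1 e.2.2 (hvC _ e.2.1.1 e.2.1.2.1)
  have hall : ∀ y ∈ S, y ∈ W := by
    intro y hy
    have hl := hconn c hc y hy
    clear hy
    induction hl with
    | refl => exact hcW
    | @tail p q _ e ihp =>
      subst hW
      obtain ⟨-, g, hg, hvg, hgp⟩ := ihp
      have hq' : g⁻¹ * q * g⁻¹⁻¹ ∈ S := h.conj_mem (inv_mem hg) e.2.1
      have hqc : Commute (g⁻¹ * q * g⁻¹⁻¹) c := by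
        have := commute_conj e.2.2 g⁻¹
        rw [← hgp, show g⁻¹ * (g * c * g⁻¹) * g⁻¹⁻¹ = c by group] at this
        exact this.symm
      obtain ⟨-, k, hk, hvk, hkq⟩ := hstar _ hq' hqc
      exact ⟨e.2.1, g * k, mul_mem hg hk, hvg.mul_right hvk,
        by rw [show g * k * c * (g * k)⁻¹ = g * (k * c * k⁻¹) * g⁻¹ by group, hkq]; group⟩
  exact h.eq_one_of_commute hc0 hv fun a ha => hWv a (hall a ha)

/-- The product of two members with the same commuting members is a member. -/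
theorem Setup.mul_mem_step {c c' : G} (hc : c ∈ S) (hc' : c' ∈ S) (hs : Same S c c') (hne : c ≠ c') :
    c * c' ∈ S := by
  haveI : Fact (Nat.Prime 2) := ⟨Nat.prime_two⟩
  have hcc := hs.commute hc
  obtain ⟨p, hp⟩ : ∃ p, p = c * c' := ⟨_, rfl⟩
  have hpp : p * p = 1 := hp ▸ h.mul_sq_of_commute hc hc' hcc
  have hpcl : p ∈ closure S := hp ▸ mul_mem (subset_closure hc) (subset_closure hc')
  have hpinv : p⁻¹ = p := inv_eq_of_mul_eq_one_right hpp
  have hpo : orderOf p = 2 := hp ▸ h.orderOf_mul_of_commute hc hc' hcc hne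
  obtain ⟨x, hx, hxc, hxp⟩ : ∃ x ∈ S, ¬ Commute x c ∧ ¬ Commute x (p * x * p) := by
    by_contra! hall
    have hcore : p ∈ core S := by
      refine pCore_le_core (q := ⟨p, hpcl⟩) (Grp.baer_suzuki _ fun ⟨g, hg⟩ => ?_)
      obtain ⟨P, hP⟩ : ∃ P : ↥(closure S), P = ⟨p, hpcl⟩ := ⟨_, rfl⟩
      rw [← hP]
      have hord : orderOf P = 2 := by rw [← Subgroup.orderOf_coe, hP]; exact hpo
      have hord' : orderOf (⟨g, hg⟩ * P * ⟨g, hg⟩⁻¹) = 2 := (Invol.orderOf_conj_eq _ _).trans hord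
      obtain ⟨e⟩ := Invol.nonempty_mulEquiv_dihedralGroup hord hord'
      have h4 : (P * (⟨g, hg⟩ * P * ⟨g, hg⟩⁻¹)) ^ (2 ^ 2) = 1 := by
        obtain ⟨d₁, hd₁⟩ : ∃ d₁, d₁ = g * c * g⁻¹ := ⟨_, rfl⟩
        obtain ⟨d₂, hd₂⟩ : ∃ d₂, d₂ = g * c' * g⁻¹ := ⟨_, rfl⟩
        have hd₁S : d₁ ∈ S := hd₁ ▸ h.conj_mem hg hc
        have hd₂S : d₂ ∈ S := hd₂ ▸ h.conj_mem hg hc'
        have hsd : Same S d₁ d₂ := hd₁ ▸ hd₂ ▸ h.same_conj hg hs
        obtain ⟨q, hq⟩ : ∃ q, q = d₁ * d₂ := ⟨_, rfl⟩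
        have hpg : g * p * g⁻¹ = q := by rw [hq, hd₁, hd₂, hp]; group
        have hd12 := hsd.commute hd₁S
        have hqq : q * q = 1 := hq ▸ h.mul_sq_of_commute hd₁S hd₂S hd12
        suffices (p * q) * (p * q) * ((p * q) * (p * q)) = 1 by
          refine Subtype.ext ?_
          rw [hP, ← hpg] at *
          rw [show (2 : ℕ) ^ 2 = 4 by norm_num]
          simp only [SubgroupClass.coe_pow, coe_mul, InvMemClass.coe_inv, coe_one]
          rw [pow_succ, pow_succ, pow_two]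
          rw [mul_assoc (p * (g * p * g⁻¹) * (p * (g * p * g⁻¹)))]
          exact this
        by_cases hd : Commute d₁ c
        · have h1 : Commute d₁ p := hp ▸ hd.mul_right ((hs d₁ hd₁S).1 hd)
          have h2c : Commute d₂ c := ((hsd c hc).1 hd.symm).symm
          have h2 : Commute d₂ p := hp ▸ h2c.mul_right ((hs d₂ hd₂S).1 h2c)
          have hpq : Commute p q := hq ▸ h1.symm.mul_right h2.symm
          rw [show p * q * (p * q) = p * (q * p) * q by group, ← hpq.eq, show p * (p * q) * q = p * p * (q * q) by group,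
            hpp, hqq, one_mul, one_mul]
        · have hd2 : ¬ Commute d₂ c := fun e => hd ((hsd c hc).2 e.symm).symm
          obtain ⟨a₁, ha₁⟩ : ∃ a₁, a₁ = p * d₁ * p := ⟨_, rfl⟩
          obtain ⟨a₂, ha₂⟩ : ∃ a₂, a₂ = p * d₂ * p := ⟨_, rfl⟩
          have ha₁S : a₁ ∈ S := by simpa [hpinv, ha₁] using h.conj_mem hpcl hd₁S
          have ha₂S : a₂ ∈ S := by simpa [hpinv, ha₂] using h.conj_mem hpcl hd₂S
          have hsa : Same S a₁ a₂ := by
            have := h.same_conj hpcl hsd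
            rwa [hpinv, ← ha₁, ← ha₂] at this
          have c11 : Commute a₁ d₁ := (ha₁ ▸ hall d₁ hd₁S hd).symm
          have c22 : Commute a₂ d₂ := (ha₂ ▸ hall d₂ hd₂S hd2).symm
          have c12 : Commute a₁ d₂ := (hsd a₁ ha₁S).1 c11
          have c21 : Commute a₂ d₁ := (hsd a₂ ha₂S).2 c22
          have e1 : p * q * (p * q) = a₁ * a₂ * q := by
            rw [ha₁, ha₂, hq, show p * d₁ * p * (p * d₂ * p) = p * d₁ * (p * p) * d₂ * p by group, hpp]
            group
          rw [e1]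
          have hcq : Commute (a₁ * a₂) q := hq ▸ (c11.mul_left c21).mul_right (c12.mul_left c22)
          rw [show a₁ * a₂ * q * (a₁ * a₂ * q) = a₁ * a₂ * (q * (a₁ * a₂)) * q by group, ← hcq.eq,
            show a₁ * a₂ * (a₁ * a₂ * q) * q = a₁ * a₂ * (a₁ * a₂) * (q * q) by group,
            h.mul_sq_of_commute ha₁S ha₂S (hsa.commute ha₁S), hqq, one_mul]
      obtain ⟨j, -, hj⟩ := (Nat.dvd_prime_pow Nat.prime_two).1 (orderOf_dvd_of_pow_eq_one h4)
      refine IsPGroup.of_card (n := j + 1) ?_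
      rw [Nat.card_congr e.toEquiv, DihedralGroup.nat_card, hj, pow_succ]
      ring
    rw [hc0, mem_bot] at hcore
    rw [hcore, orderOf_one] at hpo
    omega
  have hpx : p * x * p ∈ S := by simpa [hpinv] using h.conj_mem hpcl hx
  obtain ⟨d, hd, hxd, heq⟩ := h.exists_middle hx hpx hxp
  have hdp := h.commute_middle hx hd hpcl hpp hxd heq
  have hsd := h.middle_same hc0 hconn ih hc (self_mem_cl hc) ⟨hc', hs⟩ hx hxc hd hxd (hp ▸ heq)
  obtain ⟨u, hu⟩ : ∃ u, u = p * d := ⟨_, rfl⟩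
  have hux : Commute u x := by
    show u * x = x * u
    have h1 : d * x = p * x * p * d := by
      rw [← heq, mul_assoc (d * x) d d, h.mul_self hd, mul_one]
    calc u * x = p * (d * x) := by rw [hu, mul_assoc]
      _ = p * p * x * (p * d) := by rw [h1]; group
      _ = x * u := by rw [hpp, one_mul, hu]
  have hu1 := h.eq_one_of_commute_star hc0 hconn ih hc hx (fun e => hxc e.symm)
    (hu ▸ mul_mem hpcl (subset_closure hd)) (fun y hy hyc => by
      rw [hu, hp]
      exact ((hyc.symm.mul_left ((hs y hy).1 hyc).symm)).mul_left ((hsd y hy).1 hyc).symm) hux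
  rw [← hp, (mul_eq_one_iff_eq_inv.1 (hu ▸ hu1 : p * d = 1)).trans (h.inv_eq hd)]
  exact hd

theorem Setup.close_step : ∀ c ∈ S, ∀ c' ∈ S, Same S c c' →
    c * c' ∈ core S ∨ ∃ a ∈ S, Same S c a ∧ c * c' * a ∈ core S := by
  intro c hc c' hc' hs
  by_cases hne : c = c'
  · exact Or.inl (by rw [← hne, h.mul_self hc]; exact one_mem _)
  have hm := h.mul_mem_step hc0 hconn ih hc hc' hs hne
  exact Or.inr ⟨c * c', hm, h.same_of_triple hc hc' (hs.commute hc) hm, by rw [h.mul_self hm]; exact one_mem _⟩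

/-- The separation property, from the common neighbour property. -/
theorem Setup.sep_step (hthird : ∀ c ∈ S, ∀ f ∈ S, Commute c f → ∀ e ∈ S, ¬ Commute e c → ¬ Commute e f →
      ∃ m ∈ S, Commute m c ∧ Commute m f ∧ Commute m e) :
    ∀ c ∈ S, ∀ x ∈ S, ∀ k ∈ S, ¬ Commute c x → Commute k c → ¬ Commute k x →
      (∀ y ∈ S, Commute y c → Commute y x → Commute k y) → Same S c k := by
  intro c hc x hx k hk hcx hkc hkx hall
  by_contra hns
  have hr := h.rconn_step hc0 hconn ih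
  obtain ⟨r, hr', hrk⟩ := h.exists_far_in_res hc (f := k) ⟨hk, hkc, hns⟩
  have hrx : ¬ Commute r x := fun e => hrk (hall r hr'.1 hr'.2.1 e).symm
  obtain ⟨m, hm, hmc, hmr, hmx⟩ := hthird c hc r hr'.1 hr'.2.1.symm x hx (fun e => hcx e.symm) fun e => hrx e.symm
  have hkm := hall m hm hmc hmx
  have hcm : c ∈ Res S m := ⟨hc, hmc.symm, fun hs => hcx ((hs x hx).1 hmx.symm).symm⟩
  have hxm : x ∈ Res S m := ⟨hx, hmx.symm, fun hs => hcx ((hs c hc).1 hmc.symm)⟩
  have hrm : r ∈ Res S m := ⟨hr'.1, hmr.symm, fun hs => hrx ((hs x hx).1 hmx.symm).symm⟩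
  have hkm' : k ∈ Res S m := ⟨hk, hkm, fun hs => hrk ((hs r hr'.1).1 hmr.symm)⟩
  have hS' := h.res_setup hr hm hcm
  have hcon' : Connected (Res S m) := by
    by_contra hdis
    exact hrk ((hS'.same_of_not_connected hdis hcm hkm' hkc.symm r hrm).1 hr'.2.1)
  have hs' := (ih G _ hS' (h.res_card_lt hc0 hm) hcon').sep c hcm x hxm k hkm' hcx hkc hkx
    fun y hy h1 h2 => hall y hy.1 h1 h2
  exact hrk ((hs' r hrm).1 hr'.2.1)

end Steps

end Cfsg.Agent.Fus.OddTransp
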