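import Mathlib
import Cfsg.Agent.Lib.Fus.OddTransp.Closure

/-!
# A common neighbour of a commuting pair and a member commuting with neither

After helper2's short argument (notes_h2/S5050_SHORT.md).  As a class and `1` form a group, one middle
reflection suffices and no counting is left.
-/

set_option autoImplicit false
set_option linter.unusedSectionVars false

namespace Cfsg.Agent.Fus.OddTransp

open Subgroup

universe u

variable {G : Type u} [Group G] [Finite G] {S : Set G}

section Steps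

variable (h : Setup S) (hc0 : core S = ⊥) (hconn : Connected S) (ih : Below.{u} (Nat.card ↥(closure S)))
include h hc0 hconn ih

/-- An involution centralising the configuration and a member `p` at `c` and `e` gives the neighbour. -/
theorem Setup.third_of_centralized {c f e p v : G} (hc : c ∈ S) (hf : f ∈ S) (he : e ∈ S)
    (hcf : Commute c f) (hec : ¬ Commute e c) (hef : ¬ Commute e f) (hv : v ∈ closure S) (hv1 : v ≠ 1)
    (hvc : ∀ y ∈ Cl S c, Commute y v) (hvf : Commute v f) (hve : Commute v e)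
    (hp : p ∈ S) (hvp : Commute v p) (hpc : Commute p c) (hpe : Commute p e) :
    ∃ m ∈ S, Commute m c ∧ Commute m f ∧ Commute m e := by
  obtain ⟨V, hV⟩ : ∃ V : Set G, V = {y | y ∈ S ∧ ∀ w ∈ ({v} : Set G), Commute y w} := ⟨_, rfl⟩
  have hmem : ∀ y, y ∈ S → Commute y v → y ∈ V := fun y hy hyv =>
    hV ▸ ⟨hy, fun w hw => by rwa [Set.mem_singleton_iff.1 hw]⟩
  have hVS : V ⊆ S := hV ▸ fun y hy => hy.1
  have he' : e ∈ Comp V e := ⟨hmem e he hve.symm, .refl⟩
  have hcl : ∀ y ∈ Cl S c, y ∈ Comp V e := fun y hy =>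
    Comp.step he' (hmem y hy.1 (hvc y hy)) (h.not_commute_of_same hy.2 he hec)
  have hcB := hcl c (self_mem_cl hc)
  have hfB : f ∈ Comp V e := Comp.step he' (hmem f hf hvf.symm) hef
  by_cases hpB : p ∈ Comp V e
  swap
  · refine ⟨p, hp, hpc, ?_, hpe⟩
    by_contra hn
    exact hpB (Comp.step hfB (hmem p hp hvp.symm) fun e1 => hn e1.symm)
  have hS' := h.component hVS (hV ▸ commutant_conj_mem h.conj) hcB (fun y hy => (hcl y hy).1)
    (hmem e he hve.symm) fun e1 => hec e1.symm
  have hlt := h.card_lt_of_commute hc0 (T := Comp V e) (fun y hy => hVS hy.1) hv hv1 fun t ht =>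
    ((hV ▸ ht.1 : t ∈ {y | y ∈ S ∧ ∀ w ∈ ({v} : Set G), Commute y w}).2 v rfl).symm
  have hcon : Connected (Comp V e) := by
    by_contra hdis
    exact hec ((hS'.same_of_not_connected hdis hcB hpB hpc.symm e he').2 hpe.symm)
  obtain ⟨m, hm, h1, h2, h3⟩ := (ih G _ hS' hlt hcon).third c hcB f hfB hcf e he' hec hef
  exact ⟨m, hVS hm.1, h1, h2, h3⟩

/-- The main case: some `m` is at `c` and `e` and not at `f`. -/
theorem Setup.third_of_witness {c f e m : G} (hc : c ∈ S) (hf : f ∈ Res S c) (he : e ∈ S) (hec : ¬ Commute e c)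
    (hef : ¬ Commute e f) (hm : m ∈ S) (hmc : Commute m c) (hme : Commute m e) (hmf : ¬ Commute m f) :
    ∃ k ∈ S, Commute k c ∧ Commute k f ∧ Commute k e := by
  obtain ⟨c', hc', d, hd, -, -, hdc, hdc', hdf, hdne, -, hue, hu1, huu, huc, huf, hud⟩ := h.trick hc hf he hec hef
  obtain ⟨u, hu⟩ : ∃ u, u = c' * f * d := ⟨_, rfl⟩
  rw [← hu] at hue hu1 huu huc huf hud
  have hucl : u ∈ closure S :=
    hu ▸ mul_mem (mul_mem (subset_closure hc'.1) (subset_closure hf.1)) (subset_closure hd)
  have huC : ∀ y ∈ Cl S c, Commute y u := fun y hy => hu ▸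
    (((h.cl_commute hy hc').mul_right ((hy.2 f hf.1).1 hf.2.1).symm).mul_right ((hy.2 d hd).1 hdc).symm)
  have hfin := fun p (hp : p ∈ S) (hup : Commute u p) (hpc : Commute p c) (hpe : Commute p e) =>
    h.third_of_centralized hc0 hconn ih hc hf.1 he hf.2.1.symm hec hef hucl hu1 huC huf hue hp hup hpc hpe
  obtain ⟨m', hm'⟩ : ∃ m', m' = u * m * u := ⟨_, rfl⟩
  have hm'S : m' ∈ S := by
    have := h.conj_mem hucl hm
    rwa [inv_eq_of_mul_eq_one_right huu, ← hm'] at this
  have hm'c : Commute m' c := hm' ▸ (huc.mul_left hmc).mul_left huc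
  have hm'e : Commute m' e := hm' ▸ (hue.mul_left hme).mul_left hue
  have hmc' : Commute m c' := (hc'.2 m hm).1 hmc
  by_cases hmm : Commute m m'
  swap
  · obtain ⟨δ, hδ, hmδ, hδm⟩ := h.exists_middle hm hm'S hmm
    refine hfin δ hδ (h.commute_middle hm hδ hucl huu hmδ (hδm.trans hm')) ?_ ?_
    · exact (h.commute_reflection hm hδ hmδ hmc.symm (hδm.symm ▸ hm'c.symm)).symm
    · exact (h.commute_reflection hm hδ hmδ hme.symm (hδm.symm ▸ hm'e.symm)).symm
  have hdR : d ∈ Res S c := by
    refine ⟨hd, hdc, fun hs => ?_⟩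
    have hmp : Commute m (c' * d) := hmc'.mul_right ((hs m hm).1 hmc)
    refine h.not_commute_reflect hm hf.1 hmf ?_
    have hcd : Commute (c' * d) f := ((hc'.2 f hf.1).1 hf.2.1).symm.mul_left hdf
    have h1 : u = c' * d * f := by rw [hu, mul_assoc, mul_assoc, hdf.eq]
    have hpp : c' * d * (c' * d) = 1 := h.mul_sq_of_commute hc'.1 hd hdc'.symm
    rw [hm', h1] at hmm
    convert hmm using 1
    calc f * m * f = f * (c' * d * (c' * d) * m) * f := by rw [hpp, one_mul]
      _ = f * (c' * d) * (c' * d * m) * f := by group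
      _ = f * (c' * d) * (m * (c' * d)) * f := by rw [hmp.symm.eq]
      _ = c' * d * f * m * (c' * d * f) := by rw [← hcd.eq]; group
  have repeatTrick : ∀ k ∈ Res S c, Commute k f → Commute k d → Commute k m →
      ∃ k ∈ S, Commute k c ∧ Commute k f ∧ Commute k e := by
    intro k hk hkf hkd hkm
    by_cases hek : Commute e k
    · exact ⟨k, hk.1, hk.2.1, hkf, hek.symm⟩
    obtain ⟨c'', hc'', d', hd', hed', hd'e, hd'c, -, hd'k, -, -, hue', hu1', -, huc', -, -⟩ := h.trick hc hk he hec hek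
    have huk : Commute u k := hu ▸ (((hc'.2 k hk.1).1 hk.2.1).symm.mul_left hkf.symm).mul_left hkd.symm
    have huz : Commute u (c'' * k) := (huC c'' hc'').symm.mul_right huk
    have hd'u : Commute d' u :=
      (h.commute_reflection he hd' hed' hue (hd'e.symm ▸ (huz.mul_right hue).mul_right huz)).symm
    have hd'c' : Commute d' c' := (hc'.2 d' hd').1 hd'c
    have hd'fd : Commute d' (f * d) := by
      have h1 := hd'c'.mul_right hd'u
      rwa [hu, mul_assoc c' f d, ← mul_assoc c' c', h.mul_self hc'.1, one_mul] at h1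
    obtain ⟨hd'f, -⟩ := h.commute_of_commute_mul hf.1 hd hdne.symm hdf.symm hd' hd'fd
    have hmz : Commute m (c'' * k) := ((hc''.2 m hm).1 hmc).mul_right hkm.symm
    have hmd' : Commute m d' :=
      h.commute_reflection he hd' hed' hme (hd'e.symm ▸ (hmz.mul_right hme).mul_right hmz)
    exact h.third_of_centralized hc0 hconn ih hc hf.1 he hf.2.1.symm hec hef
      (mul_mem (mul_mem (subset_closure hc''.1) (subset_closure hk.1)) (subset_closure hd')) hu1'
      (fun y hy => (((h.cl_commute hy hc'').mul_right ((hy.2 k hk.1).1 hk.2.1).symm).mul_right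
        ((hy.2 d' hd').1 hd'c).symm))
      ((((hc''.2 f hf.1).1 hf.2.1).symm.mul_left hkf).mul_left hd'f) hue' hm
      ((hmz.mul_right hmd').symm) hmc hme
  by_cases hdm : Commute d m
  · exact repeatTrick d hdR hdf (Commute.refl d) hdm
  have hr := h.rconn_step hc0 hconn ih
  have hS' := h.res_setup hr hc hf
  have hmR : m ∈ Res S c := ⟨hm, hmc, fun hs => hec ((hs e he).2 hme.symm)⟩
  by_cases hcon : Connected (Res S c)
  · obtain ⟨k, hk, h1, h2, h3⟩ := (ih G _ hS' (h.res_card_lt hc0 hc) hcon).third f hf d hdR hdf.symm m hmR hmf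
      fun e1 => hdm e1.symm
    exact repeatTrick k hk h1 h2 h3
  have hne : m' ≠ m := fun heq => by
    have hum : Commute u m := by
      show u * m = m * u
      calc u * m = u * m * (u * u) := by rw [huu, mul_one]
        _ = u * m * u * u := by group
        _ = m * u := by rw [← hm', heq]
    have h1 := hmc'.mul_right hum.symm
    rw [hu, mul_assoc c' f d, ← mul_assoc c' c', h.mul_self hc'.1, one_mul] at h1
    exact hmf (h.commute_of_commute_mul hf.1 hd hdne.symm hdf.symm hm h1).1
  have hm'R : m' ∈ Res S c := by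
    have := h.conj_mem_res hucl hmR
    rwa [conj_eq_self_of_commute huc, inv_eq_of_mul_eq_one_right huu, ← hm'] at this
  have hsame := hS'.same_of_not_connected hcon hmR hm'R hmm
  have hatc : ∀ y ∈ S, Commute y c → Commute y m → Commute y m' := by
    intro y hy hyc hym
    by_cases hs : Same S c y
    · exact ((hs m' hm'S).1 hm'c).symm
    · exact (hsame y ⟨hy, hyc, hs⟩).1 hym
  obtain ⟨V, hV⟩ : ∃ V : Set G, V = {y | y ∈ S ∧ ∀ w ∈ ({m} : Set G), Commute y w} := ⟨_, rfl⟩
  have hmem : ∀ y, y ∈ S → Commute y m → y ∈ V := fun y hy hym =>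
    hV ▸ ⟨hy, fun w hw => by rwa [Set.mem_singleton_iff.1 hw]⟩
  have hVS : V ⊆ S := hV ▸ fun y hy => hy.1
  have hVm : ∀ y ∈ V, Commute y m := fun y hy =>
    (hV ▸ hy : y ∈ {y | y ∈ S ∧ ∀ w ∈ ({m} : Set G), Commute y w}).2 m rfl
  have he' : e ∈ Comp V e := ⟨hmem e he hme.symm, .refl⟩
  have hclV : ∀ y ∈ Cl S c, y ∈ Comp V e := fun y hy =>
    Comp.step he' (hmem y hy.1 ((hy.2 m hm).1 hmc).symm) (h.not_commute_of_same hy.2 he hec)
  have hcA := hclV c (self_mem_cl hc)
  have hA := h.component hVS (hV ▸ commutant_conj_mem h.conj) hcA (fun y hy => (hclV y hy).1)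
    (hmem e he hme.symm) fun e1 => hec e1.symm
  have hm'A : m' ∉ Comp V e := fun hm'A => by
    obtain ⟨y, hy, hn⟩ := hA.exists_far_in_res hcA (f := m') ⟨hm'A, hm'c, fun hs => hec ((hs e he').2 hm'e.symm)⟩
    exact hn (hatc y (hVS hy.1.1) hy.2.1 (hVm y hy.1.1))
  have hall : ∀ y ∈ S, Commute y m → Commute y m' := by
    intro y hy hym
    by_cases hyA : y ∈ Comp V e
    · by_contra hn
      exact hm'A (Comp.step hyA (hmem m' hm'S hmm.symm) hn)
    · refine hatc y hy ?_ hym
      by_contra hn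
      exact hyA (Comp.step hcA (hmem y hy hym) fun e1 => hn e1.symm)
  have hsm : Same S m m' := by
    by_contra hn
    obtain ⟨y, hy, hyn⟩ := h.exists_far_in_res hm (f := m') ⟨hm'S, hmm.symm, hn⟩
    exact hyn (hall y hy.1 hy.2.1)
  have hw := h.mul_mem_step hc0 hconn ih hm hm'S hsm hne.symm
  refine hfin (m * m') hw ?_ (hmc.mul_left hm'c) (hme.mul_left hm'e)
  show u * (m * m') = m * m' * u
  have h1 : u * m = m' * u := by rw [hm', mul_assoc _ u u, huu, mul_one]
  have h2 : u * m' = m * u := by rw [hm', ← mul_assoc, ← mul_assoc, huu, one_mul]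
  calc u * (m * m') = m' * (u * m') := by rw [← mul_assoc, h1, mul_assoc]
    _ = m' * m * u := by rw [h2, mul_assoc]
    _ = m * m' * u := by rw [hmm.eq]

/-- Two members have a common neighbour. -/
theorem Setup.meet_step {c x : G} (hc : c ∈ S) (hx : x ∈ S) : ∃ m ∈ S, Commute m c ∧ Commute m x := by
  have hl := hconn c hc x hx
  clear hx
  induction hl with
  | refl => exact ⟨c, hc, Commute.refl c, Commute.refl c⟩
  | @tail y z _ hyz ihm =>
    obtain ⟨k, hk, hkc, hky⟩ := ihm
    by_cases hkz : Commute k z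
    · exact ⟨k, hk, hkc, hkz⟩
    by_cases hcy : Commute c y
    · exact ⟨y, hyz.1, hcy.symm, hyz.2.2⟩
    by_cases hcz : Commute c z
    · exact ⟨c, hc, Commute.refl c, hcz⟩
    have hzy : z ∈ Res S y := ⟨hyz.2.1, hyz.2.2.symm, fun hs => hkz ((hs k hk).1 hky)⟩
    obtain ⟨m, hm, -, h2, h3⟩ := h.third_of_witness hc0 hconn ih hyz.1 hzy hc hcy hcz hk hky hkc hkz
    exact ⟨m, hm, h3, h2⟩

/-- A commuting pair and a member commuting with neither have a common neighbour. -/
theorem Setup.third_step : ∀ c ∈ S, ∀ f ∈ S, Commute c f → ∀ e ∈ S, ¬ Commute e c → ¬ Commute e f →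
    ∃ m ∈ S, Commute m c ∧ Commute m f ∧ Commute m e := by
  intro c hc f hf hcf e he hec hef
  obtain ⟨m, hm, hmc, hme⟩ := h.meet_step hc0 hconn ih hc he
  by_cases hmf : Commute m f
  · exact ⟨m, hm, hmc, hmf, hme⟩
  exact h.third_of_witness hc0 hconn ih hc ⟨hf, hcf.symm, fun hs => hmf ((hs m hm).1 hmc)⟩ he hec hef hm hmc hme hmf

end Steps

end Cfsg.Agent.Fus.OddTransp
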