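import Mathlib
import Cfsg.Agent.Lib.Fus.OddTransp.Closure
import Cfsg.Agent.Lib.Fus.OddTransp.Third

/-!
# Odd transpositions with a connected commuting graph: the induction and its consequences
-/

set_option autoImplicit false
set_option linter.unusedSectionVars false

namespace Cfsg.Agent.Fus.OddTransp

open Subgroup

universe u

/-- The inductive form. -/
theorem below_all (n : ℕ) : Below.{u} n := by
  induction n with
  | zero => intro H _ _ T _ hlt; exact absurd hlt (Nat.not_lt_zero _)
  | succ n ih =>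
    intro H _ _ T h hlt hconn
    rcases Nat.lt_succ_iff_lt_or_eq.1 hlt with hlt' | heq
    · exact ih H T h hlt' hconn
    by_cases hc0 : core T = ⊥
    · have hb : Below.{u} (Nat.card ↥(closure T)) := heq ▸ ih
      exact ⟨h.third_step hc0 hconn hb, h.rconn_step hc0 hconn hb, h.far_step hc0 hconn hb,
        h.close_step hc0 hconn hb, h.sep_step hc0 hconn hb (h.third_step hc0 hconn hb)⟩
    · exact h.conn_of_bar (ih _ (bar T) h.bar_setup ((h.card_bar_lt hc0).trans_eq heq) (h.connected_bar_iff.2 hconn))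

variable {G : Type u} [Group G] [Finite G]

/-- The properties of a setup with connected commuting graph. -/
theorem Setup.conn_props {S : Set G} (h : Setup S) (hconn : Connected S) : Conn S :=
  below_all _ G S h (Nat.lt_succ_self _) hconn

/-- With trivial core the classes are groups. -/
theorem Setup.mul_mem {S : Set G} (h : Setup S) (hc0 : core S = ⊥) (hconn : Connected S) {c c' : G}
    (hc : c ∈ S) (hc' : c' ∈ S) (hs : Same S c c') (hne : c ≠ c') : c * c' ∈ S :=
  h.mul_mem_step hc0 hconn (below_all _) hc hc' hs hne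

theorem commute_or_odd {D : Set G} (hD : Cfsg.IsOddTranspositionSet D) {a b : G} (ha : a ∈ D) (hb : b ∈ D) :
    Commute a b ∨ Odd (orderOf (a * b)) := by
  rcases hD.1.pair a ha b hb with e | e | e
  · exact Or.inl e
  · exact Or.inr e
  · exact absurd e.1 (hD.2 a ha b hb)

/-- A class of odd transpositions with a product of commuting members in it is a setup. -/
theorem setup_of_class {D : Set G} (hD : Cfsg.IsOddTranspositionSet D) (hcl : Cfsg.IsRootInvolutionClass D)
    (hDD : (D ∩ Cfsg.commutingProducts D).Nonempty) : Setup D := by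
  have hinv : ∀ z ∈ D, z⁻¹ = z := fun z hz => Invol.inv_of_orderOf_two (hD.1.orderOf_eq z hz)
  refine ⟨hD.1.orderOf_eq, fun a ha b _ => hD.1.conj_mem a ha b, fun a ha b hb => commute_or_odd hD ha hb,
    fun a ha b hb => ?_, ?_⟩
  · obtain ⟨g, rfl⟩ := hcl.2.2 a ha b hb
    suffices key : ∀ g ∈ closure D, ∀ y ∈ D, Linked D a y → Linked D a (g * y * g⁻¹) ∧ Linked D a (g⁻¹ * y * g) from
      (key g (hD.1.generates ▸ mem_top g) a ha .refl).1
    intro g hg
    induction hg using Subgroup.closure_induction with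
    | mem z hz =>
      intro y hy hl
      rw [hinv z hz]
      suffices Linked D a (z * y * z) from ⟨this, this⟩
      by_cases hc : Commute z y
      · rwa [hc.eq, mul_assoc, Invol.mul_self_of_orderOf_two (hD.1.orderOf_eq z hz), mul_one]
      have hzy : z * y * z⁻¹ ∈ D := hD.1.conj_mem y hy z
      rw [hinv z hz] at hzy
      refine (hl.tail ⟨hy, hz, fun e => hc e.symm⟩).tail ⟨hz, hzy, fun e => hc ?_⟩
      refine (commute_conj_iff z).1 ?_
      rwa [hinv z hz, mul_assoc z z z, Invol.mul_self_of_orderOf_two (hD.1.orderOf_eq z hz), mul_one]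
    | one => intro y _ hl; simpa using hl
    | mul u v _ _ ihu ihv =>
      intro y hy hl
      refine ⟨?_, ?_⟩
      · rw [show u * v * y * (u * v)⁻¹ = u * (v * y * v⁻¹) * u⁻¹ by group]
        exact (ihu _ (hD.1.conj_mem y hy v) (ihv y hy hl).1).1
      · rw [show (u * v)⁻¹ * y * (u * v) = v⁻¹ * (u⁻¹ * y * u) * v by group]
        exact (ihv _ (by simpa using hD.1.conj_mem y hy u⁻¹) (ihu y hy hl).2).2
    | inv u _ ih => intro y hy hl; rw [inv_inv]; exact (ih y hy hl).symm
  · obtain ⟨x, hx, a, ha, b, hb, hab, hne, rfl⟩ := hDD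
    exact ⟨a, ha, b, hb, fun e => hne (by rw [e]; exact Invol.mul_self_of_orderOf_two (hD.1.orderOf_eq b hb)), hab, hx⟩

theorem connected_of_commAdj {D : Set G} (hc : Cfsg.IsConnectedSet (Cfsg.CommAdj D) D) : Connected D := by
  intro a ha b hb
  have hl := hc a ha b hb
  clear hb
  induction hl with
  | refl => exact .refl
  | tail _ e ih => exact ih.tail ⟨e.1, e.2.1, e.2.2.2⟩

theorem core_eq_bot {D : Set G} (hgen : closure D = ⊤) (hO : Cfsg.pCore 2 G = ⊥) (hZ : Subgroup.center G = ⊥) :
    core D = ⊥ := by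
  haveI : (closure D).Normal := hgen ▸ inferInstance
  have hp : ∀ q ∈ Cfsg.pCore 2 ↥(closure D), q = 1 := fun q hq => by
    have := Grp.pCore_map_le (p := 2) (closure D) ⟨q, hq, rfl⟩
    rw [hO, mem_bot] at this
    exact Subtype.ext this
  refine (eq_bot_iff_forall _).2 fun x hx => ?_
  obtain ⟨⟨u, hu⟩, hv, rfl⟩ := hx
  suffices u ∈ Subgroup.center G by
    rw [hZ, mem_bot] at this
    exact this
  refine mem_center_iff.2 fun g => ?_
  haveI := Grp.pCore_isNormal (p := 2) (G := ↥(closure D))
  have h1 := mem_center_iff.1 (show QuotientGroup.mk' (Cfsg.pCore 2 ↥(closure D)) ⟨u, hu⟩ ∈ Subgroup.center _ from hv)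
    (QuotientGroup.mk' _ ⟨g, hgen ▸ mem_top g⟩)
  rw [← map_mul, ← map_mul, QuotientGroup.mk'_apply, QuotientGroup.mk'_apply, QuotientGroup.eq] at h1
  exact congrArg Subtype.val (inv_mul_eq_one.1 (hp _ h1))

end Cfsg.Agent.Fus.OddTransp
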