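import Mathlib
import Cfsg.Agent.Lib.Fus.OddTransp.Main

/-!
# The class of a member and `1`: first half of S5052
-/

set_option autoImplicit false
set_option linter.unusedSectionVars false

namespace Cfsg.Agent.Fus.OddTransp

open Subgroup

universe u

variable {G : Type u} [Group G]

theorem same_iff_commutingMembers {D : Set G} {a b : G} :
    Same D a b ↔ Cfsg.commutingMembers D a = Cfsg.commutingMembers D b :=
  ⟨fun hs => Set.ext fun e => and_congr_right fun he => hs e he,
    fun hs e he => ⟨fun hc => ((Set.ext_iff.1 hs e).1 ⟨he, hc⟩).2, fun hc => ((Set.ext_iff.1 hs e).2 ⟨he, hc⟩).2⟩⟩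

theorem sameCommutingClass_eq_cl (D : Set G) (d : G) : Cfsg.sameCommutingClass D d = Cl D d :=
  Set.ext fun _ => and_congr_right fun _ => same_iff_commutingMembers.symm

variable [Finite G]

/-- With trivial core, a class and `1` are the elements of a subgroup. -/
theorem Setup.coe_closure_cl {D : Set G} (h : Setup D) (hc0 : core D = ⊥) (hconn : Connected D) {d : G}
    (hd : d ∈ D) : (closure (Cl D d) : Set G) = Cl D d ∪ {1} := by
  refine Set.Subset.antisymm (fun x hx => ?_) ?_
  · induction hx using Subgroup.closure_induction with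
    | mem y hy => exact Or.inl hy
    | one => exact Or.inr rfl
    | mul u v _ _ ihu ihv =>
      rcases ihu with hu | hu
      · rcases ihv with hv | hv
        · by_cases e : u = v
          · exact Or.inr (by rw [e]; exact h.mul_self hv.1)
          · have hs := hu.2.symm.trans hv.2
            have hm := h.mul_mem hc0 hconn hu.1 hv.1 hs e
            exact Or.inl ⟨hm, hu.2.trans (h.same_of_triple hu.1 hv.1 (hs.commute hu.1) hm)⟩
        · rw [Set.mem_singleton_iff] at hv
          rw [hv, mul_one]
          exact Or.inl hu
      · rw [Set.mem_singleton_iff] at hu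
        rw [hu, one_mul]
        exact ihv
    | inv u _ ihu =>
      rcases ihu with hu | hu
      · rw [h.inv_eq hu.1]
        exact Or.inl hu
      · rw [Set.mem_singleton_iff] at hu
        rw [hu, inv_one]
        exact Or.inr rfl
  · rintro x (hx | hx)
    · exact subset_closure hx
    · rw [Set.mem_singleton_iff] at hx
      exact hx ▸ one_mem _

/-- The first half of S5052. -/
theorem coe_sameCommutingSubgroup {D : Set G} (hD : Cfsg.IsOddTranspositionSet D)
    (hcl : Cfsg.IsRootInvolutionClass D) (hO : Cfsg.pCore 2 G = ⊥) (hZ : Subgroup.center G = ⊥)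
    (hDD : (D ∩ Cfsg.commutingProducts D).Nonempty) (hc : Cfsg.IsConnectedSet (Cfsg.CommAdj D) D) {d : G}
    (hd : d ∈ D) : (Cfsg.sameCommutingSubgroup D d : Set G) = Cfsg.sameCommutingClass D d ∪ {1} := by
  rw [Cfsg.sameCommutingSubgroup, sameCommutingClass_eq_cl]
  exact (setup_of_class hD hcl hDD).coe_closure_cl (core_eq_bot hD.1.generates hO hZ) (connected_of_commAdj hc) hd

end Cfsg.Agent.Fus.OddTransp
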