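import Cfsg.Agent.Lib.Fus.OddTransp.LineGroup
import Cfsg.Agent.Lib.Fus.OddTransp.Main
import Cfsg.Agent.Lib.Fus.SingleCriterion.Constant
import Cfsg.Agent.Lib.Grp.Cores
import Cfsg.Agent.Lib.Invol.Dihedral

/-!
# A class of odd transpositions and one odd partner, modulo the largest normal 2-subgroup (S5051)

If no product `p` of two members of the class has `x`, `p x p` non-commuting, the products and their conjugates
under `x` generate a normal 2-group, so the class is a single member.  Otherwise the middle reflection times `p`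
is a central involution, so `p` is a member; a member commuting with `d` and `x` would be central, so the commuting
graph is disconnected and the group is a line group.
-/

set_option autoImplicit false
set_option linter.unusedSectionVars false
set_option linter.style.haveILetI false

namespace Cfsg.Agent.Fus.OTLine

open Subgroup OddTransp

universe u

variable {X : Type u} [Group X]

/-- A group generated by a class of odd transpositions and an odd partner, with trivial 2-core. -/
structure PairHyp (D : Set X) (d x : X) : Prop where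
  inv : ∀ a ∈ D, orderOf a = 2
  conj : ∀ a ∈ D, ∀ g : X, g * a * g⁻¹ ∈ D
  pair : ∀ a ∈ D, ∀ b ∈ D, Commute a b ∨ Odd (orderOf (a * b))
  hO : Cfsg.pCore 2 X = ⊥
  hd : d ∈ D
  hx : x ∈ D
  hdx : ¬ Commute d x
  gen : closure (Cl D d ∪ {x}) = ⊤

variable {D : Set X} {d x : X}

namespace PairHyp

variable (h : PairHyp D d x)
include h

theorem mul_self {a : X} (ha : a ∈ D) : a * a = 1 := Invol.mul_self_of_orderOf_two (h.inv a ha)

theorem inv_eq {a : X} (ha : a ∈ D) : a⁻¹ = a := Invol.inv_of_orderOf_two (h.inv a ha)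

theorem ne_one {a : X} (ha : a ∈ D) : a ≠ 1 := Invol.ne_one_of_orderOf_two (h.inv a ha)

theorem conj_self {a : X} (ha : a ∈ D) {g : X} (hg : g * g = 1) : g * a * g ∈ D := by
  have := h.conj a ha g
  rwa [inv_eq_of_mul_eq_one_right hg] at this

/-- An element of order at most two commuting with the generators is trivial. -/
theorem eq_one {z : X} (hz : z * z = 1) (hc : ∀ e ∈ Cl D d, Commute e z) (hzx : Commute x z) : z = 1 := by
  have hle : closure (Cl D d ∪ {x}) ≤ centralizer {z} := (closure_le _).2 fun e he =>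
    mem_centralizer_singleton_iff.2 (by
      rcases he with he | he
      · exact (hc e he).eq
      · rw [Set.mem_singleton_iff.1 he]; exact hzx.eq)
  have hz' : z ∈ Subgroup.center X := mem_center_iff.2 fun g =>
    mem_centralizer_singleton_iff.1 (hle (h.gen.ge (mem_top g)))
  have hn : (zpowers z).Normal := ⟨fun y hy g => by
    have hy' : y ∈ Subgroup.center X := zpowers_le.2 hz' hy
    rwa [mem_center_iff.1 hy' g, mul_inv_cancel_right]⟩
  have hp : IsPGroup 2 ↥(zpowers z) := fun ⟨y, hy⟩ => ⟨1, Subtype.ext (by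
    obtain ⟨k, rfl⟩ := hy
    show (z ^ k) ^ (2 ^ 1) = 1
    rw [pow_one, ← zpow_natCast, ← zpow_mul, mul_comm, zpow_mul, zpow_natCast, pow_two, hz, one_zpow])⟩
  have := Grp.le_pCore hn hp (mem_zpowers z)
  rwa [h.hO, mem_bot] at this

/-- No member commutes with the generators. -/
theorem false_of_commute {f : X} (hf : f ∈ D) (hfd : Commute f d) (hfx : Commute f x) : False :=
  h.ne_one hf (h.eq_one (h.mul_self hf) (fun _ he => ((he.2 f hf).1 hfd).symm) hfx.symm)

/-- A member commutes with the product of two commuting members only if it commutes with both. -/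
theorem commute_of_mul {a b e : X} (ha : a ∈ D) (hb : b ∈ D) (hne : a ≠ b) (hab : Commute a b) (he : e ∈ D)
    (hez : Commute e (a * b)) : Commute e a ∧ Commute e b := by
  have haz : Commute a (a * b) := (Commute.refl a).mul_right hab
  have heb : e * a * (a * b) = e * b := by rw [mul_assoc, ← mul_assoc a a b, h.mul_self ha, one_mul]
  have h2 : orderOf (a * b) = 2 := Invol.orderOf_two_iff.2
    ⟨by rw [hab.symm.mul_mul_mul_comm, h.mul_self ha, h.mul_self hb, one_mul],
      fun e1 => hne ((mul_eq_one_iff_eq_inv.1 e1).trans (h.inv_eq hb))⟩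
  suffices Commute e a by
    refine ⟨this, ?_⟩
    have h3 := this.mul_right hez
    rwa [← mul_assoc, h.mul_self ha, one_mul] at h3
  by_contra hn
  rcases h.pair e he b hb with hc | ho
  · refine hn ?_
    have h3 := hez.mul_right hc
    rwa [mul_assoc, h.mul_self hb, mul_one] at h3
  · exact not_odd_mul h2 (hez.mul_left haz) ((h.pair e he a ha).resolve_left hn) (heb ▸ ho)

theorem cl_commute {a b : X} (ha : a ∈ Cl D d) (hb : b ∈ Cl D d) : Commute a b :=
  (ha.2.symm.trans hb.2).commute ha.1

theorem cl_not_commute {a : X} (ha : a ∈ Cl D d) : ¬ Commute a x := fun e =>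
  h.hdx ((ha.2 x h.hx).2 e.symm).symm

/-- The members are linked through non-commuting pairs. -/
theorem linked_x {a : X} (ha : a ∈ D) : Linked D a x := by
  obtain ⟨g, hg, hn⟩ : ∃ g ∈ Cl D d ∪ {x}, ¬ Commute g a := by
    by_contra! hall
    exact h.ne_one ha (h.eq_one (h.mul_self ha) (fun e he => hall e (Or.inl he)) (hall x (Or.inr rfl)))
  rcases hg with hg | hg
  · exact (Relation.ReflTransGen.single ⟨ha, hg.1, fun e => hn e.symm⟩).tail ⟨hg.1, h.hx, h.cl_not_commute hg⟩
  · rw [Set.mem_singleton_iff] at hg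
    subst hg
    exact .single ⟨ha, h.hx, fun e => hn e.symm⟩

theorem setup_of_triple {a b : X} (ha : a ∈ D) (hb : b ∈ D) (hne : a ≠ b) (hab : Commute a b)
    (hm : a * b ∈ D) : Setup D :=
  ⟨h.inv, fun u hu v _ => h.conj u hu v, h.pair, fun _ hu _ hv => (h.linked_x hu).trans (h.linked_x hv).symm,
    ⟨a, ha, b, hb, hne, hab, hm⟩⟩

/-- If `x` and its conjugate by a product `p` of two members do not commute, `p` is a member. -/
theorem mul_mem_of_odd {a b : X} (ha : a ∈ Cl D d) (hb : b ∈ Cl D d) (hne : a ≠ b)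
    (hn : ¬ Commute x (a * b * x * (a * b))) : a * b ∈ D := by
  have hab := h.cl_commute ha hb
  obtain ⟨p, hp⟩ : ∃ p, p = a * b := ⟨_, rfl⟩
  rw [← hp] at hn ⊢
  have hpp : p * p = 1 := by rw [hp, hab.symm.mul_mul_mul_comm, h.mul_self ha.1, h.mul_self hb.1, one_mul]
  have hxx := h.mul_self h.hx
  have hyD := h.conj_self h.hx hpp
  obtain ⟨z, hz⟩ : ∃ z, z = x * (p * x * p) := ⟨_, rfl⟩
  obtain ⟨n, hn'⟩ := (h.pair x h.hx _ hyD).resolve_left hn
  rw [← hz] at hn'
  have hzn : z ^ (n + 1) * z ^ (n + 1) = z := by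
    rw [← pow_add, show n + 1 + (n + 1) = orderOf z + 1 by omega, pow_succ, pow_orderOf_eq_one, one_mul]
  have hxz : x * z * x⁻¹ = z⁻¹ := by
    rw [hz]; exact Invol.conj_mul_eq_inv (h.inv x h.hx) (h.inv _ hyD)
  have hxz' : ∀ i : ℕ, x * z ^ i * x = (z ^ i)⁻¹ := fun i => by
    rw [← inv_pow, ← hxz, conj_pow, h.inv_eq h.hx]
  obtain ⟨m, hm⟩ : ∃ m, m = x * z ^ (n + 1) := ⟨_, rfl⟩
  have hpx : p * x * p = x * z := by rw [hz, ← mul_assoc, hxx, one_mul]
  have hmD : m ∈ D := by
    have key : ∀ i : ℕ, (z ^ i)⁻¹ * x * z ^ i = x * z ^ (2 * i) := fun i => by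
      rw [← hxz', show x * z ^ i * x * x * z ^ i = x * z ^ i * (x * x) * z ^ i by group, hxx, mul_one, mul_assoc,
        ← pow_add, two_mul]
    have h1 := h.conj x h.hx (z ^ ((n + 1) * (n + 1)))⁻¹
    rwa [inv_inv, key, show 2 * ((n + 1) * (n + 1)) = orderOf z * (n + 1) + (n + 1) by rw [hn']; ring, pow_add,
      pow_mul, pow_orderOf_eq_one, one_pow, one_mul, ← hm] at h1
  have hpz : p * z * p = z⁻¹ := by
    rw [hz, mul_inv_rev, h.inv_eq hyD, h.inv_eq h.hx,
      show p * (x * (p * x * p)) * p = p * x * p * x * (p * p) by group, hpp, mul_one]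
  have hpm : Commute p m := by
    have h1 : p * z ^ (n + 1) * p = (z ^ (n + 1))⁻¹ := by
      rw [← inv_pow, ← hpz]
      nth_rewrite 2 [← inv_eq_of_mul_eq_one_right hpp]
      rw [← conj_pow]
      rw [inv_eq_of_mul_eq_one_right hpp]
    have h2 : p * m * p = m := by
      rw [hm, show p * (x * z ^ (n + 1)) * p = (p * x * p) * (p⁻¹ * z ^ (n + 1) * p) by group,
        inv_eq_of_mul_eq_one_right hpp, h1, hpx, mul_assoc]
      congr 1
      rw [mul_inv_eq_iff_eq_mul, hzn]
    show p * m = m * p
    nth_rewrite 2 [← h2]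
    rw [mul_assoc _ p p, hpp, mul_one]
  obtain ⟨hma, -⟩ := h.commute_of_mul ha.1 hb.1 hne hab hmD (hp ▸ hpm.symm)
  have hmC : ∀ e ∈ Cl D d, Commute e (p * m) := fun e he =>
    (hp ▸ (h.cl_commute he ha).mul_right (h.cl_commute he hb)).mul_right
      (((ha.2.symm.trans he.2) m hmD).1 hma).symm
  have hmxm : m * x * m = p * x * p := by
    rw [hpx, hm, show x * z ^ (n + 1) * x * (x * z ^ (n + 1)) = x * z ^ (n + 1) * (x * x) * z ^ (n + 1) by group,
      hxx, mul_one, mul_assoc, hzn]
  have hxv : Commute x (p * m) := by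
    have h2 : p * m * x * (p * m) = x := by
      nth_rewrite 2 [hpm.eq]
      rw [show p * m * x * (m * p) = p * (m * x * m) * p by group, hmxm,
        show p * (p * x * p) * p = p * p * x * (p * p) by group, hpp, one_mul, mul_one]
    have h3 : p * m * (p * m) = 1 := by rw [hpm.symm.mul_mul_mul_comm, hpp, h.mul_self hmD, one_mul]
    show x * (p * m) = p * m * x
    nth_rewrite 1 [← h2]
    rw [mul_assoc _ (p * m) (p * m), h3, mul_one]
  have hv := h.eq_one (by rw [hpm.symm.mul_mul_mul_comm, hpp, h.mul_self hmD, one_mul]) hmC hxv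
  rw [(mul_eq_one_iff_eq_inv.1 hv), h.inv_eq hmD]
  exact hmD

variable [Finite X]

/-- If all those pairs commute, the class is a single member. -/
theorem cl_subsingleton
    (hall : ∀ a ∈ Cl D d, ∀ b ∈ Cl D d, Commute x (a * b * x * (a * b))) : ∀ e ∈ Cl D d, e = d := by
  have hxx := h.mul_self h.hx
  obtain ⟨P, hP⟩ : ∃ P : Set X, P = {p | ∃ a ∈ Cl D d, ∃ b ∈ Cl D d, p = a * b} := ⟨_, rfl⟩
  obtain ⟨P', hP'⟩ : ∃ P' : Set X, P' = {q | ∃ p ∈ P, q = x * p * x} := ⟨_, rfl⟩
  have hmemP : ∀ {a b}, a ∈ Cl D d → b ∈ Cl D d → a * b ∈ P := fun ha hb => hP ▸ ⟨_, ha, _, hb, rfl⟩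
  have hP2 : ∀ p ∈ P, p * p = 1 := by
    rw [hP]
    rintro _ ⟨a, ha, b, hb, rfl⟩
    rw [(h.cl_commute hb ha).mul_mul_mul_comm, h.mul_self ha.1, h.mul_self hb.1, one_mul]
  have hPc : ∀ p ∈ P, ∀ q ∈ P, Commute p q := by
    rw [hP]
    rintro _ ⟨a, ha, b, hb, rfl⟩ _ ⟨a', ha', b', hb', rfl⟩
    exact ((h.cl_commute ha ha').mul_right (h.cl_commute ha hb')).mul_left
      ((h.cl_commute hb ha').mul_right (h.cl_commute hb hb'))
  have hP'2 : ∀ q ∈ P', q * q = 1 := by
    rw [hP']
    rintro _ ⟨p, hp, rfl⟩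
    rw [show x * p * x * (x * p * x) = x * p * (x * x) * p * x by group, hxx, mul_one, mul_assoc x p p, hP2 p hp,
      mul_one, hxx]
  have hP'c : ∀ q ∈ P', ∀ r ∈ P', Commute q r := by
    rw [hP']
    rintro _ ⟨p, hp, rfl⟩ _ ⟨p', hp', rfl⟩
    simpa [h.inv_eq h.hx] using commute_conj (hPc p hp p' hp') x
  -- a conjugate of a product normalises the class
  have hnorm : ∀ q ∈ P', ∀ c ∈ Cl D d, q * c * q ∈ Cl D d := by
    intro q hq c hc
    have hq2 := hP'2 q hq
    rw [hP', hP] at hq
    obtain ⟨_, ⟨a, ha, b, hb, rfl⟩, hq⟩ := hq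
    rcases eq_or_ne a b with e | hne
    · rw [e, h.mul_self hb.1, mul_one, hxx] at hq
      rwa [hq, one_mul, mul_one]
    have hpq : Commute (a * b) q := by
      have h1 := (hall a ha b hb).eq
      rw [hq]
      show a * b * (x * (a * b) * x) = x * (a * b) * x * (a * b)
      calc a * b * (x * (a * b) * x) = a * b * x * (a * b) * x := by group
        _ = x * (a * b * x * (a * b)) := h1.symm
        _ = x * (a * b) * x * (a * b) := by group
    have hab := h.cl_commute ha hb
    have hC : ∀ e ∈ D, (Commute e d ↔ Commute e (a * b)) := fun e he => by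
      refine ⟨fun e1 => ((ha.2 e he).1 e1).mul_right ((hb.2 e he).1 e1), fun e1 => ?_⟩
      exact (ha.2 e he).2 (h.commute_of_mul ha.1 hb.1 hne hab he e1).1
    have hqi : q⁻¹ = q := inv_eq_of_mul_eq_one_right hq2
    have hq' : q * (a * b) * q⁻¹ = a * b := conj_eq_self_of_commute hpq.symm
    have hconjC : ∀ e ∈ D, (Commute e (q * d * q) ↔ Commute e d) := fun e he => by
      have he' := h.conj e he q
      rw [← commute_conj_iff q, show q * (q * d * q) * q⁻¹ = q * q * d * (q * q⁻¹) by group, hq2, one_mul,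
        mul_inv_cancel, mul_one, hC _ he', ← hq', commute_conj_iff q, ← hC e he]
    have hd' : Same D d (q * d * q) := fun e he => (hconjC e he).symm
    refine ⟨h.conj_self hc.1 hq2, hd'.trans fun e he => ?_⟩
    have he' := h.conj e he q
    have h2 := hc.2 _ he'
    rwa [← commute_conj_iff q, ← commute_conj_iff q (a := q * e * q⁻¹) (b := c), hqi,
      show q * (q * e * q) * q = q * q * e * (q * q) by group, hq2, one_mul, mul_one] at h2
  have hnormP : ∀ q ∈ P', ∀ p ∈ P, q * p * q ∈ P := by
    intro q hq p hp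
    rw [hP] at hp
    obtain ⟨a, ha, b, hb, rfl⟩ := hp
    rw [show q * (a * b) * q = q * a * q⁻¹ * (q * b * q) by group,
      inv_eq_of_mul_eq_one_right (hP'2 q hq)]
    exact hmemP (hnorm q hq a ha) (hnorm q hq b hb)
  obtain ⟨N, hN⟩ : ∃ N, N = closure P' ⊔ closure P := ⟨_, rfl⟩
  have hAn : closure P' ≤ normalizer (closure P : Set X) := by
    refine (closure_le _).2 fun q hq => ?_
    have hqi : q⁻¹ = q := inv_eq_of_mul_eq_one_right (hP'2 q hq)
    have key : ∀ y ∈ closure P, q * y * q⁻¹ ∈ closure P := by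
      intro y hy
      have : closure P ≤ (closure P).comap (MulAut.conj q).toMonoidHom := (closure_le _).2 fun p hp => by
        show q * p * q⁻¹ ∈ closure P
        rw [hqi]
        exact subset_closure (hnormP q hq p hp)
      exact this hy
    refine mem_normalizer_iff.2 fun y => ⟨key y, fun hy => ?_⟩
    have := key _ hy
    rwa [show q * (q * y * q⁻¹) * q⁻¹ = q * q * y * (q * q)⁻¹ by group, hP'2 q hq, one_mul, inv_one,
      mul_one] at this
  have hNp : IsPGroup 2 ↥N := hN ▸ (SingleCrit.isPGroup_closure_invol hP'2 hP'c).to_sup_of_normal_right'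
    (SingleCrit.isPGroup_closure_invol hP2 hPc) hAn
  have hNn : N.Normal := by
    have hgen : ∀ g ∈ Cl D d ∪ {x}, g * g = 1 ∧ ∀ w ∈ P' ∪ P, g * w * g⁻¹ ∈ N := by
      have hPN : ∀ p ∈ P, p ∈ N := fun p hp => hN ▸ (le_sup_right : closure P ≤ _) (subset_closure hp)
      have hP'N : ∀ q ∈ P', q ∈ N := fun q hq => hN ▸ (le_sup_left : closure P' ≤ _) (subset_closure hq)
      intro g hg
      rcases hg with hg | hg
      · refine ⟨h.mul_self hg.1, ?_⟩
        rintro w (hw | hw)
        · rw [h.inv_eq hg.1, show g * w * g = g * (w * g * w) * w⁻¹ by group,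
            inv_eq_of_mul_eq_one_right (hP'2 w hw)]
          exact mul_mem (hPN _ (hmemP hg (hnorm w hw g hg))) (hP'N w hw)
        · rw [hP] at hw
          obtain ⟨a, ha, b, hb, rfl⟩ := hw
          rw [conj_eq_self_of_commute ((h.cl_commute hg ha).mul_right (h.cl_commute hg hb))]
          exact hPN _ (hmemP ha hb)
      · rw [Set.mem_singleton_iff] at hg
        subst hg
        refine ⟨hxx, ?_⟩
        rintro w (hw | hw)
        · rw [hP'] at hw
          obtain ⟨p, hp, rfl⟩ := hw
          rw [h.inv_eq h.hx, show g * (g * p * g) * g = g * g * p * (g * g) by group, hxx, one_mul, mul_one]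
          exact hPN p hp
        · exact hP'N _ (by rw [h.inv_eq h.hx, hP']; exact ⟨w, hw, rfl⟩)
    have hle : ∀ g ∈ Cl D d ∪ {x}, g ∈ normalizer (N : Set X) := by
      intro g hg
      have key : ∀ y ∈ N, g * y * g⁻¹ ∈ N := by
        intro y hy
        have : N ≤ N.comap (MulAut.conj g).toMonoidHom := by
          conv_lhs => rw [hN, ← Subgroup.closure_union]
          exact (closure_le _).2 (hgen g hg).2
        exact this hy
      refine mem_normalizer_iff.2 fun y => ⟨key y, fun hy => ?_⟩
      have := key _ hy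
      rwa [show g * (g * y * g⁻¹) * g⁻¹ = g * g * y * (g * g)⁻¹ by group, (hgen g hg).1, one_mul, inv_one,
        mul_one] at this
    exact normalizer_eq_top_iff.1 (top_le_iff.1 (h.gen ▸ (closure_le _).2 hle))
  intro e he
  have h1 : d * e ∈ N := hN ▸ (le_sup_right : closure P ≤ _) (subset_closure (hmemP (self_mem_cl h.hd) he))
  have h2 := Grp.le_pCore hNn hNp h1
  rw [h.hO, mem_bot] at h2
  exact (mul_left_cancel (a := d) (h2.trans (h.mul_self h.hd).symm))

/-- The conclusion. -/
theorem cases : (∃ (F : Type) (_ : Field F) (_ : Fintype F), CharP F 2 ∧ 4 ≤ Fintype.card F ∧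
      Nonempty (X ≃* Matrix.ProjectiveSpecialLinearGroup (Fin 2) F)) ∨
    Cfsg.Lie.IsoSuzuki X ∨ ∃ n : ℕ, Nonempty (X ≃* DihedralGroup n) := by
  by_cases hall : ∀ a ∈ Cl D d, ∀ b ∈ Cl D d, Commute x (a * b * x * (a * b))
  · refine Or.inr (Or.inr ⟨orderOf (d * x), ?_⟩)
    obtain ⟨e⟩ := Invol.nonempty_mulEquiv_dihedralGroup (h.inv d h.hd) (h.inv x h.hx)
    have htop : closure ({d, x} : Set X) = ⊤ := by
      refine top_le_iff.1 (h.gen ▸ closure_mono ?_)
      rintro y (hy | hy)
      · exact Or.inl (h.cl_subsingleton hall y hy)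
      · exact Or.inr hy
    exact ⟨(Subgroup.topEquiv.symm.trans (MulEquiv.subgroupCongr htop.symm)).trans e⟩
  push Not at hall
  obtain ⟨a, ha, b, hb, hn⟩ := hall
  have hne : a ≠ b := fun e => hn (by rw [e, h.mul_self hb.1, one_mul, mul_one])
  have hS := h.setup_of_triple ha.1 hb.1 hne (h.cl_commute ha hb) (h.mul_mem_of_odd ha hb hne hn)
  have htop : closure D = ⊤ := top_le_iff.1 (h.gen ▸ closure_mono
    (Set.union_subset (fun e he => he.1) (Set.singleton_subset_iff.2 h.hx)))
  have hdis : ¬ Connected D := fun hc => by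
    obtain ⟨f, hf, hfd, hfx⟩ := (hS.conn_props hc).meet h.hd h.hx
    exact h.false_of_commute hf hfd hfx
  have hp : Cfsg.pCore 2 ↥(closure D) = ⊥ := by
    haveI : (closure D).Normal := htop ▸ inferInstance
    refine (eq_bot_iff_forall _).2 fun q hq => ?_
    have := Grp.pCore_map_le (p := 2) (closure D) ⟨q, hq, rfl⟩
    rw [h.hO, mem_bot] at this
    exact Subtype.ext this
  have hcore : ∀ z ∈ core D, ∀ g, Commute g z := by
    intro z hz g
    have hz' := (mem_core (core_le hz)).1 hz
    haveI := Grp.pCore_isNormal (p := 2) (G := ↥(closure D))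
    have h1 := mem_center_iff.1 (show QuotientGroup.mk' (Cfsg.pCore 2 ↥(closure D)) ⟨z, core_le hz⟩ ∈
      Subgroup.center _ from hz') (QuotientGroup.mk' _ ⟨g, htop ▸ mem_top g⟩)
    rw [← map_mul, ← map_mul, QuotientGroup.mk'_apply, QuotientGroup.mk'_apply, QuotientGroup.eq, hp, mem_bot,
      inv_mul_eq_one] at h1
    exact congrArg Subtype.val h1
  obtain ⟨htor, -⟩ := bender_cases hS hdis
  have hred : ∀ {u : X}, u ∈ core D → u * u = 1 → u = 1 := fun hu hu2 =>
    h.eq_one hu2 (fun e _ => hcore _ hu e) (hcore _ hu x)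
  have hL : LineHyp D d x := by
    refine ⟨hS, h.hd, h.hx, h.hdx, fun u hu v hv huv => hS.same_of_not_connected hdis hu hv huv,
      fun u hu v hv huv hne' => ?_, ?_⟩
    · by_cases hi : img D hu * img D hv = 1
      · refine absurd ?_ hne'
        have h1 := (hS.img_eq_iff hu hv).1 ((mul_eq_one_iff_eq_inv.1 hi).trans
          (hS.bar_setup.inv_eq (img_mem_bar hv)))
        exact (mul_eq_one_iff_eq_inv.1 (hred h1 (hS.mul_sq_of_commute hu hv huv))).trans (h.inv_eq hv)
      · have hbu := img_mem_bar (S := D) hu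
        have hbv := img_mem_bar (S := D) hv
        obtain ⟨w, hw, hwe⟩ := exists_of_mem_bar (mem_bar_of_involution hS htor
          (hS.bar_setup.mul_sq_of_commute hbu hbv ((hS.commute_img hu hv).2 huv)) hi)
        have hcw : ∀ {t : X} (ht : t ∈ D), Commute (img D hu) (img D ht) → Commute (img D hv) (img D ht) →
            Commute w t := fun {t} ht h1 h2 => (hS.commute_img hw ht).1 (hwe ▸ h1.mul_left h2)
        have hwu : Commute w u := hcw hu (Commute.refl _) ((hS.commute_img hv hu).2 huv.symm)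
        have hwv : Commute w v := hcw hv ((hS.commute_img hu hv).2 huv) (Commute.refl _)
        have h1 : u * v * w ∈ core D := by
          refine (mem_core (mul_mem (mul_mem (subset_closure hu) (subset_closure hv)) (subset_closure hw))).2 ?_
          rw [← QuotientGroup.eq_one_iff]
          show QuotientGroup.mk' (Cfsg.twoZCore ↥(closure D))
            (⟨u, subset_closure hu⟩ * ⟨v, subset_closure hv⟩ * ⟨w, subset_closure hw⟩) = 1
          rw [map_mul, map_mul]
          show img D hu * img D hv * img D hw = 1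
          rw [hwe]
          exact hS.bar_setup.mul_sq_of_commute hbu hbv ((hS.commute_img hu hv).2 huv)
        have h2 := hred h1 (by
          rw [(hwu.mul_right hwv).mul_mul_mul_comm, hS.mul_sq_of_commute hu hv huv, hS.mul_self hw, one_mul])
        rw [mul_eq_one_iff_eq_inv.1 h2, h.inv_eq hw]
        exact hw
    · rw [htop, ← h.gen]
      refine closure_mono (Set.union_subset_union (fun e he => ?_) le_rfl)
      exact ⟨he.1, (he.2.commute h.hd).symm⟩
  let ε : X ≃* ↥(closure D) := Subgroup.topEquiv.symm.trans (MulEquiv.subgroupCongr htop.symm)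
  rcases hL.cases with hl | hl
  · obtain ⟨-, hf, F, i1, i2, hc, hq, ⟨e⟩⟩ := hl
    exact Or.inl ⟨F, i1, i2, hc, hq ▸ hf.pos, ⟨ε.trans e⟩⟩
  · obtain ⟨⟨F, i1, i2, m, hm, hq, ⟨e⟩⟩, hN, -⟩ := hl
    have hbot : Cfsg.twoZCore ↥(closure D) = ⊥ :=
      le_bot_iff.1 (hp ▸ Grp.le_pCore (Cfsg.twoZCore_normal _) hN)
    let π := QuotientGroup.mk' (Cfsg.twoZCore ↥(closure D))
    have hbij : Function.Bijective π := ⟨(injective_iff_map_eq_one π).2 fun g hg => by
      have hg' : g ∈ Cfsg.twoZCore ↥(closure D) := (QuotientGroup.eq_one_iff g).1 hg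
      rwa [hbot] at hg', QuotientGroup.mk'_surjective _⟩
    exact Or.inr (Or.inl ⟨F, i1, i2, m, hm, hq, ⟨(ε.trans (MulEquiv.ofBijective π hbij)).trans e⟩⟩)

end PairHyp

end Cfsg.Agent.Fus.OTLine
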