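import Cfsg.Agent.Lib.Fus.OddTransp.LineResidue

/-!
# A 2-group normalising a residue of Suzuki type maps into its quotient
-/

set_option autoImplicit false
set_option linter.unusedSectionVars false
set_option linter.style.haveILetI false

namespace Cfsg.Agent.Fus.OTLine

open Subgroup OddTransp

universe u

variable {G : Type u} [Group G]

theorem map_conj_closure (R : Set G) (P : Subgroup G) (hP : ∀ g ∈ P, ∀ r ∈ R, g * r * g⁻¹ ∈ R) {g : G}
    (hg : g ∈ P) : (closure R).map (MulAut.conj g).toMonoidHom = closure R := by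
  have key : ∀ g ∈ P, (closure R).map (MulAut.conj g).toMonoidHom ≤ closure R := fun g hg => by
    rw [MonoidHom.map_closure]
    exact closure_mono (by rintro _ ⟨r, hr, rfl⟩; exact hP g hg r hr)
  refine le_antisymm (key g hg) fun y hy => ⟨g⁻¹ * y * g, ?_, by simp [mul_assoc]⟩
  simpa [mul_assoc] using key g⁻¹ (inv_mem hg) ⟨y, hy, rfl⟩

/-- Conjugation on the group of a residue. -/
noncomputable def conjClosure (R : Set G) (P : Subgroup G) (hP : ∀ g ∈ P, ∀ r ∈ R, g * r * g⁻¹ ∈ R) (g : ↥P) :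
    ↥(closure R) ≃* ↥(closure R) :=
  ((MulAut.conj (g : G)).subgroupMap (closure R)).trans (MulEquiv.subgroupCongr (map_conj_closure R P hP g.2))

theorem coe_conjClosure (R : Set G) (P : Subgroup G) (hP : ∀ g ∈ P, ∀ r ∈ R, g * r * g⁻¹ ∈ R) (g : ↥P)
    (y : ↥(closure R)) : (conjClosure R P hP g y : G) = g * y * (g : G)⁻¹ := rfl

variable [Finite G]

/-- The action on the quotient. -/
noncomputable def conjQuot (R : Set G) (P : Subgroup G) (hP : ∀ g ∈ P, ∀ r ∈ R, g * r * g⁻¹ ∈ R) :
    ↥P →* MulAut (Quot' R) where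
  toFun g := QuotientGroup.congr (Cfsg.twoZCore ↥(closure R)) (Cfsg.twoZCore ↥(closure R))
    (conjClosure R P hP g) (map_twoZCore_equiv _)
  map_one' := by
    refine MulEquiv.ext fun q => ?_
    obtain ⟨y, rfl⟩ := QuotientGroup.mk'_surjective _ q
    show QuotientGroup.mk' _ (conjClosure R P hP 1 y) = QuotientGroup.mk' _ y
    exact congrArg _ (Subtype.ext (by rw [coe_conjClosure]; simp))
  map_mul' g g' := by
    refine MulEquiv.ext fun q => ?_
    obtain ⟨y, rfl⟩ := QuotientGroup.mk'_surjective _ q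
    show QuotientGroup.mk' _ (conjClosure R P hP (g * g') y) =
      QuotientGroup.mk' _ (conjClosure R P hP g (conjClosure R P hP g' y))
    exact congrArg _ (Subtype.ext (by
      rw [coe_conjClosure, coe_conjClosure, coe_conjClosure, Subgroup.coe_mul]; group))

/-- A 2-group normalising a set whose quotient is of Suzuki type maps into that quotient. -/
theorem exists_inner_hom {R : Set G} (hR : Setup R) {q : ℕ} (hf : SzFacts (Quot' R) q) (P : Subgroup G)
    (hP2 : IsPGroup 2 ↥P) (hP : ∀ g ∈ P, ∀ r ∈ R, g * r * g⁻¹ ∈ R) :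
    ∃ ψ : ↥P →* Quot' R, ∀ e (he : e ∈ P) (heR : e ∈ R), ψ ⟨e, he⟩ = img R heR := by
  haveI := hR.isSimple_quot
  have hcen : Subgroup.center (Quot' R) = ⊥ := by
    refine (inferInstance : (Subgroup.center (Quot' R)).Normal).eq_bot_or_eq_top.resolve_right fun htop => ?_
    obtain ⟨a, ha⟩ := hR.nonempty
    obtain ⟨b, hb, hab⟩ := hR.exists_far ha
    exact hab ((hR.commute_img ha hb).1 (mem_center_iff.1 (htop.ge (mem_top (img R hb))) _))
  have hinj : Function.Injective (MulAut.conj : Quot' R →* MulAut (Quot' R)) := by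
    refine (injective_iff_map_eq_one _).2 fun b hb => ?_
    have hb' : b ∈ Subgroup.center (Quot' R) := mem_center_iff.2 fun y => by
      have h1 := DFunLike.congr_fun hb y
      rw [MulAut.conj_apply, MulAut.one_apply, mul_inv_eq_iff_eq_mul] at h1
      exact h1.symm
    rwa [hcen, mem_bot] at hb'
  have hin : ∀ g : ↥P, conjQuot R P hP g ∈ (MulAut.conj : Quot' R →* MulAut (Quot' R)).range := by
    intro g
    obtain ⟨k, hk⟩ := hP2 g
    obtain ⟨b, hb⟩ := hf.inner (conjQuot R P hP g) ⟨k, by rw [← map_pow, hk, map_one]⟩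
    exact ⟨b, hb.symm⟩
  refine ⟨(MonoidHom.ofInjective hinj).symm.toMonoidHom.comp ((conjQuot R P hP).codRestrict _ hin),
    fun e he heR => ?_⟩
  show (MonoidHom.ofInjective hinj).symm ⟨conjQuot R P hP ⟨e, he⟩, _⟩ = _
  rw [MulEquiv.symm_apply_eq]
  refine Subtype.ext (MulEquiv.ext fun y => ?_)
  obtain ⟨y, rfl⟩ := QuotientGroup.mk'_surjective _ y
  show QuotientGroup.mk' _ (conjClosure R P hP ⟨e, he⟩ y) = img R heR * QuotientGroup.mk' _ y * (img R heR)⁻¹
  rw [img, ← map_inv, ← map_mul, ← map_mul]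
  exact congrArg _ (Subtype.ext rfl)

end Cfsg.Agent.Fus.OTLine
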