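import Cfsg.Agent.Lib.Fus.OddTransp.LineBender
import Cfsg.Agent.Lib.Transfer.CyclicSylow

/-!
# Line groups: a setup with transitive commuting, closed products, generated by a class and one more member
-/

set_option autoImplicit false
set_option linter.unusedSectionVars false
set_option linter.style.haveILetI false

open scoped commutatorElement

namespace Cfsg.Agent.Fus.OTLine

open Subgroup OddTransp

universe u

/-- A 2-subgroup `Q` of `X` centralising `C ⊆ Q` stays non-abelian in every image which is injective on `C`. -/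
def NonAb {G : Type u} [Group G] (X : Subgroup G) (C : Set G) : Prop :=
  ∃ Q : Subgroup G, Q ≤ X ∧ IsPGroup 2 ↥Q ∧ C ⊆ (Q : Set G) ∧ (∀ g ∈ Q, ∀ e ∈ C, Commute g e) ∧
    ∀ (K : Type u) [Group K] (ψ : ↥Q →* K),
      (∀ e e' : ↥Q, (e : G) ∈ C → (e' : G) ∈ C → ψ e = ψ e' → e = e') →
      ∃ a b : ↥Q, ¬ Commute (ψ a) (ψ b)

/-- A central element of prime power order of a perfect group with abelian Sylow subgroup is trivial. -/
theorem eq_one_of_central {X : Type u} [Group X] [Finite X] {p : ℕ} [hp : Fact p.Prime]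
    (hperf : commutator X = ⊤) (P : Sylow p X) (hab : ∀ a b : ↥(P : Subgroup X), a * b = b * a) {z : X}
    (hz : z ∈ Subgroup.center X) (hzp : z ^ p = 1) : z = 1 := by
  letI : CommGroup ↥(P : Subgroup X) := { (inferInstance : Group ↥(P : Subgroup X)) with mul_comm := hab }
  have key : ∀ (k : ℕ) (g₀ : X), g₀⁻¹ * z ^ k * g₀ ∈ (P : Subgroup X) → g₀⁻¹ * z ^ k * g₀ = z ^ k :=
    fun k g₀ _ => by rw [mul_assoc, ← Subgroup.mem_center_iff.1 (pow_mem hz k) g₀, inv_mul_cancel_left]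
  have h1 := Transfer.CyclicSyl.hom_eq_one (fun a b => mul_comm a b) hperf
    (MonoidHom.transfer (MonoidHom.id ↥(P : Subgroup X))) z
  rw [MonoidHom.transfer_eq_pow _ z key] at h1
  have h2 : z ^ (P : Subgroup X).index = 1 := congrArg Subtype.val h1
  have hc : Nat.Coprime p (P : Subgroup X).index := (Nat.Prime.coprime_iff_not_dvd hp.out).2 P.not_dvd_index
  exact orderOf_eq_one_iff.1 (Nat.dvd_one.1 (hc.gcd_eq_one ▸
    Nat.dvd_gcd (orderOf_dvd_of_pow_eq_one hzp) (orderOf_dvd_of_pow_eq_one h2)))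

/-- The configuration of a line group. -/
structure LineHyp {G : Type u} [Group G] (T : Set G) (d x : G) : Prop where
  setup : Setup T
  hd : d ∈ T
  hx : x ∈ T
  hdx : ¬ Commute d x
  same : ∀ a ∈ T, ∀ b ∈ T, Commute a b → Same T a b
  mul : ∀ a ∈ T, ∀ b ∈ T, Commute a b → a ≠ b → a * b ∈ T
  gen : closure T ≤ closure ({e | e ∈ T ∧ Commute e d} ∪ {x})

variable {G : Type u} [Group G] [Finite G] {T : Set G} {d x : G}

theorem LineHyp.not_connected (h : LineHyp T d x) : ¬ Connected T := fun hc => h.hdx (by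
  suffices ∀ y, Relation.ReflTransGen (fun u v => u ∈ T ∧ v ∈ T ∧ Commute u v) d y → y ∈ T → Same T d y from
    (this x (hc d h.hd x h.hx) h.hx).commute h.hd
  intro y hy
  induction hy with
  | refl => exact fun _ => Same.refl d
  | @tail u v _ huv ih => exact fun hv => (ih huv.1).trans (h.same u huv.1 v hv huv.2.2))

theorem LineHyp.reduced (h : LineHyp T d x) : Reduced T := fun a ha b hb hc => by
  by_contra hne
  exact h.setup.not_mem_core (h.mul a ha b hb (h.setup.commute_of_mul_mem_core ha hb hc) hne) hc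

theorem LineHyp.core_commute (h : LineHyp T d x) {n : G} (hn : n ∈ core T) {a : G} (ha : a ∈ T) : Commute n a := by
  have h1 : n * a * n⁻¹ * a ∈ core T := by
    rw [show n * a * n⁻¹ * a = n * (a * n⁻¹ * a⁻¹) * (a * a) by group, h.setup.mul_self ha, mul_one]
    exact mul_mem hn (core_conj_mem (subset_closure ha) (inv_mem hn))
  exact mul_inv_eq_iff_eq_mul.1 (h.reduced _ (h.setup.conj_mem (core_le hn) ha) a ha h1)

theorem LineHyp.twoZCore_le_center (h : LineHyp T d x) :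
    Cfsg.twoZCore ↥(closure T) ≤ Subgroup.center ↥(closure T) := by
  intro n hn
  refine mem_center_iff.2 fun g => Subtype.ext ?_
  have hle : closure T ≤ centralizer {(n : G)} :=
    (closure_le _).2 fun a ha => mem_centralizer_singleton_iff.2 (h.core_commute ⟨n, hn, rfl⟩ ha).eq.symm
  exact mem_centralizer_singleton_iff.1 (hle g.2)

/-- Central elements of prime order disappear under abelian Sylow subgroups. -/
theorem LineHyp.eq_one_of_pow (h : LineHyp T d x) {p : ℕ} [Fact p.Prime] {z : ↥(closure T)}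
    (hz : z ∈ Cfsg.twoZCore ↥(closure T)) (hzp : z ^ p = 1)
    (hab : ∀ (P : Sylow p ↥(closure T)) (a b : ↥(P : Subgroup ↥(closure T))), a * b = b * a) : z = 1 := by
  obtain ⟨P⟩ : Nonempty (Sylow p ↥(closure T)) := inferInstance
  exact eq_one_of_central
    (RootInvSimple.commutator_eq_top h.setup.isRootInvolutionSet h.setup.oddConnected_inGroup h.setup.products_inGroup)
    P (hab P) (h.twoZCore_le_center hz) hzp

/-- Sylow subgroups with cyclic image are abelian. -/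
theorem LineHyp.comm_of_cyclic (h : LineHyp T d x) {p : ℕ} [Fact p.Prime]
    (hcyc : ∀ P : Sylow p (Quot' T), IsCyclic (P : Subgroup (Quot' T))) (P : Sylow p ↥(closure T))
    (a b : ↥(P : Subgroup ↥(closure T))) : a * b = b * a := by
  obtain ⟨π, hπ⟩ : ∃ π, π = QuotientGroup.mk' (Cfsg.twoZCore ↥(closure T)) := ⟨_, rfl⟩
  have hs : Function.Surjective π := hπ ▸ QuotientGroup.mk'_surjective _
  haveI := hcyc (P.mapSurjective hs)
  haveI : IsCyclic ↥((P : Subgroup ↥(closure T)).map π) := by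
    have := hcyc (P.mapSurjective hs)
    rwa [Sylow.coe_mapSurjective] at this
  refine ((π.comp (P : Subgroup ↥(closure T)).subtype).codRestrict ((P : Subgroup ↥(closure T)).map π)
    fun g => Subgroup.mem_map.2 ⟨(g : ↥(closure T)), g.2, rfl⟩).isMulCommutative_of_isCyclic_of_ker_le_center ?_ |>.is_comm.comm a b
  intro g hg
  have h1 : π (g : ↥(closure T)) = 1 := congrArg Subtype.val hg
  rw [hπ, QuotientGroup.mk'_apply, QuotientGroup.eq_one_iff] at h1
  exact mem_center_iff.2 fun k => Subtype.ext (mem_center_iff.1 (h.twoZCore_le_center h1) k)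

/-- The conclusion in the linear case. -/
def IsL2Line (T : Set G) (d : G) : Prop :=
  core T = ⊥ ∧ L2Facts ↥(closure T) ({e | e ∈ T ∧ Commute e d}.ncard + 1) ∧
    ∃ (F : Type) (_ : Field F) (_ : Fintype F), CharP F 2 ∧
      Fintype.card F = {e | e ∈ T ∧ Commute e d}.ncard + 1 ∧
      Nonempty (↥(closure T) ≃* Matrix.ProjectiveSpecialLinearGroup (Fin 2) F)

/-- The conclusion in the Suzuki case. -/
def IsSzLine (T : Set G) (d : G) : Prop :=
  Cfsg.Lie.IsoSuzuki (Quot' T) ∧ IsPGroup 2 ↥(Cfsg.twoZCore ↥(closure T)) ∧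
    SzFacts (Quot' T) ({e | e ∈ T ∧ Commute e d}.ncard + 1) ∧ ¬ 3 ∣ Nat.card ↥(closure T) ∧
    NonAb (closure T) {e | e ∈ T ∧ Commute e d}

theorem LineHyp.l2_case (h : LineHyp T d x) {q : ℕ} (hf : L2Facts (Quot' T) q)
    (htor : Invol.BenderCover.TorusSylow (Quot' T)) (F : Type) [Field F] [Fintype F] (hc : CharP F 2)
    (hq : Fintype.card F = q) (e : Quot' T ≃* Matrix.ProjectiveSpecialLinearGroup (Fin 2) F) : IsL2Line T d := by
  haveI : Fact (Nat.Prime 2) := ⟨Nat.prime_two⟩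
  obtain ⟨π, hπ⟩ : ∃ π, π = QuotientGroup.mk' (Cfsg.twoZCore ↥(closure T)) := ⟨_, rfl⟩
  have hs : Function.Surjective π := hπ ▸ QuotientGroup.mk'_surjective _
  have hker : ∀ g, π g = 1 → g ∈ Subgroup.center ↥(closure T) := fun g hg =>
    h.twoZCore_le_center (by rwa [hπ, QuotientGroup.mk'_apply, QuotientGroup.eq_one_iff] at hg)
  have hnc := h.not_connected
  -- members with commuting images commute, so a Sylow 2-subgroup is abelian
  have hab2 : ∀ (P : Sylow 2 ↥(closure T)) (a b : ↥(P : Subgroup ↥(closure T))), a * b = b * a := by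
    intro P a b
    have key : ∀ g ∈ (P : Subgroup ↥(closure T)), π g = 1 ∨ ∃ w : ↥(closure T), (w : G) ∈ T ∧
        π w = π g ∧ w⁻¹ * g ∈ Subgroup.center ↥(closure T) := by
      intro g hg
      by_cases h1 : π g = 1
      · exact Or.inl h1
      have hgS : π g ∈ ((P.mapSurjective hs : Sylow 2 (Quot' T)) : Subgroup (Quot' T)) := by
        rw [Sylow.coe_mapSurjective]
        exact mem_map_of_mem _ hg
      have hsq := hf.sq _ _ hgS
      obtain ⟨w, hw, hwe⟩ := exists_of_mem_bar (mem_bar_of_involution h.setup htor hsq h1)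
      have hwe' : π ⟨w, subset_closure hw⟩ = π g := by rw [hπ]; exact hwe.trans (by rw [hπ])
      exact Or.inr ⟨⟨w, subset_closure hw⟩, hw, hwe', hker _ (by rw [map_mul, map_inv, hwe', inv_mul_cancel])⟩
    have hmemS : ∀ g ∈ (P : Subgroup ↥(closure T)), π g ∈ ((P.mapSurjective hs : Sylow 2 (Quot' T)) :
        Subgroup (Quot' T)) := fun g hg => by
      rw [Sylow.coe_mapSurjective]
      exact mem_map_of_mem _ hg
    refine Subtype.ext ?_
    show (a : ↥(closure T)) * b = b * a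
    rcases key a a.2 with ha | ⟨v, hv, hve, hvz⟩
    · exact (mem_center_iff.1 (hker _ ha) _).symm
    rcases key b b.2 with hb | ⟨w, hw, hwe, hwz⟩
    · exact mem_center_iff.1 (hker _ hb) _
    have hvw : Commute v w := Subtype.ext ((h.setup.commute_img hv hw).1 (by
      show img T hv * img T hw = img T hw * img T hv
      have e1 : img T hv = π v := by rw [hπ]; rfl
      have e2 : img T hw = π w := by rw [hπ]; rfl
      rw [e1, e2, hve, hwe]
      exact hf.comm _ _ (hmemS a a.2) _ (hmemS b b.2)))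
    obtain ⟨za, hza, hae⟩ : ∃ z ∈ Subgroup.center ↥(closure T), (a : ↥(closure T)) = v * z :=
      ⟨_, hvz, by group⟩
    obtain ⟨zb, hzb, hbe⟩ : ∃ z ∈ Subgroup.center ↥(closure T), (b : ↥(closure T)) = w * z :=
      ⟨_, hwz, by group⟩
    rw [hae, hbe]
    have ha' : ∀ g, Commute za g := fun g => (mem_center_iff.1 hza g).symm
    have hb' : ∀ g, Commute zb g := fun g => (mem_center_iff.1 hzb g).symm
    exact ((hvw.mul_right (hb' v).symm).mul_left (ha' _)).eq
  have hbot : Cfsg.twoZCore ↥(closure T) = ⊥ := by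
    by_contra hne
    obtain ⟨z, hz, hz1⟩ := (Cfsg.twoZCore ↥(closure T)).bot_or_exists_ne_one.resolve_left hne
    obtain ⟨p, hp, hpd⟩ := Nat.exists_prime_and_dvd (mt orderOf_eq_one_iff.1 hz1)
    haveI := Fact.mk hp
    have h1 : orderOf (z ^ (orderOf z / p)) = p := orderOf_pow_orderOf_div (orderOf_pos z).ne' hpd
    have h2 : z ^ (orderOf z / p) = 1 := by
      refine h.eq_one_of_pow (p := p) (pow_mem hz _) ?_ fun P a b => ?_
      · conv_lhs => arg 2; rw [← h1]
        exact pow_orderOf_eq_one _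
      · by_cases hp2 : p = 2
        · subst hp2; exact hab2 P a b
        · exact h.comm_of_cyclic (hf.cyc p hp hp2) P a b
    rw [h2, orderOf_one] at h1
    exact hp.ne_one h1.symm
  have hcore : core T = ⊥ := by rw [core, hbot, Subgroup.map_bot]
  let ε : ↥(closure T) ≃* Quot' T :=
    MulEquiv.ofBijective π ⟨(injective_iff_map_eq_one π).2 fun g hg => by
      rw [hπ, QuotientGroup.mk'_apply, QuotientGroup.eq_one_iff, hbot] at hg
      exact hg, hs⟩
  have hcard : {b | b ∈ T ∧ Commute b d}.ncard + 1 = q := ncard_fibre h.setup hnc htor h.reduced h.hd hf.card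
  refine ⟨hcore, ?_, F, inferInstance, inferInstance, hc, hq.trans hcard.symm, ⟨ε.trans e⟩⟩
  rw [hcard]
  exact L2Facts.congr ε.symm hf

theorem LineHyp.sz_case (h : LineHyp T d x) {q : ℕ} (hz : Cfsg.Lie.IsoSuzuki (Quot' T))
    (hf : SzFacts (Quot' T) q) (htor : Invol.BenderCover.TorusSylow (Quot' T)) : IsSzLine T d := by
  haveI : Fact (Nat.Prime 2) := ⟨Nat.prime_two⟩
  haveI : Fact (Nat.Prime 3) := ⟨Nat.prime_three⟩
  obtain ⟨π, hπ⟩ : ∃ π, π = QuotientGroup.mk' (Cfsg.twoZCore ↥(closure T)) := ⟨_, rfl⟩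
  have hs : Function.Surjective π := hπ ▸ QuotientGroup.mk'_surjective _
  have hnc := h.not_connected
  have hodd : ∀ p : ℕ, p.Prime → p ∣ Nat.card ↥(Cfsg.twoZCore ↥(closure T)) → p = 2 := by
    intro p hp hpd
    by_contra hp2
    haveI := Fact.mk hp
    obtain ⟨z, hz'⟩ := exists_prime_orderOf_dvd_card' p hpd
    have h1 : (z : ↥(closure T)) = 1 := h.eq_one_of_pow (p := p) z.2
      (by rw [← SubmonoidClass.coe_pow, ← hz', pow_orderOf_eq_one]; rfl)
      fun P a b => h.comm_of_cyclic (hf.cyc p hp hp2) P a b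
    rw [show z = 1 from Subtype.ext h1, orderOf_one] at hz'
    exact hp.ne_one hz'.symm
  have hN : IsPGroup 2 ↥(Cfsg.twoZCore ↥(closure T)) :=
    IsPGroup.of_card (Nat.eq_prime_pow_of_unique_prime_dvd Nat.card_pos.ne' fun {p} hp hd => hodd p hp hd)
  have hcard : {b | b ∈ T ∧ Commute b d}.ncard + 1 = q := ncard_fibre h.setup hnc htor h.reduced h.hd hf.card
  refine ⟨hz, hN, hcard.symm ▸ hf, fun h3 => ?_, ?_⟩
  · rw [Subgroup.card_eq_card_quotient_mul_card_subgroup (Cfsg.twoZCore ↥(closure T))] at h3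
    rcases Nat.prime_three.dvd_mul.1 h3 with h3 | h3
    · exact hf.three h3
    · exact absurd (hodd 3 Nat.prime_three h3) (by decide)
  obtain ⟨S, hS1, hS2⟩ := exists_sylow_fibre h.setup hnc htor h.hd
  obtain ⟨Q₀, hQ₀⟩ : ∃ Q₀, Q₀ = (S : Subgroup (Quot' T)).comap π := ⟨_, rfl⟩
  have hQ₀p : IsPGroup 2 ↥Q₀ := hQ₀ ▸ S.isPGroup'.comap_of_ker_isPGroup π
    (by rw [hπ, QuotientGroup.ker_mk']; exact hN)
  have himg : ∀ (e : G) (he : e ∈ T), π ⟨e, subset_closure he⟩ = img T he := fun e he => by rw [hπ]; rfl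
  have hmem : ∀ e, e ∈ T → Commute e d → ∃ he : e ∈ closure T, (⟨e, he⟩ : ↥(closure T)) ∈ Q₀ :=
    fun e he hed => ⟨subset_closure he, hQ₀ ▸ (show π _ ∈ (S : Subgroup (Quot' T)) by
      rw [himg e he]; exact ((hS1 e he).2 hed).1)⟩
  refine ⟨Q₀.map (closure T).subtype, map_subtype_le _, hQ₀p.map _, ?_, ?_, ?_⟩
  · rintro e ⟨he, hed⟩
    obtain ⟨he', hm⟩ := hmem e he hed
    exact ⟨_, hm, rfl⟩
  · rintro _ ⟨g, hg, rfl⟩ e ⟨he, hed⟩
    have hgS : π g ∈ (S : Subgroup (Quot' T)) := by rw [hQ₀] at hg; exact hg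
    have hw := (hS1 e he).2 hed
    have hc := omega_central htor S hw hgS
    rw [← himg e he, ← map_mul, ← map_mul] at hc
    have he' : (g : G) * e * (g : G)⁻¹ ∈ T := h.setup.conj_mem g.2 he
    have hcore : (g : G) * e * (g : G)⁻¹ * e ∈ core T := by
      refine (mem_core (mul_mem (mul_mem (mul_mem g.2 (subset_closure he)) (inv_mem g.2)) (subset_closure he))).2 ?_
      rw [← QuotientGroup.eq_one_iff]
      show QuotientGroup.mk' _ (g * (⟨e, subset_closure he⟩ : ↥(closure T)) * g⁻¹ * ⟨e, subset_closure he⟩) = 1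
      rw [← hπ]
      simp only [map_mul, map_inv] at hc ⊢
      rw [← hc, mul_inv_cancel_right, ← map_mul,
        show (⟨e, subset_closure he⟩ : ↥(closure T)) * ⟨e, subset_closure he⟩ = 1 from
          Subtype.ext (h.setup.mul_self he), map_one]
    exact mul_inv_eq_iff_eq_mul.1 (h.reduced _ he' e he hcore)
  intro K _ ψ hinj
  by_contra! hall
  obtain ⟨γ₁, hγ₁, γ₂, hγ₂, hw, hw1⟩ := hf.comm_ne S
  obtain ⟨t, -, ht, htr⟩ := hf.tor S
  -- another involution of the Sylow subgroup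
  obtain ⟨w', hw', hw'1, hne⟩ : ∃ w' ∈ omegaOne (S : Subgroup (Quot' T)), w' ≠ 1 ∧ w' ≠ ⁅γ₁, γ₂⁆ := by
    by_contra! hno
    have hsub : omegaOne (S : Subgroup (Quot' T)) ⊆ {1, ⁅γ₁, γ₂⁆} := fun w hw' => by
      by_cases h1 : w = 1
      · exact Or.inl h1
      · exact Or.inr (hno w hw' h1)
    have := (Set.ncard_le_ncard hsub (Set.toFinite _)).trans (Set.ncard_insert_le _ _)
    rw [hf.card, Set.ncard_singleton] at this
    have := hf.pos
    omega
  obtain ⟨i, hi⟩ := htr _ hw _ hw' hw1 hw'1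
  obtain ⟨e₁, he₁, hed₁, heq₁⟩ := hS2 _ hw hw1
  obtain ⟨e₂, he₂, hed₂, heq₂⟩ := hS2 _ hw' hw'1
  obtain ⟨g₁, rfl⟩ := hs γ₁
  obtain ⟨g₂, rfl⟩ := hs γ₂
  obtain ⟨s, hse⟩ := hs (t ^ i)
  have htS : ∀ g ∈ (S : Subgroup (Quot' T)), t ^ i * g * (t ^ i)⁻¹ ∈ (S : Subgroup (Quot' T)) := by
    intro g hg
    clear hi hse
    induction i with
    | zero => simpa using hg
    | succ j ih =>
      rw [pow_succ', show t * t ^ j * g * (t * t ^ j)⁻¹ = t * (t ^ j * g * (t ^ j)⁻¹) * t⁻¹ by group]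
      exact ht _ ih
  have hq₁ : g₁ ∈ Q₀ := by rw [hQ₀]; exact hγ₁
  have hq₂ : g₂ ∈ Q₀ := by rw [hQ₀]; exact hγ₂
  have hs₁ : s * g₁ * s⁻¹ ∈ Q₀ := by
    rw [hQ₀, mem_comap, map_mul, map_mul, map_inv, hse]; exact htS _ hγ₁
  have hs₂ : s * g₂ * s⁻¹ ∈ Q₀ := by
    rw [hQ₀, mem_comap, map_mul, map_mul, map_inv, hse]; exact htS _ hγ₂
  obtain ⟨he₁', hm₁⟩ := hmem e₁ he₁ hed₁
  obtain ⟨he₂', hm₂⟩ := hmem e₂ he₂ hed₂
  -- the central parts agree
  obtain ⟨z, hz⟩ : ∃ z, z = (⟨e₁, he₁'⟩ : ↥(closure T))⁻¹ * ⁅g₁, g₂⁆ := ⟨_, rfl⟩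
  have hzN : z ∈ Cfsg.twoZCore ↥(closure T) := by
    rw [← QuotientGroup.eq_one_iff]
    show QuotientGroup.mk' _ z = 1
    rw [← hπ, hz, map_mul, map_inv, map_commutatorElement, himg e₁ he₁, heq₁, inv_mul_cancel]
  have hzc := mem_center_iff.1 (h.twoZCore_le_center hzN)
  have hc1 : ⁅g₁, g₂⁆ = (⟨e₁, he₁'⟩ : ↥(closure T)) * z := by rw [hz, mul_inv_cancel_left]
  have hc2 : ⁅s * g₁ * s⁻¹, s * g₂ * s⁻¹⁆ = (⟨e₂, he₂'⟩ : ↥(closure T)) * z := by
    have hse₁ : s * (⟨e₁, he₁'⟩ : ↥(closure T)) * s⁻¹ = ⟨e₂, he₂'⟩ := by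
      have hcj : ((s : G) * e₁ * (s : G)⁻¹) ∈ T := h.setup.conj_mem s.2 he₁
      refine Subtype.ext (h.reduced _ hcj e₂ he₂ ((h.setup.img_eq_iff hcj he₂).1 ?_))
      rw [heq₂, ← hi, ← hse, ← heq₁, ← himg e₁ he₁, ← map_inv, ← map_mul, ← map_mul, hπ]
      rfl
    calc ⁅s * g₁ * s⁻¹, s * g₂ * s⁻¹⁆ = s * ⁅g₁, g₂⁆ * s⁻¹ := by
          simp [commutatorElement_def, mul_assoc]
      _ = s * (⟨e₁, he₁'⟩ : ↥(closure T)) * (z * s⁻¹) := by rw [hc1]; group
      _ = (⟨e₂, he₂'⟩ : ↥(closure T)) * z := by rw [← hzc s⁻¹, ← hse₁]; group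
  -- both map to one
  have hQmem : ∀ {g : ↥(closure T)}, g ∈ Q₀ → (g : G) ∈ Q₀.map (closure T).subtype := fun {g} hg => ⟨g, hg, rfl⟩
  have hzQ : z ∈ Q₀ := by rw [hQ₀, mem_comap, hπ, QuotientGroup.mk'_apply, (QuotientGroup.eq_one_iff z).2 hzN]; exact one_mem _
  have hkill : ∀ {a b : ↥(closure T)} (ha : a ∈ Q₀) (hb : b ∈ Q₀) {e : G} (he : e ∈ closure T)
      (hm : (⟨e, he⟩ : ↥(closure T)) ∈ Q₀), ⁅a, b⁆ = (⟨e, he⟩ : ↥(closure T)) * z →
      ψ ⟨e, hQmem hm⟩ = (ψ ⟨(z : G), hQmem hzQ⟩)⁻¹ := by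
    intro a b ha hb e he hm hab
    refine eq_inv_of_mul_eq_one_left ?_
    have e1 : (⟨e, hQmem hm⟩ : ↥(Q₀.map (closure T).subtype)) * ⟨(z : G), hQmem hzQ⟩ =
        ⁅(⟨(a : G), hQmem ha⟩ : ↥(Q₀.map (closure T).subtype)), ⟨(b : G), hQmem hb⟩⁆ :=
      Subtype.ext (congrArg Subtype.val hab).symm
    rw [← map_mul, e1, map_commutatorElement, commutatorElement_eq_one_iff_mul_comm]
    exact (hall _ _).eq
  have := congrArg Subtype.val (hinj _ _ (show e₁ ∈ {e | e ∈ T ∧ Commute e d} from ⟨he₁, hed₁⟩)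
    (show e₂ ∈ {e | e ∈ T ∧ Commute e d} from ⟨he₂, hed₂⟩)
    ((hkill hq₁ hq₂ he₁' hm₁ hc1).trans (hkill hs₁ hs₂ he₂' hm₂ hc2).symm))
  subst this
  exact hne (heq₂.symm.trans heq₁)

/-- A line group is `SL₂(q)`, or a Suzuki group modulo a central 2-group. -/
theorem LineHyp.cases (h : LineHyp T d x) : IsL2Line T d ∨ IsSzLine T d := by
  obtain ⟨htor, q, ⟨hf, F, i1, i2, hc, hq, ⟨e⟩⟩ | ⟨hz, hf⟩ | hf⟩ := bender_cases h.setup h.not_connected
  · exact Or.inl (h.l2_case hf htor F hc hq e)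
  · exact Or.inr (h.sz_case hz hf htor)
  exfalso
  obtain ⟨S, hS1, -⟩ := exists_sylow_fibre h.setup h.not_connected htor h.hd
  refine hf.notgen S (img T h.hx) (h.setup.img_mul_self h.hx) (eq_top_iff.2 ?_)
  have h1 : closure (bar T) ≤ closure (omegaOne (S : Subgroup (Quot' T)) ∪ {img T h.hx}) := by
    have h2 : closure (Subtype.val ⁻¹' ({e | e ∈ T ∧ Commute e d} ∪ {x}) : Set ↥(closure T)) = ⊤ := by
      rw [eq_top_iff]
      intro g _
      have hg := h.gen g.2
      have hsub : closure ({e | e ∈ T ∧ Commute e d} ∪ {x}) ≤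
          (closure (Subtype.val ⁻¹' ({e | e ∈ T ∧ Commute e d} ∪ {x}) : Set ↥(closure T))).map (closure T).subtype := by
        refine (closure_le _).2 fun y hy => ?_
        have hyT : y ∈ T := hy.elim (fun h' => h'.1) fun h' => by rw [Set.mem_singleton_iff.1 h']; exact h.hx
        exact ⟨⟨y, subset_closure hyT⟩, subset_closure hy, rfl⟩
      obtain ⟨g', hg', he⟩ := hsub hg
      rwa [← Subtype.ext he]
    rw [h.setup.closure_bar, ← (Subgroup.map_top_of_surjective _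
      (QuotientGroup.mk'_surjective (Cfsg.twoZCore ↥(closure T)))), ← h2, MonoidHom.map_closure]
    refine closure_mono ?_
    rintro _ ⟨⟨y, hy⟩, hy', rfl⟩
    rcases hy' with ⟨hyT, hyd⟩ | hyx
    · exact Or.inl ((hS1 y hyT).2 hyd)
    · obtain rfl : y = x := hyx
      exact Or.inr rfl
  rwa [h.setup.closure_bar] at h1

end Cfsg.Agent.Fus.OTLine
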