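import Cfsg.Agent.Lib.Fus.OddTransp.LineType
import Cfsg.Agent.Lib.Fus.OddTransp.LineAut
import Cfsg.Agent.Lib.Fus.OddTransp.ClassGroup

/-!
# In a connected setup with trivial core the lines are `SL₂(q)`

A Suzuki line makes every residue Suzuki; two commuting Sylow subgroups of lines fix a third point of the line
through two commuting members, and would commute inside one Sylow subgroup of a Suzuki group.
-/

set_option autoImplicit false
set_option linter.unusedSectionVars false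
set_option linter.style.haveILetI false

namespace Cfsg.Agent.Fus.OTLine

open Subgroup OddTransp

universe u

variable {G : Type u} [Group G] [Finite G] {S : Set G}

/-- A class has odd size. -/
theorem odd_ncard_cl (h : Setup S) (hc0 : core S = ⊥) (hconn : Connected S) {d : G} (hd : d ∈ S) :
    Odd (Cl S d).ncard := by
  have hset := h.coe_closure_cl hc0 hconn hd
  have h1 : (1 : G) ∉ Cl S d := fun e => h.ne_one e.1 rfl
  have hcard : Nat.card ↥(closure (Cl S d)) = (Cl S d).ncard + 1 := by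
    calc Nat.card ↥(closure (Cl S d)) = ((closure (Cl S d) : Subgroup G) : Set G).ncard := Nat.card_coe_set_eq _
      _ = (Cl S d).ncard + 1 := by rw [hset, Set.union_singleton, Set.ncard_insert_of_notMem h1 (Set.toFinite _)]
  have h2 : orderOf (⟨d, subset_closure (self_mem_cl hd)⟩ : ↥(closure (Cl S d))) = 2 := by
    rw [← Subgroup.orderOf_coe]
    exact h.inv d hd
  have h3 := h2.symm.dvd.trans (orderOf_dvd_natCard _)
  rw [hcard] at h3
  refine Nat.not_even_iff_odd.1 fun he => ?_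
  exact (Nat.not_even_iff_odd.2 he.add_one) (even_iff_two_dvd.2 h3)

/-- A line whose Sylow subgroup is non-abelian does not exist. -/
theorem not_nonAb (h : Setup S) (hc0 : core S = ⊥) (hconn : Connected S)
    (ih : BelowL2.{u} (Nat.card ↥(closure S))) {d x : G} (hd : d ∈ S) (hx : x ∈ S) (hdx : ¬ Commute d x)
    (hna : NonAb (lineGrp S d x) (Cl S d)) : False := by
  haveI : Fact (Nat.Prime 2) := ⟨Nat.prime_two⟩
  have hC := h.conn_props hconn
  obtain ⟨m, hm, hmd, hmx⟩ := hC.meet hd hx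
  have hdm : d ∈ Res S m := ⟨hd, hmd.symm, fun hs => hdx ((hs x hx).1 hmx.symm).symm⟩
  have hxm : x ∈ Res S m := ⟨hx, hmx.symm, fun hs => hdx ((hs d hd).1 hmd.symm)⟩
  -- all residues are of Suzuki type
  have hall : ∀ p ∈ S, ¬ Connected (Res S p) ∧ Invol.BenderCover.TorusSylow (Quot' (Res S p)) ∧
      ∃ q, SzFacts (Quot' (Res S p)) q := by
    intro p hp
    obtain ⟨g, hg, hgp⟩ := h.exists_conj hm hp
    have hd' := h.conj_mem_res hg hdm
    have hx' := h.conj_mem_res hg hxm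
    rw [hgp] at hd' hx'
    have hn' : ¬ Commute (g * d * g⁻¹) (g * x * g⁻¹) := fun e => hdx ((commute_conj_iff g).1 e)
    refine residue_sz h hc0 hconn ih hp hd' hx' hn' ?_
    have hL := lineHyp_of_connected h hc0 hconn hd'.1 hx'.1 hn'
    have hlc := closure_lineSet h hd'.1 hx'.1 hn'
    rcases hL.cases with hl | hl
    · exfalso
      obtain ⟨-, hf, -⟩ := hl
      have hle : (lineGrp S d x).map (MulAut.conj g).toMonoidHom ≤ lineGrp S (g * d * g⁻¹) (g * x * g⁻¹) := by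
        rw [lineGrp, MonoidHom.map_closure]
        refine closure_mono ?_
        rintro _ ⟨y, hy | hy, rfl⟩
        · exact Or.inl ⟨h.conj_mem hg hy.1, h.same_conj hg hy.2⟩
        · exact Or.inr (by rw [Set.mem_singleton_iff.1 hy]; rfl)
      refine hna.false_of_hom (L2Facts.comm_of_isPGroup hf) ((MulEquiv.subgroupCongr hlc).symm.toMonoidHom.comp
        ((inclusion hle).comp ((MulAut.conj g).subgroupMap (lineGrp S d x)).toMonoidHom)) fun e e' _ _ heq => ?_
      exact ((MulAut.conj g).subgroupMap (lineGrp S d x)).injective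
        (inclusion_injective hle ((MulEquiv.subgroupCongr hlc).symm.injective heq))
    · obtain ⟨-, -, -, -, hna'⟩ := hl
      rwa [hlc, fibre_lineSet h hd'.1 hx'.1 hn' fun k hk hkd => lineHyp_cls h hconn hd'.1 hx'.1 hn' hk hkd] at hna'
  -- a member of the common neighbourhood not commuting with `m`
  have hmd' : m ∈ Res S d := h.res_symm hm hdm
  obtain ⟨y, hy, hyd, hyx, hym⟩ : ∃ y ∈ S, Commute y d ∧ Commute y x ∧ ¬ Commute y m := by
    obtain ⟨r, hr, hrm⟩ := h.exists_far_in_res hd hmd'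
    by_cases hrx : Commute r x
    · exact ⟨r, hr.1, hr.2.1, hrx, hrm⟩
    obtain ⟨y, hy, hyd, hyr, hyx⟩ := hC.third d hd r hr.1 hr.2.1.symm x hx (fun e => hdx e.symm) fun e => hrx e.symm
    refine ⟨y, hy, hyd, hyx, fun hc => hrm ?_⟩
    have hR := h.res_setup hC.rconn hd hmd'
    have hyR : y ∈ Res S d := ⟨hy, hyd, fun hs => hdx ((hs x hx).2 hyx.symm).symm⟩
    exact ((hR.same_of_not_connected (hall d hd).1 hyR hmd' hc r hr).1 hyr.symm)
  have hyR : y ∈ Res S d := ⟨hy, hyd, fun hs => hdx ((hs x hx).2 hyx.symm).symm⟩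
  obtain ⟨qd, hqd⟩ := (hall d hd).2.2
  have hna1 := nonAb_of_residue h hc0 hconn hd hmd' hyR (fun e => hym e.symm) hqd
  -- the two Sylow subgroups
  obtain ⟨Q₀, hQ₀L, hQ₀p, hQ₀C, hQ₀c, hQ₀⟩ := hna
  obtain ⟨Q₁, hQ₁L, hQ₁p, hQ₁C, hQ₁c, hQ₁⟩ := hna1
  have hcent : ∀ a ∈ S, Commute a d → Commute a x → ∀ g ∈ lineGrp S d x, Commute g a := by
    intro a ha h1 h2 g hg
    have hle : lineGrp S d x ≤ centralizer {a} := (closure_le _).2 fun e he => mem_centralizer_singleton_iff.2 (by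
      rcases he with he | he
      · exact ((he.2 a ha).1 h1).eq.symm
      · rw [Set.mem_singleton_iff.1 he]; exact h2.eq.symm)
    exact mem_centralizer_singleton_iff.1 (hle hg)
  have hcl_m : ∀ e ∈ Cl S m, Commute e d ∧ Commute e x := fun e he =>
    ⟨((he.2 d hd).1 hmd.symm).symm, ((he.2 x hx).1 hmx.symm).symm⟩
  have h01 : ∀ a ∈ lineGrp S d x, ∀ b ∈ lineGrp S m y, Commute a b := by
    intro a ha b hb
    have hle : lineGrp S m y ≤ centralizer {a} := (closure_le _).2 fun e he => mem_centralizer_singleton_iff.2 (by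
      rcases he with he | he
      · exact (hcent e he.1 (hcl_m e he).1 (hcl_m e he).2 a ha).eq.symm
      · rw [Set.mem_singleton_iff.1 he]; exact (hcent y hy hyd hyx a ha).eq.symm)
    exact (mem_centralizer_singleton_iff.1 (hle hb)).symm
  obtain ⟨P, hPdef⟩ : ∃ P, P = Q₀ ⊔ Q₁ := ⟨_, rfl⟩
  have hP2 : IsPGroup 2 ↥P := hPdef ▸ hQ₀p.to_sup_of_normal_right' hQ₁p fun a ha =>
    centralizer_le_normalizer _ (mem_centralizer_iff.2 fun b hb => (h01 a (hQ₀L ha) b (hQ₁L hb)).eq.symm)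
  have hPcl : P ≤ closure S := hPdef ▸ sup_le (hQ₀L.trans (lineGrp_le hx)) (hQ₁L.trans (lineGrp_le hy))
  have hPd : ∀ g ∈ P, Commute g d ∧ Commute g m := by
    have h0 : Q₀ ≤ centralizer {d, m} := fun g hg => mem_centralizer_iff.2 (by
      rintro e (he | he) <;> rw [he]
      · exact (hQ₀c g hg d (self_mem_cl hd)).eq.symm
      · exact (hcent m hm hmd hmx g (hQ₀L hg)).eq.symm)
    have h1 : Q₁ ≤ centralizer {d, m} := fun g hg => mem_centralizer_iff.2 (by
      rintro e (he | he) <;> rw [he]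
      · exact (h01 d (cl_subset_lineGrp (self_mem_cl hd)) g (hQ₁L hg)).eq
      · exact (hQ₁c g hg m (self_mem_cl hm)).eq.symm)
    intro g hg
    have := mem_centralizer_iff.1 (sup_le h0 h1 (hPdef ▸ hg))
    exact ⟨(this d (Or.inl rfl)).symm, (this m (Or.inr rfl)).symm⟩
  -- the third members
  let M : Set G := {w | w ∈ S ∧ Commute w d ∧ Commute w m ∧ ¬ Same S d w ∧ ¬ Same S m w}
  have hR := h.res_setup hC.rconn hd hmd'
  have hMne : M.Nonempty := by
    obtain ⟨g, hg, h1, h2, h3, h4⟩ := h.exists_third hc0 hconn (below_all _) hd hmd'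
    exact ⟨g, hg, h1, h2, h3, h4⟩
  have heven : Even {w | w ∈ Res S d ∧ Commute w m}.ncard := by
    refine even_ncard hR (hall d hd).1 (fun hQ => ?_) hmd'
    obtain ⟨g, hgS, h1, h2, h3, h4⟩ := hMne
    have hmem := mul_mem_of_central hR (hall d hd).1 hqd (hall d hd).2.1 hQ hmd' (b := g) ⟨hgS, h1, h3⟩ h2.symm
      fun e => h4 (e ▸ Same.refl m)
    exact h4 (h.same_of_mul_mem hm hgS h2.symm hmem.1)
  have hsplit : {w | w ∈ Res S d ∧ Commute w m} = M ∪ Cl S m := by
    ext w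
    constructor
    · rintro ⟨⟨hwS, hwd, hws⟩, hwm⟩
      by_cases hs : Same S m w
      · exact Or.inr ⟨hwS, hs⟩
      · exact Or.inl ⟨hwS, hwd, hwm, hws, hs⟩
    · rintro (⟨hwS, hwd, hwm, hws, -⟩ | hw)
      · exact ⟨⟨hwS, hwd, hws⟩, hwm⟩
      · exact ⟨h.cl_subset_res hd hmd' hw, (hw.2.commute hm).symm⟩
  have hodd : ¬ 2 ∣ Nat.card ↥M := by
    rw [hsplit, Set.ncard_union_eq (Set.disjoint_left.2 fun w hw hw' => hw.2.2.2.2 hw'.2) (Set.toFinite _)
      (Set.toFinite _), Nat.even_add] at heven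
    rw [Nat.card_coe_set_eq, ← even_iff_two_dvd]
    exact fun e => Nat.not_even_iff_odd.2 (odd_ncard_cl h hc0 hconn hm) (heven.1 e)
  have hact : ∀ g : ↥P, ∀ w : ↥M, (g : G) * w.1 * (g : G)⁻¹ ∈ M := by
    rintro ⟨g, hg⟩ ⟨w, hwS, hwd, hwm, hws, hwt⟩
    have hgd := conj_eq_self_of_commute (hPd g hg).1
    have hgm := conj_eq_self_of_commute (hPd g hg).2
    refine ⟨h.conj_mem (hPcl hg) hwS, ?_, ?_, fun e => hws ?_, fun e => hwt ?_⟩
    · simpa [hgd] using commute_conj hwd g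
    · simpa [hgm] using commute_conj hwm g
    · exact (h.same_conj_iff (hPcl hg)).1 (by rw [hgd]; exact e)
    · exact (h.same_conj_iff (hPcl hg)).1 (by rw [hgm]; exact e)
  letI : MulAction ↥P ↥M :=
    { smul := fun g w => ⟨_, hact g w⟩
      one_smul := fun w => Subtype.ext (by
        show (1 : G) * w.1 * (1 : G)⁻¹ = w.1
        group)
      mul_smul := fun g g' w => Subtype.ext (by
        show ((g : G) * g') * w.1 * ((g : G) * g')⁻¹ = (g : G) * ((g' : G) * w.1 * (g' : G)⁻¹) * (g : G)⁻¹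
        group) }
  obtain ⟨⟨p, hpS, hpd, hpm, hpsd, hpsm⟩, hfix⟩ := hP2.nonempty_fixed_point_of_prime_not_dvd_card ↥M hodd
  -- inside the residue of the fixed member
  have hdp : d ∈ Res S p := ⟨hd, hpd.symm, fun e => hpsd e.symm⟩
  have hmp : m ∈ Res S p := ⟨hm, hpm.symm, fun e => hpsm e.symm⟩
  have hRp := h.res_setup hC.rconn hpS hdp
  obtain ⟨qp, hqp⟩ := (hall p hpS).2.2
  have hPn : ∀ g ∈ P, ∀ r ∈ Res S p, g * r * g⁻¹ ∈ Res S p := fun g hg r hr => by
    have := h.conj_mem_res (hPcl hg) hr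
    rwa [show g * p * g⁻¹ = p from congrArg Subtype.val (hfix ⟨g, hg⟩)] at this
  obtain ⟨ψ, hψ⟩ := exists_inner_hom hRp hqp P hP2 hPn
  have h0P : Q₀ ≤ P := hPdef ▸ le_sup_left
  have h1P : Q₁ ≤ P := hPdef ▸ le_sup_right
  have hinj : ∀ {c : G}, c ∈ Res S p → ∀ e e' : ↥P, (e : G) ∈ Cl S c → (e' : G) ∈ Cl S c → ψ e = ψ e' → e = e' := by
    rintro c hc ⟨e, heP⟩ ⟨e', he'P⟩ he he' heq
    rw [hψ e heP (h.cl_subset_res hpS hc he), hψ e' he'P (h.cl_subset_res hpS hc he')] at heq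
    exact Subtype.ext (img_inj_of_same h hc0 hconn hRp hpS hc he he' ((hRp.img_eq_iff _ _).1 heq))
  obtain ⟨a₁, a₂, ha⟩ := hQ₀ (Quot' (Res S p)) (ψ.comp (inclusion h0P)) fun e e' he he' heq =>
    inclusion_injective h0P (hinj hdp _ _ he he' heq)
  obtain ⟨b₁, b₂, hb⟩ := hQ₁ (Quot' (Res S p)) (ψ.comp (inclusion h1P)) fun e e' he he' heq =>
    inclusion_injective h1P (hinj hmp _ _ he he' heq)
  have hdP : d ∈ P := h0P (hQ₀C (self_mem_cl hd))
  have hw := Invol.orderOf_two_iff.1 (hRp.bar_setup.inv _ (img_mem_bar hdp))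
  have hwc : ∀ g : ↥P, ψ g * img _ hdp = img _ hdp * ψ g := fun g => by
    rw [← hψ d hdP hdp, ← map_mul, ← map_mul]
    exact congrArg ψ (Subtype.ext (hPd g g.2).1.eq)
  have hcc : ∀ (a : ↥Q₀) (b : ↥Q₁), ψ (inclusion h0P a) * ψ (inclusion h1P b) =
      ψ (inclusion h1P b) * ψ (inclusion h0P a) := fun a b => by
    rw [← map_mul, ← map_mul]
    exact congrArg ψ (Subtype.ext (h01 _ (hQ₀L a.2) _ (hQ₁L b.2)).eq)
  rcases hqp.cent _ hw.1 hw.2 _ _ _ _ (hwc (inclusion h0P a₁)) (hwc (inclusion h0P a₂))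
      (hwc (inclusion h1P b₁)) (hwc (inclusion h1P b₂)) (hcc a₁ b₁) (hcc a₁ b₂) (hcc a₂ b₁) (hcc a₂ b₂) with e | e
  · exact ha e
  · exact hb e

/-- The inductive form. -/
theorem belowL2_all (n : ℕ) : BelowL2.{u} n := by
  induction n with
  | zero => intro H _ _ T _ hlt; exact absurd hlt (Nat.not_lt_zero _)
  | succ n ih =>
    intro H _ _ T h hlt hc0 hconn d hd x hx hdx
    rcases Nat.lt_succ_iff_lt_or_eq.1 hlt with hlt' | heq
    · exact ih H T h hlt' hc0 hconn d hd x hx hdx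
    rcases (lineHyp_of_connected h hc0 hconn hd hx hdx).cases with hl | hl
    · exact hl
    obtain ⟨-, -, -, -, hna⟩ := hl
    rw [closure_lineSet h hd hx hdx,
      fibre_lineSet h hd hx hdx fun k hk hkd => lineHyp_cls h hconn hd hx hdx hk hkd] at hna
    exact (not_nonAb h hc0 hconn (heq ▸ ih) hd hx hdx hna).elim

/-- Lines of a connected setup with trivial core are linear groups of the order of the class. -/
theorem line_psl (h : Setup S) (hc0 : core S = ⊥) (hconn : Connected S) {d x : G} (hd : d ∈ S) (hx : x ∈ S)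
    (hdx : ¬ Commute d x) : ∃ (F : Type) (_ : Field F) (_ : Fintype F), CharP F 2 ∧
      Fintype.card F = (Cl S d).ncard + 1 ∧
      Nonempty (↥(closure (Cl S d ∪ {x})) ≃* Matrix.ProjectiveSpecialLinearGroup (Fin 2) F) := by
  obtain ⟨-, -, F, i1, i2, hc, hq, ⟨e⟩⟩ := belowL2_all _ G S h (Nat.lt_succ_self _) hc0 hconn d hd x hx hdx
  refine ⟨F, i1, i2, hc, ?_, ⟨(MulEquiv.subgroupCongr (closure_lineSet h hd hx hdx)).symm.trans e⟩⟩
  rw [hq, fibre_lineSet h hd hx hdx fun k hk hkd => lineHyp_cls h hconn hd hx hdx hk hkd]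

end Cfsg.Agent.Fus.OTLine
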