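import Cfsg.Agent.Lib.Fus.OddTransp.LineBender
import Cfsg.Agent.Lib.Grp.Cores
import Cfsg.Agent.Lib.Invol.Transport

/-!
# Disconnected residues of Suzuki type

If the 2-core is central then commuting products are members; otherwise the commuting members of a member
form a set of even size, being a union of non-trivial orbits of the 2-core.
-/

set_option autoImplicit false
set_option linter.unusedSectionVars false
set_option linter.style.haveILetI false

namespace Cfsg.Agent.Fus.OTLine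

open Subgroup OddTransp

universe u

/-- Membership of the centre over the 2-core. -/
theorem mem_twoZCore_iff {X : Type u} [Group X] {n : X} :
    n ∈ Cfsg.twoZCore X ↔ ∀ g : X, (n * g)⁻¹ * (g * n) ∈ Cfsg.pCore 2 X := by
  show QuotientGroup.mk' (Cfsg.pCore 2 X) n ∈ Subgroup.center _ ↔ _
  rw [mem_center_iff]
  constructor
  · intro h g
    rw [← QuotientGroup.eq]
    exact ((h (QuotientGroup.mk' _ g)).symm :)
  · intro h q
    obtain ⟨g, rfl⟩ := QuotientGroup.mk'_surjective _ q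
    exact (QuotientGroup.eq.2 (h g)).symm

theorem map_twoZCore_equiv {X : Type u} [Group X] [Finite X] (e : X ≃* X) :
    (Cfsg.twoZCore X).map e.toMonoidHom = Cfsg.twoZCore X := by
  haveI : Fact (Nat.Prime 2) := ⟨Nat.prime_two⟩
  have key : ∀ (e : X ≃* X) (n : X), n ∈ Cfsg.twoZCore X → e n ∈ Cfsg.twoZCore X := by
    intro e n hn
    refine mem_twoZCore_iff.2 fun g => ?_
    have h1 := mem_twoZCore_iff.1 hn (e.symm g)
    have h2 : e ((n * e.symm g)⁻¹ * (e.symm g * n)) ∈ (Cfsg.pCore 2 X).map e.toMonoidHom := mem_map_of_mem _ h1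
    rw [Invol.map_pCore_equiv e] at h2
    simpa using h2
  refine le_antisymm ?_ fun n hn => ⟨e.symm n, key e.symm n hn, e.apply_symm_apply n⟩
  rintro _ ⟨n, hn, rfl⟩
  exact key e n hn

variable {G : Type u} [Group G] [Finite G] {T : Set G}

/-- Congruent members are conjugate to congruent members. -/
theorem conj_congr (h : Setup T) {n a : G} (hn : n ∈ closure T) (hnc : n ∈ core T) (ha : a ∈ T) :
    n * a * n⁻¹ * a ∈ core T := by
  rw [show n * a * n⁻¹ * a = n * (a * n⁻¹ * a⁻¹) * (a * a) by group, h.mul_self ha, mul_one]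
  exact mul_mem hnc (core_conj_mem (subset_closure ha) (inv_mem hnc))

/-- An involution of the core is central when the 2-core is. -/
theorem commute_of_mem_core (h : Setup T) (hQ : Cfsg.pCore 2 ↥(closure T) ≤ Subgroup.center ↥(closure T))
    {u : G} (hu : u ∈ core T) (hu2 : u * u = 1) {g : G} (hg : g ∈ closure T) : Commute u g :=
  (congrArg Subtype.val (mem_center_iff.1 (hQ (h.mem_pCore_of_mem_core hu hu2)) ⟨g, hg⟩) :).symm

theorem reduced_of_central (h : Setup T) (hQ : Cfsg.pCore 2 ↥(closure T) ≤ Subgroup.center ↥(closure T)) :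
    Reduced T := by
  intro a ha b hb hc
  by_contra hne
  obtain ⟨e, he, hae⟩ := h.exists_far ha
  have hab := h.commute_of_mul_mem_core ha hb hc
  exact hae (h.commute_of_commute_mul ha hb hne hab he
    (commute_of_mem_core h hQ hc (h.mul_sq_of_commute ha hb hab) (subset_closure he)).symm).1.symm

/-- With central 2-core, products of commuting members are members. -/
theorem mul_mem_of_central (h : Setup T) (hnc : ¬ Connected T) {q : ℕ} (hf : SzFacts (Quot' T) q)
    (htor : Invol.BenderCover.TorusSylow (Quot' T))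
    (hQ : Cfsg.pCore 2 ↥(closure T) ≤ Subgroup.center ↥(closure T)) {a b : G} (ha : a ∈ T) (hb : b ∈ T)
    (hab : Commute a b) (hne : a ≠ b) : a * b ∈ T := by
  classical
  have hred := reduced_of_central h hQ
  obtain ⟨π, hπ⟩ : ∃ π, π = QuotientGroup.mk' (Cfsg.twoZCore ↥(closure T)) := ⟨_, rfl⟩
  have himg : ∀ (e : G) (he : e ∈ T), π ⟨e, subset_closure he⟩ = img T he := fun e he => by rw [hπ]; rfl
  obtain ⟨S, hS1, hS2⟩ := exists_sylow_fibre h hnc htor ha
  obtain ⟨t, hodd, ht, htr⟩ := hf.tor S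
  obtain ⟨⟨s, hs⟩, hse⟩ := (hπ ▸ QuotientGroup.mk'_surjective (Cfsg.twoZCore ↥(closure T)) :
    Function.Surjective π) t
  obtain ⟨n, hn⟩ : ∃ n, n = orderOf t := ⟨_, rfl⟩
  let Ω : Set G := {w | w ∈ T ∧ Commute w a}
  let A : Subgroup G := closure Ω
  have hΩc : ∀ v ∈ Ω, ∀ w ∈ Ω, v * w = w * v := fun v hv w hw =>
    ((h.same_of_not_connected hnc hw.1 ha hw.2 v hv.1).2 hv.2).eq
  letI : CommGroup ↥A := { (inferInstance : Group ↥A) with
    mul_comm := (Subgroup.isMulCommutative_closure hΩc).is_comm.comm }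
  have himgc : ∀ g (hg : g ∈ closure T) (w : G) (hw : w ∈ T) (hw' : g * w * g⁻¹ ∈ T),
      img T hw' = π ⟨g, hg⟩ * img T hw * (π ⟨g, hg⟩)⁻¹ := fun g hg w hw hw' => by
    rw [← himg, ← himg, ← map_inv, ← map_mul, ← map_mul]
    rfl
  have hsΩ : ∀ w ∈ Ω, s * w * s⁻¹ ∈ Ω := by
    intro w hw
    refine ⟨h.conj_mem hs hw.1, (hS1 _ (h.conj_mem hs hw.1)).1 ?_⟩
    have h1 := (hS1 w hw.1).2 hw.2
    rw [himgc s hs w hw.1, hse]
    exact ⟨ht _ h1.1, by rw [show t * img T hw.1 * t⁻¹ * (t * img T hw.1 * t⁻¹) = t * (img T hw.1 * img T hw.1) * t⁻¹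
      by group, h1.2, mul_one, mul_inv_cancel]⟩
  have hsA : ∀ i : ℕ, ∀ x ∈ A, s ^ i * x * (s ^ i)⁻¹ ∈ A := by
    intro i
    induction i with
    | zero => intro x hx; simpa using hx
    | succ j ih =>
      intro x hx
      rw [pow_succ', show s * s ^ j * x * (s * s ^ j)⁻¹ = s * (s ^ j * x * (s ^ j)⁻¹) * s⁻¹ by group]
      have := mem_map_of_mem (MulAut.conj s).toMonoidHom (ih x hx)
      rw [MonoidHom.map_closure] at this
      exact closure_mono (by rintro _ ⟨w, hw, rfl⟩; exact hsΩ w hw) this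
  have hiΩ : ∀ (i : ℕ) (w : G), w ∈ Ω → s ^ i * w * (s ^ i)⁻¹ ∈ Ω := by
    intro i
    induction i with
    | zero => intro w hw; simpa using hw
    | succ j ih =>
      intro w hw
      rw [pow_succ', show s * s ^ j * w * (s * s ^ j)⁻¹ = s * (s ^ j * w * (s ^ j)⁻¹) * s⁻¹ by group]
      exact hsΩ _ (ih w hw)
  -- the product over an orbit of the torus
  let f : ↥A → ↥A := fun x => ∏ i ∈ Finset.range n, ⟨s ^ i * (x : G) * (s ^ i)⁻¹, hsA i x x.2⟩
  have hfmul : ∀ x y, f (x * y) = f x * f y := by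
    intro x y
    show _ = _ * _
    rw [← Finset.prod_mul_distrib]
    refine Finset.prod_congr rfl fun i _ => Subtype.ext ?_
    show s ^ i * ((x : G) * y) * (s ^ i)⁻¹ = s ^ i * x * (s ^ i)⁻¹ * (s ^ i * y * (s ^ i)⁻¹)
    group
  have hsn : ∀ w ∈ Ω, s ^ n * w * (s ^ n)⁻¹ = w := by
    intro w hw
    refine hred _ (hiΩ n w hw).1 w hw.1 ?_
    refine (h.img_eq_iff (hiΩ n w hw).1 hw.1).1 ?_
    rw [himgc (s ^ n) (pow_mem hs n) w hw.1,
      show (⟨s ^ n, pow_mem hs n⟩ : ↥(closure T)) = ⟨s, hs⟩ ^ n from rfl, map_pow, hse, hn, pow_orderOf_eq_one,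
      inv_one, mul_one, one_mul]
  have hshift : ∀ (w : G) (hw : w ∈ Ω), f ⟨s * w * s⁻¹, subset_closure (hsΩ w hw)⟩ = f ⟨w, subset_closure hw⟩ := by
    intro w hw
    let g : ℕ → ↥A := fun i => ⟨s ^ i * w * (s ^ i)⁻¹, hsA i w (subset_closure hw)⟩
    have h1 : f ⟨s * w * s⁻¹, subset_closure (hsΩ w hw)⟩ = ∏ i ∈ Finset.range n, g (i + 1) :=
      Finset.prod_congr rfl fun i _ => Subtype.ext (by
        show s ^ i * (s * w * s⁻¹) * (s ^ i)⁻¹ = s ^ (i + 1) * w * (s ^ (i + 1))⁻¹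
        rw [pow_succ]; group)
    have h2 : f ⟨w, subset_closure hw⟩ = ∏ i ∈ Finset.range n, g i := rfl
    have h3 := Finset.prod_range_succ g n
    rw [Finset.prod_range_succ', show g n = g 0 from Subtype.ext (by
      show s ^ n * w * (s ^ n)⁻¹ = s ^ 0 * w * (s ^ 0)⁻¹
      rw [hsn w hw]; simp)] at h3
    rw [h1, h2]
    exact mul_right_cancel h3
  have hconst : ∀ (w : G) (hw : w ∈ Ω), f ⟨w, subset_closure hw⟩ = f ⟨a, subset_closure ⟨ha, Commute.refl a⟩⟩ := by
    intro w hw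
    have haΩ : a ∈ Ω := ⟨ha, Commute.refl a⟩
    have hne1 : ∀ v (hv : v ∈ T), img T hv ≠ 1 := fun v hv => h.bar_setup.ne_one (img_mem_bar hv)
    obtain ⟨i, hi⟩ := htr _ ((hS1 a ha).2 (Commute.refl a)) _ ((hS1 w hw.1).2 hw.2) (hne1 a ha) (hne1 w hw.1)
    have hwe : s ^ i * a * (s ^ i)⁻¹ = w := hred _ (hiΩ i a haΩ).1 w hw.1
      ((h.img_eq_iff (hiΩ i a haΩ).1 hw.1).1 (by
        rw [himgc (s ^ i) (pow_mem hs i) a ha,
          show (⟨s ^ i, pow_mem hs i⟩ : ↥(closure T)) = ⟨s, hs⟩ ^ i from rfl, map_pow, hse, hi]))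
    clear hi
    subst hwe
    induction i with
    | zero => exact congrArg f (Subtype.ext (by simp))
    | succ j ih =>
      rw [show (⟨s ^ (j + 1) * a * (s ^ (j + 1))⁻¹, subset_closure hw⟩ : ↥A) =
        ⟨s * (s ^ j * a * (s ^ j)⁻¹) * s⁻¹, subset_closure (hsΩ _ (hiΩ j a haΩ))⟩ from
          Subtype.ext (by show s ^ (j + 1) * a * (s ^ (j + 1))⁻¹ = _; rw [pow_succ']; group),
        hshift _ (hiΩ j a haΩ)]
      exact ih (hiΩ j a haΩ)
  -- a triple makes the constant trivial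
  obtain ⟨b₀, hb₀, -, hab₀, hm₀, -⟩ := h.exists_triple ha
  have hone : f ⟨a, subset_closure ⟨ha, Commute.refl a⟩⟩ = 1 := by
    have hb₀' : b₀ ∈ Ω := ⟨hb₀.1, hab₀.symm⟩
    have hm₀' : a * b₀ ∈ Ω := ⟨hm₀.1, (Commute.refl a).mul_left hab₀.symm⟩
    have h1 := hconst _ hm₀'
    rw [show (⟨a * b₀, subset_closure hm₀'⟩ : ↥A) = ⟨a, subset_closure ⟨ha, Commute.refl a⟩⟩ * ⟨b₀, subset_closure hb₀'⟩
      from rfl, hfmul, hconst b₀ hb₀'] at h1
    exact mul_eq_left.1 h1
  -- the lift of the product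
  have hbΩ : b ∈ Ω := ⟨hb, hab.symm⟩
  have hia := (hS1 a ha).2 (Commute.refl a)
  have hib := (hS1 b hb).2 hbΩ.2
  have hw2 : img T ha * img T hb ∈ omegaOne (S : Subgroup (Quot' T)) := ⟨mul_mem hia.1 hib.1, by
    rw [mul_assoc, ← mul_assoc (img T hb), ← ((h.commute_img ha hb).2 hab).eq, mul_assoc (img T ha), hib.2,
      mul_one, hia.2]⟩
  have hw1 : img T ha * img T hb ≠ 1 := fun e => by
    refine hne (hred a ha b hb ((mem_core (mul_mem (subset_closure ha) (subset_closure hb))).2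
      ((QuotientGroup.eq_one_iff _).1 ?_)))
    exact (map_mul (QuotientGroup.mk' (Cfsg.twoZCore ↥(closure T))) ⟨a, subset_closure ha⟩ ⟨b, subset_closure hb⟩).trans e
  obtain ⟨w, hw, hwa, hwe⟩ := hS2 _ hw2 hw1
  have hwΩ : w ∈ Ω := ⟨hw, hwa⟩
  have hwb : Commute w b := hΩc w hwΩ b hbΩ
  obtain ⟨u, hu⟩ : ∃ u, u = a * b * w := ⟨_, rfl⟩
  have hucl : u ∈ closure T := hu ▸ mul_mem (mul_mem (subset_closure ha) (subset_closure hb)) (subset_closure hw)
  have huc : u ∈ core T := by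
    refine (mem_core hucl).2 ((QuotientGroup.eq_one_iff _).1 ?_)
    show QuotientGroup.mk' (Cfsg.twoZCore ↥(closure T)) ⟨u, hucl⟩ = 1
    rw [← hπ, show (⟨u, hucl⟩ : ↥(closure T)) = ⟨a, subset_closure ha⟩ * ⟨b, subset_closure hb⟩ * ⟨w, subset_closure hw⟩
      from Subtype.ext hu, map_mul, map_mul, himg a ha, himg b hb, himg w hw, hwe]
    exact hw2.2
  have hu2 : u * u = 1 := by
    rw [hu, mul_assoc (a * b) w, ← mul_assoc w (a * b) w, (hwa.mul_right hwb).eq, mul_assoc (a * b) w w,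
      h.mul_self hw, mul_one]
    exact h.mul_sq_of_commute ha hb hab
  have huA : u ∈ A := hu ▸ mul_mem (mul_mem (subset_closure ⟨ha, Commute.refl a⟩) (subset_closure hbΩ))
    (subset_closure hwΩ)
  have hu1 : u = 1 := by
    have h1 : f ⟨u, huA⟩ = 1 := by
      rw [show (⟨u, huA⟩ : ↥A) = ⟨a, subset_closure ⟨ha, Commute.refl a⟩⟩ * ⟨b, subset_closure hbΩ⟩ *
        ⟨w, subset_closure hwΩ⟩ from Subtype.ext hu, hfmul, hfmul, hconst b hbΩ, hconst w hwΩ, hone, one_mul, one_mul]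
    have h2 : f ⟨u, huA⟩ = (⟨u, huA⟩ : ↥A) ^ n := by
      show Finset.prod _ _ = _
      rw [Finset.prod_congr rfl fun i _ => show (⟨s ^ i * u * (s ^ i)⁻¹, _⟩ : ↥A) = ⟨u, huA⟩ from
        Subtype.ext (conj_eq_self_of_commute (commute_of_mem_core h hQ huc hu2 (pow_mem hs i)).symm),
        Finset.prod_const, Finset.card_range]
    obtain ⟨k, hk⟩ := hodd
    have h3 := congrArg Subtype.val (h1.symm.trans h2)
    simp only [SubmonoidClass.coe_pow, OneMemClass.coe_one] at h3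
    rw [hn, hk, pow_succ, pow_mul, pow_two, hu2, one_pow, one_mul] at h3
    exact h3.symm
  rw [hu] at hu1
  rw [(mul_eq_one_iff_eq_inv.1 hu1).trans (h.inv_eq hw)]
  exact hw

/-- With non-central 2-core the members commuting with a member form a set of even size. -/
theorem even_ncard (h : Setup T) (hnc : ¬ Connected T)
    (hQ : ¬ Cfsg.pCore 2 ↥(closure T) ≤ Subgroup.center ↥(closure T)) {a : G} (ha : a ∈ T) :
    Even {w | w ∈ T ∧ Commute w a}.ncard := by
  haveI : Fact (Nat.Prime 2) := ⟨Nat.prime_two⟩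
  by_contra hodd
  have hQ' : ∀ n : ↥(Cfsg.pCore 2 ↥(closure T)), ∀ w : {w // w ∈ T ∧ Commute w a},
      ((n : ↥(closure T)) : G) * w.1 * ((n : ↥(closure T)) : G)⁻¹ ∈ T ∧
        Commute (((n : ↥(closure T)) : G) * w.1 * ((n : ↥(closure T)) : G)⁻¹) a := by
    intro n w
    have hT := h.conj_mem (n : ↥(closure T)).2 w.2.1
    refine ⟨hT, ?_⟩
    have hs := h.same_of_mul_mem_core hT w.2.1 (conj_congr h (n : ↥(closure T)).2 (pCore_le_core n.2) w.2.1)
    exact ((hs a ha).2 w.2.2.symm).symm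
  letI : MulAction ↥(Cfsg.pCore 2 ↥(closure T)) {w // w ∈ T ∧ Commute w a} :=
    { smul := fun n w => ⟨_, hQ' n w⟩
      one_smul := fun w => Subtype.ext (by
        show (1 : G) * w.1 * (1 : G)⁻¹ = w.1
        group)
      mul_smul := fun m n w => Subtype.ext (by
        show ((m : ↥(closure T)) : G) * ((n : ↥(closure T)) : G) * w.1 * (((m : ↥(closure T)) : G) * ((n : ↥(closure T)) : G))⁻¹ = _
        show _ = ((m : ↥(closure T)) : G) * (((n : ↥(closure T)) : G) * w.1 * ((n : ↥(closure T)) : G)⁻¹) *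
          ((m : ↥(closure T)) : G)⁻¹
        group) }
  obtain ⟨w, hw⟩ := (Grp.pCore_isPGroup (p := 2) (G := ↥(closure T))).nonempty_fixed_point_of_prime_not_dvd_card
    {w // w ∈ T ∧ Commute w a} (fun h2 => hodd (even_iff_two_dvd.2 (by rwa [← Nat.card_coe_set_eq])))
  refine hQ fun n hn => mem_center_iff.2 fun g => Subtype.ext ?_
  haveI := Grp.pCore_isNormal (p := 2) (G := ↥(closure T))
  have hall : ∀ b ∈ T, Commute (n : G) b := by
    intro b hb
    obtain ⟨k, hk, rfl⟩ := h.exists_conj w.2.1 hb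
    have hm := (inferInstance : (Cfsg.pCore 2 ↥(closure T)).Normal).conj_mem n hn (⟨k, hk⟩ : ↥(closure T))⁻¹
    have h1 : k⁻¹ * (n : G) * k⁻¹⁻¹ * w.1 * (k⁻¹ * (n : G) * k⁻¹⁻¹)⁻¹ = w.1 :=
      congrArg Subtype.val (hw ⟨_, hm⟩)
    have h2 := commute_conj (show Commute (k⁻¹ * (n : G) * k⁻¹⁻¹) w.1 from mul_inv_eq_iff_eq_mul.1 h1) k
    rwa [show k * (k⁻¹ * (n : G) * k⁻¹⁻¹) * k⁻¹ = (n : G) by group] at h2
  have hle : closure T ≤ centralizer {(n : G)} :=
    (closure_le _).2 fun b hb => mem_centralizer_singleton_iff.2 (hall b hb).eq.symm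
  exact mem_centralizer_singleton_iff.1 (hle g.2)

end Cfsg.Agent.Fus.OTLine
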