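import Cfsg.Agent.Lib.Fus.OddTransp.LineGroup

/-!
# The members conjugate to `d` inside the group generated by its class and one more member
-/

set_option autoImplicit false
set_option linter.unusedSectionVars false
set_option linter.style.haveILetI false

namespace Cfsg.Agent.Fus.OTLine

open Subgroup OddTransp

universe u v

variable {G : Type u} [Group G]

/-- The group of a line. -/
def lineGrp (S : Set G) (d x : G) : Subgroup G := closure (Cl S d ∪ {x})

/-- The members of a line. -/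
def lineSet (S : Set G) (d x : G) : Set G := {s | s ∈ S ∧ ∃ k ∈ lineGrp S d x, k * d * k⁻¹ = s}

variable {S : Set G} {d x : G}

/-- Members with a product of odd order are conjugate in any subgroup containing both. -/
theorem exists_conj_pair (h : Setup S) {H : Subgroup G} {a b : G} (ha : a ∈ S) (hb : b ∈ S) (haH : a ∈ H)
    (hbH : b ∈ H) (hn : ¬ Commute a b) : ∃ k ∈ H, k * b * k⁻¹ = a := by
  obtain ⟨n, hn'⟩ := h.odd_of_not_commute ha hb hn
  refine ⟨(a * b) ^ (n + 1), pow_mem (mul_mem haH hbH) _, ?_⟩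
  rw [Tight.conj_pow_of_inverts (h.inverts ha hb),
    show n + 1 + (n + 1) = orderOf (a * b) + 1 by omega, pow_succ, pow_orderOf_eq_one, one_mul,
    mul_assoc, h.mul_self hb, mul_one]

theorem cl_subset_lineGrp : Cl S d ⊆ (lineGrp S d x : Set G) := fun _ he => subset_closure (Or.inl he)

theorem right_mem_lineGrp : x ∈ lineGrp S d x := subset_closure (Or.inr rfl)

theorem lineGrp_le (hx : x ∈ S) : lineGrp S d x ≤ closure S :=
  (closure_le _).2 fun y hy => subset_closure (hy.elim (fun h => h.1) fun h => (Set.mem_singleton_iff.1 h) ▸ hx)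

theorem right_mem_lineSet (h : Setup S) (hd : d ∈ S) (hx : x ∈ S) (hdx : ¬ Commute d x) :
    x ∈ lineSet S d x := by
  obtain ⟨k, hk, he⟩ := exists_conj_pair h (H := lineGrp S d x) hx hd right_mem_lineGrp
    (cl_subset_lineGrp (self_mem_cl hd)) fun e => hdx e.symm
  exact ⟨hx, k, hk, he⟩

theorem cl_subset_lineSet (h : Setup S) (hd : d ∈ S) (hx : x ∈ S) (hdx : ¬ Commute d x) :
    Cl S d ⊆ lineSet S d x := by
  intro e he
  obtain ⟨-, k, hk, hkx⟩ := right_mem_lineSet h hd hx hdx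
  obtain ⟨l, hl, hle⟩ := exists_conj_pair h (H := lineGrp S d x) he.1 hx (cl_subset_lineGrp he) right_mem_lineGrp
    fun hc => h.not_commute_of_same he.2 hx (fun e' => hdx e'.symm) hc.symm
  exact ⟨he.1, l * k, mul_mem hl hk, by rw [← hle, ← hkx]; group⟩

theorem closure_lineSet (h : Setup S) (hd : d ∈ S) (hx : x ∈ S) (hdx : ¬ Commute d x) :
    closure (lineSet S d x) = lineGrp S d x := by
  refine le_antisymm ((closure_le _).2 ?_) ((closure_le _).2 (Set.union_subset ?_ ?_))
  · rintro _ ⟨-, k, hk, rfl⟩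
    exact mul_mem (mul_mem hk (cl_subset_lineGrp (self_mem_cl hd))) (inv_mem hk)
  · exact fun e he => subset_closure (cl_subset_lineSet h hd hx hdx he)
  · rintro _ rfl
    exact subset_closure (right_mem_lineSet h hd hx hdx)

theorem conj_mem_lineSet (h : Setup S) (hx : x ∈ S) {g s : G} (hg : g ∈ lineGrp S d x) (hs : s ∈ lineSet S d x) :
    g * s * g⁻¹ ∈ lineSet S d x := by
  obtain ⟨hsS, k, hk, rfl⟩ := hs
  exact ⟨h.conj_mem (lineGrp_le hx hg) hsS, g * k, mul_mem hg hk, by group⟩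

/-- The members of a line commuting with `d` are its class. -/
theorem fibre_lineSet (h : Setup S) (hd : d ∈ S) (hx : x ∈ S) (hdx : ¬ Commute d x)
    (hcls : ∀ k ∈ lineSet S d x, Commute k d → Same S d k) :
    {e | e ∈ lineSet S d x ∧ Commute e d} = Cl S d :=
  Set.ext fun _ => ⟨fun he => ⟨he.1.1, hcls _ he.1 he.2⟩,
    fun he => ⟨cl_subset_lineSet h hd hx hdx he, (he.2.commute hd).symm⟩⟩

/-- A line is a line configuration. -/
theorem lineHyp (h : Setup S) (hd : d ∈ S) (hx : x ∈ S) (hdx : ¬ Commute d x)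
    (hcls : ∀ k ∈ lineSet S d x, Commute k d → Same S d k)
    (hmul : ∀ a ∈ S, ∀ b ∈ S, Same S a b → a ≠ b → a * b ∈ S) : LineHyp (lineSet S d x) d x := by
  have hcomm : ∀ a ∈ lineSet S d x, ∀ b ∈ lineSet S d x, Commute a b → Same S a b := by
    rintro _ ⟨haS, k, hk, rfl⟩ b hb hc
    have hb' := conj_mem_lineSet h hx (inv_mem hk) hb
    have h1 := commute_conj hc k⁻¹
    rw [show k⁻¹ * (k * d * k⁻¹) * k⁻¹⁻¹ = d by group] at h1
    have := h.same_conj (lineGrp_le hx hk) (hcls _ hb' h1.symm)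
    rwa [show k * (k⁻¹ * b * k⁻¹⁻¹) * k⁻¹ = b by group] at this
  have hres : ∀ a ∈ lineSet S d x, ∀ b ∈ lineSet S d x, Same S a b → Same (lineSet S d x) a b :=
    fun _ _ _ _ hs e he => hs e he.1
  have hmul' : ∀ a ∈ lineSet S d x, ∀ b ∈ lineSet S d x, Commute a b → a ≠ b → a * b ∈ lineSet S d x := by
    intro a ha b hb hc hne
    have hs := hcomm a ha b hb hc
    have hm := hmul a ha.1 b hb.1 hs hne
    obtain ⟨-, k, hk, rfl⟩ := ha
    have h2 : k⁻¹ * (k * d * k⁻¹ * b) * k ∈ Cl S d := by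
      refine ⟨by simpa using h.conj_mem (inv_mem (lineGrp_le hx hk)) hm, ?_⟩
      have := h.same_conj (inv_mem (lineGrp_le hx hk)) (h.same_of_triple (h.conj_mem (lineGrp_le hx hk) hd) hb.1 hc hm)
      simpa [mul_assoc] using this
    have := conj_mem_lineSet h hx hk (cl_subset_lineSet h hd hx hdx h2)
    rwa [show k * (k⁻¹ * (k * d * k⁻¹ * b) * k) * k⁻¹ = k * d * k⁻¹ * b by group] at this
  have hd' : d ∈ lineSet S d x := cl_subset_lineSet h hd hx hdx (self_mem_cl hd)
  refine ⟨⟨fun a ha => h.inv a ha.1, fun a ha b hb => ?_, fun a ha b hb => h.pair a ha.1 b hb.1, ?_, ?_⟩,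
    hd', right_mem_lineSet h hd hx hdx, hdx, fun a ha b hb hc => hres a ha b hb (hcomm a ha b hb hc), hmul', ?_⟩
  · exact conj_mem_lineSet h hx (closure_lineSet h hd hx hdx ▸ subset_closure hb) ha
  · intro a ha b hb
    by_cases hc : Commute a b
    · obtain ⟨k, hk, rfl⟩ := ha.2
      have he := conj_mem_lineSet h hx hk (right_mem_lineSet h hd hx hdx)
      have hne : ¬ Commute (k * d * k⁻¹) (k * x * k⁻¹) := fun e => hdx ((commute_conj_iff k).1 e)
      refine (Relation.ReflTransGen.single ⟨ha, he, hne⟩).tail ⟨he, hb, fun e => ?_⟩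
      exact hne (((hcomm _ ha b hb hc) _ he.1).2 e).symm
    · exact .single ⟨ha, hb, hc⟩
  · obtain ⟨b, hb, hne, hdb, hm, -⟩ := h.exists_triple hd
    exact ⟨d, hd', b, cl_subset_lineSet h hd hx hdx hb, hne.symm, hdb, cl_subset_lineSet h hd hx hdx hm⟩
  · rw [closure_lineSet h hd hx hdx, fibre_lineSet h hd hx hdx hcls]
    rfl

/-- `NonAb` excludes maps into groups with abelian 2-subgroups. -/
theorem NonAb.false_of_hom {X : Subgroup G} {C : Set G} (hna : NonAb X C) {K : Type u} [Group K]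
    (hK : ∀ U : Subgroup K, IsPGroup 2 ↥U → ∀ a ∈ U, ∀ b ∈ U, a * b = b * a) (φ : ↥X →* K)
    (hinj : ∀ e e' : ↥X, (e : G) ∈ C → (e' : G) ∈ C → φ e = φ e' → e = e') : False := by
  obtain ⟨Q, hQX, hQp, -, -, hQ⟩ := hna
  obtain ⟨a, b, hab⟩ := hQ K (φ.comp (inclusion hQX)) fun e e' he he' heq =>
    inclusion_injective hQX (hinj _ _ he he' heq)
  refine hab (hK ((φ.comp (inclusion hQX)).range) ?_ _ ⟨a, rfl⟩ _ ⟨b, rfl⟩)
  exact hQp.of_surjective _ (MonoidHom.rangeRestrict_surjective _)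

/-- The 2-subgroups of a group with the facts of `SL₂(q)` are abelian. -/
theorem L2Facts.comm_of_isPGroup {K : Type u} [Group K] {q : ℕ} (hf : L2Facts K q) (U : Subgroup K)
    (hU : IsPGroup 2 ↥U) : ∀ a ∈ U, ∀ b ∈ U, a * b = b * a := by
  obtain ⟨P, hP⟩ := hU.exists_le_sylow
  exact fun a ha b hb => hf.comm P a (hP ha) b (hP hb)

end Cfsg.Agent.Fus.OTLine
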