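import Cfsg.Agent.Lib.Fus.OddTransp.LineSets
import Cfsg.Agent.Lib.Fus.OddTransp.Main

/-!
# The type of a residue containing a line whose Sylow 2-subgroup is non-abelian
-/

set_option autoImplicit false
set_option linter.unusedSectionVars false
set_option linter.style.haveILetI false

namespace Cfsg.Agent.Fus.OTLine

open Subgroup OddTransp

universe u

/-- Every line of a connected setup with trivial core, in a group of smaller order, is linear. -/
def BelowL2 (n : ℕ) : Prop :=
  ∀ (H : Type u) [Group H] [Finite H] (T : Set H), Setup T → Nat.card ↥(closure T) < n → core T = ⊥ →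
    Connected T → ∀ d ∈ T, ∀ x ∈ T, ¬ Commute d x → IsL2Line (lineSet T d x) d

variable {G : Type u} [Group G] [Finite G] {S : Set G}

/-- The members of a line commuting with `d` are in its class. -/
theorem lineHyp_cls (h : Setup S) (hconn : Connected S) {d x : G} (hd : d ∈ S) (hx : x ∈ S)
    (hdx : ¬ Commute d x) {k : G} (hk : k ∈ lineSet S d x) (hkd : Commute k d) : Same S d k := by
  have hC := h.conn_props hconn
  obtain ⟨hkS, l, hl, hlk⟩ := hk
  have hcomm : ∀ y ∈ S, Commute y d → Commute y x → lineGrp S d x ≤ centralizer {y} := fun y hy h1 h2 =>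
    (closure_le _).2 fun e he => mem_centralizer_singleton_iff.2 (by
      rcases he with he | he
      · exact ((he.2 y hy).1 h1).eq.symm
      · rw [Set.mem_singleton_iff.1 he]; exact h2.eq.symm)
  have hkL : k ∈ lineGrp S d x := hlk ▸ mul_mem (mul_mem hl (cl_subset_lineGrp (self_mem_cl hd))) (inv_mem hl)
  by_cases hkx : Commute k x
  · exfalso
    have hc : ∀ g ∈ lineGrp S d x, Commute k g := by
      intro g hg
      have hle : lineGrp S d x ≤ centralizer {k} := (closure_le _).2 fun e he => mem_centralizer_singleton_iff.2 (by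
        rcases he with he | he
        · exact ((he.2 k hkS).1 hkd).eq.symm
        · rw [Set.mem_singleton_iff.1 he]; exact hkx.eq.symm)
      exact (mem_centralizer_singleton_iff.1 (hle hg)).symm
    refine hdx ?_
    have h1 := commute_conj (hc (l * x * l⁻¹) (mul_mem (mul_mem hl right_mem_lineGrp) (inv_mem hl))) l⁻¹
    rw [← hlk, show l⁻¹ * (l * d * l⁻¹) * l⁻¹⁻¹ = d by group, show l⁻¹ * (l * x * l⁻¹) * l⁻¹⁻¹ = x by group] at h1
    exact h1
  · exact hC.sep d hd x hx k hkS hdx hkd hkx fun y hy h1 h2 =>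
      (mem_centralizer_singleton_iff.1 (hcomm y hy h1 h2 hkL) :)

/-- Lines of a connected setup with trivial core. -/
theorem lineHyp_of_connected (h : Setup S) (hc0 : core S = ⊥) (hconn : Connected S) {d x : G} (hd : d ∈ S)
    (hx : x ∈ S) (hdx : ¬ Commute d x) : LineHyp (lineSet S d x) d x :=
  lineHyp h hd hx hdx (fun _ hk hkd => lineHyp_cls h hconn hd hx hdx hk hkd)
    fun _ ha _ hb hs hne => h.mul_mem hc0 hconn ha hb hs hne

/-- Lines in the quotient of a disconnected setup. -/
theorem lineHyp_bar {R : Set G} (hR : Setup R) (hnc : ¬ Connected R)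
    (htor : Invol.BenderCover.TorusSylow (Quot' R)) {d x : Quot' R} (hd : d ∈ bar R) (hx : x ∈ bar R)
    (hdx : ¬ Commute d x) : LineHyp (lineSet (bar R) d x) d x := by
  have hb := hR.bar_setup
  have hnc' : ¬ Connected (bar R) := fun e => hnc (hR.connected_bar_iff.1 e)
  refine lineHyp hb hd hx hdx (fun k hk hkd => (hb.same_of_not_connected hnc' hk.1 hd hkd).symm)
    fun a ha b hb' hs hne => mem_bar_of_involution hR htor (hb.mul_sq_of_commute ha hb' (hs.commute ha)) fun e => ?_
  exact hne ((mul_eq_one_iff_eq_inv.1 e).trans (hb.inv_eq hb'))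

/-- The group of a line inside a residue maps onto the line of the images. -/
theorem exists_line_hom {m d x : G} (h : Setup S) (hR : Setup (Res S m)) (hm : m ∈ S) (hd : d ∈ Res S m)
    (hx : x ∈ Res S m) : ∃ φ : ↥(lineGrp S d x) →* ↥(lineGrp (bar (Res S m)) (img _ hd) (img _ hx)),
      ∀ e (he : e ∈ Cl S d), ∃ he' : e ∈ Res S m, (φ ⟨e, cl_subset_lineGrp he⟩ : Quot' (Res S m)) = img _ he' := by
  have hcl := h.cl_subset_res hm hd
  have hle : lineGrp S d x ≤ closure (Res S m) :=
    (closure_le _).2 fun y hy => subset_closure (hy.elim (fun e => hcl e) fun e => (Set.mem_singleton_iff.1 e) ▸ hx)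
  let π := QuotientGroup.mk' (Cfsg.twoZCore ↥(closure (Res S m)))
  have hmem : lineGrp S d x ≤
      ((lineGrp (bar (Res S m)) (img _ hd) (img _ hx)).comap π).map (closure (Res S m)).subtype := by
    refine (closure_le _).2 fun y hy => ?_
    have hyR : y ∈ Res S m := hy.elim (fun e => hcl e) fun e => (Set.mem_singleton_iff.1 e) ▸ hx
    refine ⟨⟨y, subset_closure hyR⟩, subset_closure ?_, rfl⟩
    rcases hy with hy | hy
    · exact Or.inl ⟨img_mem_bar hyR, (hR.same_img_iff hd hyR).2 fun e he => hy.2 e he.1⟩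
    · obtain rfl := Set.mem_singleton_iff.1 hy
      exact Or.inr rfl
  refine ⟨(π.comp (inclusion hle)).codRestrict _ fun g => ?_, fun e he => ⟨hcl he, rfl⟩⟩
  obtain ⟨g', hg', he⟩ := hmem g.2
  have : inclusion hle g = g' := Subtype.ext he.symm
  show π (inclusion hle g) ∈ _
  rw [this]
  exact hg'

/-- Two different members of a class have different images in the quotient of a residue containing it. -/
theorem img_inj_of_same (h : Setup S) (hc0 : core S = ⊥) (hconn : Connected S) {m d e e' : G}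
    (hR : Setup (Res S m)) (hm : m ∈ S) (hd : d ∈ Res S m) (he : e ∈ Cl S d) (he' : e' ∈ Cl S d)
    (hcon : e * e' ∈ core (Res S m)) : e = e' := by
  by_contra hne
  have hs := he.2.symm.trans he'.2
  have hmem := h.mul_mem hc0 hconn he.1 he'.1 hs hne
  exact hR.not_mem_core (h.cl_subset_res hm hd ⟨hmem, he.2.trans (h.same_of_triple he.1 he'.1 (hs.commute he.1) hmem)⟩) hcon

theorem not_dvd_of_u3 {q : ℕ} (h2 : 2 ∣ q) (hq : 4 ≤ q) : ¬ q ^ 2 + 1 ∣ q ^ 3 * (q ^ 3 + 1) * (q ^ 2 - 1) := by
  intro hdvd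
  obtain ⟨k, rfl⟩ : ∃ k, q = k + 1 := ⟨q - 1, by omega⟩
  have hpar : ¬ 2 ∣ (k + 1) ^ 2 + 1 := fun h3 =>
    absurd ((Nat.dvd_add_right (dvd_pow h2 two_ne_zero)).1 h3) (by norm_num)
  have hc2 : Nat.Coprime ((k + 1) ^ 2 + 1) 2 := ((Nat.prime_two.coprime_iff_not_dvd).2 hpar).symm
  have hc1 : Nat.Coprime ((k + 1) ^ 2 + 1) ((k + 1) ^ 3) :=
    Nat.Coprime.pow_right 3 (by rw [Nat.coprime_comm, show (k + 1) ^ 2 + 1 = 1 + (k + 1) * (k + 1) by ring,
      Nat.coprime_add_mul_left_right]; exact Nat.coprime_one_right _)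
  have hc4 : Nat.Coprime ((k + 1) ^ 2 + 1) ((k + 1) ^ 2 - 1) := by
    refine (Nat.coprime_of_dvd fun p hp h1 h4 => ?_)
    have h5 : p ∣ 2 := by
      have := Nat.dvd_sub h1 h4
      rwa [show (k + 1) ^ 2 + 1 - ((k + 1) ^ 2 - 1) = 2 by
        have : 1 ≤ (k + 1) ^ 2 := Nat.one_le_pow _ _ (by omega)
        omega] at this
    exact hpar ((Nat.prime_dvd_prime_iff_eq hp Nat.prime_two).1 h5 ▸ h1)
  have hc5 : Nat.Coprime ((k + 1) ^ 2 + 1) ((k + 1) ^ 3 + 1) := by
    refine (Nat.coprime_of_dvd fun p hp h1 h4 => ?_)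
    have h5 : p ∣ k := by
      have h6 : (k + 1) * ((k + 1) ^ 2 + 1) = (k + 1) ^ 3 + 1 + k := by ring
      exact (Nat.dvd_add_right h4).1 (h6 ▸ h1.mul_left _)
    have h7 : p ∣ 2 := by
      have h8 : (k + 1) ^ 2 + 1 = k * (k + 2) + 2 := by ring
      exact (Nat.dvd_add_right (h5.mul_right _)).1 (h8 ▸ h1)
    exact hpar ((Nat.prime_dvd_prime_iff_eq hp Nat.prime_two).1 h7 ▸ h1)
  have := Nat.eq_one_of_dvd_coprimes ((hc1.mul_right hc5).mul_right hc4) dvd_rfl hdvd
  simp at this

/-- A residue containing a line with non-abelian Sylow subgroup is of Suzuki type. -/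
theorem residue_sz (h : Setup S) (hc0 : core S = ⊥) (hconn : Connected S)
    (ih : BelowL2.{u} (Nat.card ↥(closure S))) {m d x : G} (hm : m ∈ S) (hd : d ∈ Res S m) (hx : x ∈ Res S m)
    (hdx : ¬ Commute d x) (hna : NonAb (lineGrp S d x) (Cl S d)) :
    ¬ Connected (Res S m) ∧ Invol.BenderCover.TorusSylow (Quot' (Res S m)) ∧
      ∃ q, SzFacts (Quot' (Res S m)) q := by
  haveI : Fact (Nat.Prime 2) := ⟨Nat.prime_two⟩
  have hR := h.res_setup (h.conn_props hconn).rconn hm hd
  obtain ⟨φ, hφ⟩ := exists_line_hom h hR hm hd hx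
  have hinj : ∀ e e' : ↥(lineGrp S d x), (e : G) ∈ Cl S d → (e' : G) ∈ Cl S d → φ e = φ e' → e = e' := by
    intro e e' he he' heq
    obtain ⟨h1, e1⟩ := hφ e he
    obtain ⟨h2, e2⟩ := hφ e' he'
    refine Subtype.ext (img_inj_of_same h hc0 hconn hR hm hd he he' ((hR.img_eq_iff h1 h2).1 ?_))
    rw [← e1, ← e2]
    exact congrArg Subtype.val heq
  have hb := hR.bar_setup
  have hdx' : ¬ Commute (img _ hd) (img _ hx) := fun e => hdx ((hR.commute_img hd hx).1 e)
  have hlc := closure_lineSet hb (img_mem_bar hd) (img_mem_bar hx) hdx'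
  have hkill : ∀ q, L2Facts ↥(closure (lineSet (bar (Res S m)) (img _ hd) (img _ hx))) q → False := by
    intro q hf
    refine hna.false_of_hom (L2Facts.comm_of_isPGroup hf) ((MulEquiv.subgroupCongr hlc).symm.toMonoidHom.comp φ)
      fun e e' he he' heq => hinj e e' he he' ((MulEquiv.subgroupCongr hlc).symm.injective heq)
  have hnc : ¬ Connected (Res S m) := fun hcon => by
    refine hkill _ (ih _ (bar (Res S m)) hb ?_ hR.core_bar (hR.connected_bar_iff.2 hcon) _ (img_mem_bar hd) _
      (img_mem_bar hx) hdx').2.1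
    exact lt_of_le_of_lt hR.card_bar_le (h.res_card_lt hc0 hm)
  obtain ⟨htor, q, ⟨hf, -⟩ | ⟨-, hf⟩ | hf⟩ := bender_cases hR hnc
  · exact (hna.false_of_hom (L2Facts.comm_of_isPGroup hf)
      ((lineGrp (bar (Res S m)) (img _ hd) (img _ hx)).subtype.comp φ)
      fun e e' he he' heq => hinj e e' he he' (Subtype.ext heq)).elim
  · exact ⟨hnc, htor, q, hf⟩
  exfalso
  rcases (lineHyp_bar hR hnc htor (img_mem_bar hd) (img_mem_bar hx) hdx').cases with hl | hl
  · exact hkill _ hl.2.1
  obtain ⟨-, -, hsf, -, -⟩ := hl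
  -- the class has `q - 1` elements
  have hnc' : ¬ Connected (bar (Res S m)) := fun e => hnc (hR.connected_bar_iff.1 e)
  obtain ⟨P, hP1, hP2⟩ := exists_sylow_fibre hR hnc htor hd
  have hcls : ∀ k ∈ lineSet (bar (Res S m)) (img _ hd) (img _ hx), Commute k (img _ hd) →
      Same (bar (Res S m)) (img _ hd) k :=
    fun k hk hkd => (hb.same_of_not_connected hnc' hk.1 (img_mem_bar hd) hkd).symm
  have hcnt : {e | e ∈ lineSet (bar (Res S m)) (img _ hd) (img _ hx) ∧ Commute e (img _ hd)}.ncard + 1 = q := by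
    have h1 : (1 : Quot' (Res S m)) ∈ omegaOne (P : Subgroup (Quot' (Res S m))) := ⟨one_mem _, one_mul 1⟩
    rw [← hf.card P, ← Set.ncard_sdiff_singleton_add_one h1 (Set.toFinite _),
      fibre_lineSet hb (img_mem_bar hd) (img_mem_bar hx) hdx' hcls]
    congr 2
    ext w
    constructor
    · intro hw
      obtain ⟨b, hbR, rfl⟩ := exists_of_mem_bar hw.1
      exact ⟨(hP1 b hbR).2 ((hR.commute_img hbR hd).1 (hw.2.commute (img_mem_bar hd)).symm), hb.ne_one hw.1⟩
    · intro hw
      obtain ⟨b, hbR, hbd, rfl⟩ := hP2 w hw.1 fun e => hw.2 e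
      exact ⟨img_mem_bar hbR, (hb.same_of_not_connected hnc' (img_mem_bar hbR) (img_mem_bar hd)
        ((hR.commute_img hbR hd).2 hbd)).symm⟩
  rw [hcnt] at hsf
  have h1 : Nat.card (Quot' (lineSet (bar (Res S m)) (img _ hd) (img _ hx))) ∣ Nat.card (Quot' (Res S m)) :=
    (Subgroup.card_dvd_of_surjective _ (QuotientGroup.mk'_surjective _)).trans (Subgroup.card_subgroup_dvd_card _)
  have h2 : 2 ∣ q := by
    haveI : Finite ↥(closure (omegaOne (P : Subgroup (Quot' (Res S m))))) := inferInstance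
    have hc : (closure (omegaOne (P : Subgroup (Quot' (Res S m)))) : Set (Quot' (Res S m))) =
        omegaOne (P : Subgroup (Quot' (Res S m))) := by
      refine Set.Subset.antisymm (fun w hw => ?_) subset_closure
      induction hw using closure_induction with
      | mem y hy => exact hy
      | one => exact ⟨one_mem _, one_mul 1⟩
      | mul y z _ _ hy hz =>
        refine ⟨mul_mem hy.1 hz.1, ?_⟩
        rw [mul_assoc, ← mul_assoc z, ← omega_central htor P hy hz.1, mul_assoc y z z, hz.2, mul_one, hy.2]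
      | inv y _ hy => exact ⟨inv_mem hy.1, by rw [← mul_inv_rev, hy.2, inv_one]⟩
    have hcard : Nat.card ↥(closure (omegaOne (P : Subgroup (Quot' (Res S m))))) = q := by
      rw [← hf.card P]
      exact (Nat.card_coe_set_eq _).symm ▸ congrArg Set.ncard hc
    have h3 : orderOf (⟨img _ hd, subset_closure ((hP1 d hd).2 (Commute.refl d))⟩ :
      ↥(closure (omegaOne (P : Subgroup (Quot' (Res S m)))))) = 2 := by
        rw [← Subgroup.orderOf_coe]; exact hb.inv _ (img_mem_bar hd)
    rw [← hcard]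
    exact h3.symm.dvd.trans (orderOf_dvd_natCard _)
  exact not_dvd_of_u3 h2 hf.pos ((hsf.sq_dvd.trans h1).trans hf.dvd)

/-- In a residue of Suzuki type every line has a non-abelian Sylow subgroup. -/
theorem nonAb_of_residue (h : Setup S) (hc0 : core S = ⊥) (hconn : Connected S) {m d x : G} (hm : m ∈ S)
    (hd : d ∈ Res S m) (hx : x ∈ Res S m) (hdx : ¬ Commute d x) {q : ℕ}
    (hf : SzFacts (Quot' (Res S m)) q) : NonAb (lineGrp S d x) (Cl S d) := by
  have hR := h.res_setup (h.conn_props hconn).rconn hm hd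
  have hL := lineHyp_of_connected h hc0 hconn hd.1 hx.1 hdx
  have hlc := closure_lineSet h hd.1 hx.1 hdx
  rcases hL.cases with hl | hl
  · exfalso
    obtain ⟨hcore, hf2, -⟩ := hl
    haveI := hL.setup.isSimple_quot
    have hbot : Cfsg.twoZCore ↥(closure (lineSet S d x)) = ⊥ :=
      (map_eq_bot_iff_of_injective _ (closure (lineSet S d x)).subtype_injective).1 hcore
    have hle : closure (lineSet S d x) ≤ closure (Res S m) := by
      rw [hlc]
      exact (closure_le _).2 fun y hy => subset_closure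
        (hy.elim (fun e => h.cl_subset_res hm hd e) fun e => (Set.mem_singleton_iff.1 e) ▸ hx)
    let χ : ↥(closure (lineSet S d x)) →* Quot' (Res S m) :=
      (QuotientGroup.mk' (Cfsg.twoZCore ↥(closure (Res S m)))).comp (inclusion hle)
    have hker : χ.ker = ⊥ := by
      rcases ((inferInstance : χ.ker.Normal).map _ (QuotientGroup.mk'_surjective
        (Cfsg.twoZCore ↥(closure (lineSet S d x))))).eq_bot_or_eq_top with e | e
      · rw [Subgroup.map_eq_bot_iff, QuotientGroup.ker_mk', hbot] at e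
        exact le_bot_iff.1 e
      · exfalso
        obtain ⟨g, hg, hge⟩ := e.ge (mem_top (QuotientGroup.mk' _ (⟨d, subset_closure hL.hd⟩ : ↥(closure (lineSet S d x)))))
        rw [QuotientGroup.mk'_apply, QuotientGroup.mk'_apply, QuotientGroup.eq, hbot, mem_bot, inv_mul_eq_one] at hge
        subst hge
        exact hR.bar_setup.ne_one (img_mem_bar hd) (MonoidHom.mem_ker.1 hg)
    have h3 : 3 ∣ Nat.card (Quot' (Res S m)) :=
      hf2.three.trans (Subgroup.card_dvd_of_injective χ ((MonoidHom.ker_eq_bot_iff χ).1 hker))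
    exact hf.three h3
  · obtain ⟨-, -, -, -, hna⟩ := hl
    rwa [hlc, fibre_lineSet h hd.1 hx.1 hdx fun k hk hkd =>
      lineHyp_cls h hconn hd.1 hx.1 hdx hk hkd] at hna

end Cfsg.Agent.Fus.OTLine
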